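import Cfsg.Agent.Lib.Perm.KimuraFour.EvenBasic

/-!
# Orbits in normalisers, swapping involutions commute with the stabiliser involutions
-/

set_option autoImplicit false

namespace CfsgLib.KimuraFour

open MulAction

variable {G : Type*} [Group G] [Finite G]

local notation "Cent" J:max => Subgroup.centralizer (Singleton.singleton J : Set _)

/-- Orbit length times centraliser. -/
theorem card_orbit_mul (N : Subgroup G) {J : G} (P : G → Prop) (hJ : P J)
    (hinv : ∀ n ∈ N, ∀ x, P x → P (n * x * n⁻¹)) (htr : ∀ x, P x → ∃ n ∈ N, n * J * n⁻¹ = x) :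
    Nat.card ↥N = Nat.card {x : G // P x} * Nat.card ↥(N ⊓ Cent J : Subgroup G) := by
  letI : MulAction ↥N {x : G // P x} :=
    { smul := fun n x => ⟨n.1 * x.1 * n.1⁻¹, hinv n.1 n.2 x.1 x.2⟩
      one_smul := fun x => Subtype.ext (by show (1 : G) * x.1 * 1⁻¹ = x.1; group)
      mul_smul := fun m n x => Subtype.ext (by
        show (m.1 * n.1) * x.1 * (m.1 * n.1)⁻¹ = m.1 * (n.1 * x.1 * n.1⁻¹) * m.1⁻¹
        group) }
  haveI : IsPretransitive ↥N {x : G // P x} := ⟨fun x y => by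
    obtain ⟨n, hn, e⟩ := htr x.1 x.2
    obtain ⟨m, hm, e'⟩ := htr y.1 y.2
    refine ⟨⟨m * n⁻¹, mul_mem hm (inv_mem hn)⟩, Subtype.ext ?_⟩
    show (m * n⁻¹) * x.1 * (m * n⁻¹)⁻¹ = y.1
    rw [← e, ← e']; group⟩
  have h1 := (stabilizer ↥N (⟨J, hJ⟩ : {x : G // P x})).card_mul_index
  rw [MulAction.index_stabilizer_of_transitive] at h1
  rw [← h1, mul_comm]
  congr 1
  exact Nat.card_congr ⟨fun n => ⟨n.1.1, n.1.2, Subgroup.mem_centralizer_singleton_iff.2
      (mul_inv_eq_iff_eq_mul.1 (congrArg Subtype.val n.2))⟩,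
    fun n => ⟨⟨n.1, n.2.1⟩, Subtype.ext (mul_inv_eq_iff_eq_mul.2
      (Subgroup.mem_centralizer_singleton_iff.1 n.2.2))⟩, fun _ => rfl, fun _ => rfl⟩

/-- A two-subgroup of full order is a Sylow subgroup. -/
theorem exists_sylow_eq {T : Subgroup G} (hT : IsPGroup 2 ↥T) (hb : ¬ 2 * Nat.card ↥T ∣ Nat.card G) :
    ∃ P : Sylow 2 G, (P : Subgroup G) = T := by
  haveI : Fact (Nat.Prime 2) := ⟨Nat.prime_two⟩
  obtain ⟨P, hP⟩ := hT.exists_le_sylow
  refine ⟨P, (Subgroup.eq_of_le_of_card_ge hP ?_).symm⟩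
  obtain ⟨a, ha⟩ := IsPGroup.iff_card.1 hT
  obtain ⟨c, hc⟩ := IsPGroup.iff_card.1 P.isPGroup'
  by_contra h
  push Not at h
  rw [ha, hc] at h
  refine hb (((?_ : 2 * Nat.card ↥T ∣ 2 ^ c)).trans (hc ▸ Subgroup.card_subgroup_dvd_card _))
  rw [ha, ← pow_succ']
  exact pow_dvd_pow 2 ((Nat.pow_lt_pow_iff_right (by norm_num)).1 h)

/-- A subgroup in which all elements square to one is abelian. -/
theorem comm_of_exp_two {T : Subgroup G} (h : ∀ x ∈ T, x * x = 1) : ∀ x ∈ T, ∀ y ∈ T, x * y = y * x := by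
  intro x hx y hy
  rw [← inv_eq_of_mul_eq_one_right (h _ (mul_mem hx hy)), mul_inv_rev, inv_eq_of_mul_eq_one_right (h x hx),
    inv_eq_of_mul_eq_one_right (h y hy)]

variable {Ω : Type*} [MulAction G Ω] [Finite Ω] {a b : Ω} {J : G}

/-- With a central swap, every involution interchanging two points commutes with the involutions fixing both. -/
theorem Setting.swap_commute (S : Setting G Ω a b) {z : G} (hz : Setting.CenSwap a b z) {x w : G} {c d : Ω}
    (hcd : c ≠ d) (hx : orderOf x = 2) (hxc : x • c = d) (hw : w * w = 1) (hwc : w • c = c) (hwd : w • d = d) :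
    x * w = w * x := by
  obtain ⟨g, hg1, hg2⟩ := exists_smul_pair S.two S.ne hcd
  change g • a = c at hg1
  change g • b = d at hg2
  have hx' : orderOf (g⁻¹ * x * g) = 2 := by simpa using (orderOf_conj_eq g⁻¹ x).trans hx
  have hxa : (g⁻¹ * x * g) • a = b := by rw [mul_smul, mul_smul, hg1, hxc, ← hg2, inv_smul_smul]
  have hw' : g⁻¹ * w * g ∈ (pairStab a b : Subgroup G) := by
    rw [← conj_mem_pairStab_iff g, show g * (g⁻¹ * w * g) * g⁻¹ = w by group, hg1, hg2]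
    exact mem_pairStab.2 ⟨hwc, hwd⟩
  have hw2 : g⁻¹ * w * g * (g⁻¹ * w * g) = 1 := by
    rw [show g⁻¹ * w * g * (g⁻¹ * w * g) = g⁻¹ * (w * w) * g by group, hw]; group
  have key : g⁻¹ * x * g * (g⁻¹ * w * g) = g⁻¹ * w * g * (g⁻¹ * x * g) := by
    rcases S.swap_cases hz hx' hxa with e | ⟨v, hv, hv2, e⟩
    · rw [e, hz.2.2 _ hw']
    · rw [e]
      exact ((show Commute z (g⁻¹ * w * g) from hz.2.2 _ hw').mul_left
        (show Commute v (g⁻¹ * w * g) from (S.inv_mul hv (mul_self_of_orderOf hv2) hw' hw2).1)).eq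
  calc x * w = g * (g⁻¹ * x * g * (g⁻¹ * w * g)) * g⁻¹ := by group
    _ = g * (g⁻¹ * w * g * (g⁻¹ * x * g)) * g⁻¹ := by rw [key]
    _ = w * x := by group

end CfsgLib.KimuraFour
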