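import Cfsg.Agent.Lib.Perm.KimuraFour.SylowTools

/-!
# Odd degree: the four-group acts nontrivially on the fixed points of `J`
-/

set_option autoImplicit false

namespace CfsgLib.KimuraFour

open MulAction

variable {G : Type*} [Group G] [Finite G] {Ω : Type*} [MulAction G Ω] [Finite Ω] {a b : Ω} {J : G}

local notation "Cent" J:max => Subgroup.centralizer (Singleton.singleton J : Set _)

/-- A translation group whose elements all commute with the swapping involutions forces degree `j`. -/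
theorem InvData.not_all_conj [FaithfulSMul G Ω] {u : G} (D : InvData G Ω a b u)
    (hstab : ∀ x ∈ (pairStab a b : Subgroup G), x = 1 ∨ x = u)
    (hodd : Odd (fixCard Ω u))
    {z : G} (hz2 : orderOf z = 2) (hzu : IsConj u z) (hzu' : IsConj u (z * u)) (hzc : z * u = u * z) (hne : z ≠ u)
    (hn : Nat.card Ω = fixCard Ω u * (2 * fixCard Ω u - 1)) : False := by
  classical
  have hu2 := mul_self_of_orderOf D.ordJ
  have hu1 : u ≠ 1 := fun h => by simpa [h] using D.ordJ
  have hcardH : Nat.card ↥(pairStab a b : Subgroup G) = 2 := by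
    have hz : (pairStab a b : Subgroup G) = Subgroup.zpowers u := by
      refine le_antisymm (fun x hx => ?_) (Subgroup.zpowers_le.2 D.memJ)
      rcases hstab x hx with rfl | rfl
      · exact one_mem _
      · exact Subgroup.mem_zpowers x
    rw [hz, Nat.card_zpowers, D.ordJ]
  have hs : SqStab a b u := fun h hh _ => by
    rcases hstab h hh with rfl | rfl
    · exact one_mul _
    · exact hu2
  have hcap : Nat.card ↥(pairStab a b ⊓ Cent u : Subgroup G) = 2 := by
    rw [← hcardH, show (pairStab a b ⊓ Cent u : Subgroup G) = pairStab a b from inf_eq_left.2 fun x hx => by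
      rcases hstab x hx with rfl | rfl
      · exact one_mem _
      · exact Subgroup.mem_centralizer_singleton_iff.2 rfl]
  -- the induced group is sharply doubly transitive
  have hsharp : ∀ (x : ↥(inducedPerm Ω u)) (c d : ↥(fixPts Ω u)), c ≠ d → x • c = c → x • d = d → x = 1 := by
    intro x c d hcd hc hd
    obtain ⟨g, rfl⟩ := induce_surjective u x
    rw [induce_eq_one_iff]
    intro e he
    obtain ⟨k, hk, hka, hkb⟩ := D.exists_centralizing D.smul_a D.smul_b c.2 d.2 D.ne
      (fun h => hcd (Subtype.ext h))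
    have hm : k⁻¹ * (g : G) * k ∈ (pairStab a b : Subgroup G) := by
      rw [← conj_mem_pairStab_iff k, show k * (k⁻¹ * (g : G) * k) * k⁻¹ = g by group, hka, hkb]
      exact mem_pairStab.2 ⟨congrArg Subtype.val hc, congrArg Subtype.val hd⟩
    rcases hstab _ hm with h | h
    · rw [show (g : G) = k * (k⁻¹ * (g : G) * k) * k⁻¹ by group, h]; simp
    · rw [show (g : G) = k * (k⁻¹ * (g : G) * k) * k⁻¹ by group, h, mul_smul, mul_smul,
        smul_mem_fix (inv_mem hk) he, smul_inv_smul]
  haveI : FaithfulSMul ↥(inducedPerm Ω u) ↥(fixPts Ω u) := inferInstance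
  obtain ⟨p, N, R, hmem⟩ := exists_kernel_sharp (G := ↥(inducedPerm Ω u)) D.two_induced
    (by rw [card_fixPts]; exact D.two_le_fixCard) hsharp
  haveI : Nonempty ↥(fixPts Ω u) := ⟨⟨a, D.smul_a⟩⟩
  obtain ⟨k, hk⟩ := R.card_pow
  rw [card_fixPts] at hk
  have hpp := R.prime
  have hk1 : k ≠ 0 := fun h => by
    have := D.two_le_fixCard; rw [hk, h, pow_zero] at this; omega
  have hp : Odd p := by
    rw [hk] at hodd
    exact (Nat.odd_pow_iff hk1).1 hodd
  obtain ⟨E, hE⟩ := D.exists_eData hs (by omega) R hp fun x hx hfree => (hmem x).2 (Or.inr hfree)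
  haveI := Fact.mk hpp
  have hcE := hE.card_eq D.smul_a
  set j := fixCard Ω u with hj
  have hj2 := D.two_le_fixCard
  rw [← hj] at hj2
  have hG : Nat.card G = 2 * j * (j - 1) * (4 * j * j - 1) := by
    rw [card_eq_pairStab D.two D.ne, hn, hcardH]
    obtain ⟨i, hi⟩ : ∃ i, j = i + 2 := ⟨j - 2, by omega⟩
    rw [hi, show 2 * (i + 2) - 1 = 2 * i + 3 by omega, show (i + 2) - 1 = i + 1 by omega,
      show (i + 2) * (2 * i + 3) - 1 = (i + 1) * (2 * i + 5) by ring_nf; omega,
      show 4 * (i + 2) * (i + 2) - 1 = (2 * i + 3) * (2 * i + 5) by ring_nf; omega]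
    ring
  have hb : ¬ p * Nat.card ↥E ∣ Nat.card G := by
    rw [hcE, hG, show 2 * j * (j - 1) * (4 * j * j - 1) = (2 * (j - 1) * (4 * j * j - 1)) * j by ring]
    intro h
    have h' := Nat.dvd_of_mul_dvd_mul_right (show 0 < j by omega) h
    have hpj : p ∣ j := by rw [hk]; exact dvd_pow_self p hk1
    rcases (hpp.dvd_mul).1 h' with h1 | h1
    · rcases (hpp.dvd_mul).1 h1 with h2 | h2
      · have := (Nat.prime_dvd_prime_iff_eq hpp Nat.prime_two).1 h2
        rw [this] at hp; exact absurd hp (by decide)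
      · have : p ∣ 1 := by
          have := Nat.dvd_sub hpj h2
          rwa [show j - (j - 1) = 1 by omega] at this
        exact hpp.one_lt.ne' (Nat.dvd_one.1 this)
    · have h3 : p ∣ 4 * j * j := hpj.trans (dvd_mul_left j (4 * j))
      have := Nat.dvd_sub h3 h1
      rw [show 4 * j * j - (4 * j * j - 1) = 1 by
        have : 1 ≤ 4 * j * j := by nlinarith
        omega] at this
      exact hpp.one_lt.ne' (Nat.dvd_one.1 this)
  have hzC : z ∈ Cent u := Subgroup.mem_centralizer_singleton_iff.2 hzc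
  have hall : ∀ x ∈ Subgroup.centralizer (E : Set G), x * x = 1 → x = 1 ∨ x = u := by
    refine involution_centralizing D (fun x hxc hfix => ?_) hE hz2 hne hzc (hE.norm hzC) ?_ (Or.inl hb)
    · exact hstab x (mem_pairStab.2 ⟨hfix a D.smul_a, hfix b D.smul_b⟩)
    intro w hw x hxE hxw hxu r hr hr2 hrp ⟨m, hm⟩
    have hwc : IsConj u w ∧ w * u = u * w := by
      rcases hw with rfl | rfl
      · exact ⟨hzu, hzc⟩
      · exact ⟨hzu', by rw [hzc, mul_assoc]; conv_lhs => rw [show z * u = u * z from hzc]⟩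
    obtain ⟨hwconj, hwu⟩ := hwc
    haveI := Fact.mk hr
    have := Fintype.ofFinite Ω
    have hodd' : Odd (orderOf x) := by
      obtain ⟨i, -, hi⟩ := (Nat.dvd_prime_pow hr).1 (orderOf_dvd_of_pow_eq_one hm)
      rw [hi]; exact (hr.odd_of_ne_two hr2).pow
    let σ : Equiv.Perm {c : Ω // w • c = c} := (MulAction.toPerm (α := G) (β := Ω) x).subtypePerm fun c => by
      show w • x • c = x • c ↔ w • c = c
      rw [← mul_smul, ← hxw, mul_smul, (MulAction.injective x).eq_iff]
    have hσ : ∀ n : ℕ, ∀ c : {c : Ω // w • c = c}, ((σ ^ n) c).1 = x ^ n • c.1 := by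
      intro n
      induction n with
      | zero => simp
      | succ n ih =>
        intro c
        rw [pow_succ', Equiv.Perm.mul_apply, pow_succ', mul_smul, ← ih c]
        rfl
    have h := Equiv.Perm.card_compl_support_modEq (p := r) (n := m) (σ := σ) (Equiv.ext fun c => Subtype.ext (by
      rw [hσ, hm, one_smul]; rfl))
    rw [← Nat.card_eq_fintype_card (α := {c : Ω // w • c = c}),
      show Nat.card {c : Ω // w • c = c} = j from D.fixCard_of_conj hwconj] at h
    obtain ⟨⟨d, hwd⟩, hxd⟩ : ∃ d, σ d = d := by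
      by_contra hcon
      push Not at hcon
      rw [show σ.supportᶜ = ∅ by ext c; simp [hcon c], Finset.card_empty] at h
      have := Nat.modEq_zero_iff_dvd.1 h.symm
      rw [hk] at this
      exact hrp ((Nat.prime_dvd_prime_iff_eq hr hpp).1 (hr.dvd_of_dvd_pow this))
    have hxd' : x • d = d := congrArg Subtype.val hxd
    have hxi : x⁻¹ • d = d := by rw [inv_smul_eq_iff, hxd']
    by_cases hud : u • d = d
    · have hxfix : ∀ c : Ω, u • c = c → x • c = c := by
        intro c hc
        obtain ⟨e, he, hec⟩ := hE.trans d c hud hc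
        rw [← hec, ← mul_smul, ← Subgroup.mem_centralizer_iff.1 hxE e he, mul_smul, hxd']
      rcases hstab x (mem_pairStab.2 ⟨hxfix a D.smul_a, hxfix b D.smul_b⟩) with h1 | h1
      · exact h1
      · rw [h1, D.ordJ] at hodd'; exact absurd hodd' (by decide)
    · refine D.eq_one_of_fix_two hs hwconj hxw hodd' (Ne.symm hud) hwd ?_ hxd' ?_
      · rw [← mul_smul, hwu, mul_smul, hwd]
      · have : x * u = u * x⁻¹ := by
          rw [← hxu, inv_of_orderOf D.ordJ]
          calc x * u = (u * u) * x * u := by rw [hu2, one_mul]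
            _ = _ := by group
        rw [← mul_smul, this, mul_smul, hxi]
  have hNC : Subgroup.normalizer (E : Set G) ≤ Cent u := by
    intro g hg
    have hm : g * u * g⁻¹ ∈ Subgroup.centralizer (E : Set G) :=
      hE.centralizer_conj hg (Subgroup.mem_centralizer_iff.2 fun e he =>
        Subgroup.mem_centralizer_singleton_iff.1 (hE.le_cent he))
    rcases hall _ hm (by rw [show g * u * g⁻¹ * (g * u * g⁻¹) = g * (u * u) * g⁻¹ by group, hu2]; group) with h | h
    · exact absurd (conj_eq_one_iff.1 h) hu1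
    · exact Subgroup.mem_centralizer_singleton_iff.2 (mul_inv_eq_iff_eq_mul.1 h)
  have hidx := index_modEq_one hE.isPGroup hb hNC
  have h1 := (Cent u).card_mul_index
  rw [D.card_cent, hcap, hG, ← hj] at h1
  have h2 : (Cent u).index + 1 = 4 * j * j := by
    have h3 : (Cent u).index = 4 * j * j - 1 := by
      refine Nat.eq_of_mul_eq_mul_left (show 0 < j * (j - 1) * 2 by
        have : 0 < j * (j - 1) := Nat.mul_pos (by omega) (by omega); omega) ?_
      rw [h1]; ring
    have : 1 ≤ 4 * j * j := by nlinarith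
    omega
  have hpd : p ∣ 4 * j * j := Dvd.dvd.trans (b := j) (by rw [hk]; exact dvd_pow_self p hk1) (dvd_mul_left j (4 * j))
  rw [← h2] at hpd
  have h4 : p ∣ 2 := by
    have h5 : (Cent u).index + 1 ≡ 2 [MOD p] := hidx.add_right 1
    exact (h5.dvd_iff dvd_rfl).1 hpd
  have := (Nat.prime_dvd_prime_iff_eq hpp Nat.prime_two).1 h4
  rw [this] at hp; exact absurd hp (by decide)

namespace Setting

variable (S : Setting G Ω a b) (D : InvData G Ω a b J) (hB : ¬ CaseA a b J) (hodd : Odd (fixCard Ω J))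

include S D hB hodd

/-- Either the induced group has a translation group in the centraliser of `J` normalised only there, or `False`. -/
theorem caseB_data : 9 ≤ fixCard Ω J ∧ ∃ (p k : ℕ) (E : Subgroup G), EData Ω J p E ∧ 0 < k ∧ fixCard Ω J = p ^ k ∧
    ((¬ p * Nat.card ↥E ∣ Nat.card G ∨
      (¬ p * p * Nat.card ↥E ∣ Nat.card G ∧ ∀ z : G, ¬ CenSwap a b z)) →
      Subgroup.normalizer (E : Set G) ≤ Cent J) := by
  classical
  have := Fintype.ofFinite Ω
  haveI := S.faithful
  obtain ⟨v, hvH, hv2, D', hstab⟩ := S.exists_induced D hB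
  set X := ↥(inducedPerm Ω J)
  set u := induce Ω J v with hu
  haveI : Nonempty ↥(fixPts Ω J) := ⟨D.fa⟩
  have hu2 := mul_self_of_orderOf D'.ordJ
  have hu1 : u ≠ 1 := fun h => by simpa [h] using D'.ordJ
  have hstabc : Nat.card ↥(pairStab D.fa D.fb : Subgroup X) = 2 := by
    have hz : (pairStab D.fa D.fb : Subgroup X) = Subgroup.zpowers u := by
      refine le_antisymm (fun x hx => ?_) (Subgroup.zpowers_le.2 D'.memJ)
      rcases hstab x hx with rfl | rfl
      · exact one_mem _
      · exact Subgroup.mem_zpowers _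
    rw [hz, Nat.card_zpowers, D'.ordJ]
  -- the formula in the induced group
  have hγ : InvData.gamma D.fa D.fb u = 1 := by
    rw [InvData.gamma, Nat.card_eq_one_iff_unique]
    refine ⟨⟨fun x y => Subtype.ext ?_⟩, ⟨⟨u, IsConj.refl u, mem_pairStab.1 D'.memJ⟩⟩⟩
    have : ∀ x : {x : X // IsConj u x ∧ x • D.fa = D.fa ∧ x • D.fb = D.fb}, x.1 = u := fun x =>
      (hstab x.1 (mem_pairStab.2 x.2.2)).resolve_left fun h => by
        have := D'.orderOf_of_conj x.2.1
        rw [h, orderOf_one] at this; norm_num at this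
    rw [this x, this y]
  have hf := D'.formula
  rw [hγ, one_mul, card_fixPts] at hf
  set j := fixCard ↥(fixPts Ω J) u with hj
  set i := fixCard Ω J with hi
  have hj2 := D'.two_le_fixCard
  rw [← hj] at hj2
  have hji : j ≤ i := by
    have := fixCard_le (Ω := ↥(fixPts Ω J)) u
    rwa [card_fixPts, ← hi, ← hj] at this
  have hlt : j < i := by
    refine lt_of_le_of_ne hji fun h => hu1 ?_
    refine eq_of_smul_eq_smul (α := ↥(fixPts Ω J)) fun c => ?_
    rw [one_smul]
    have hb : Function.Bijective (Subtype.val : {c : ↥(fixPts Ω J) // u • c = c} → ↥(fixPts Ω J)) :=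
      (Nat.bijective_iff_injective_and_card _).2 ⟨Subtype.val_injective, by rw [card_fixPts, ← hi, ← h]; rfl⟩
    obtain ⟨⟨d, hd⟩, rfl⟩ := hb.2 c
    exact hd
  have hjodd : Odd j := by
    have h := parity_fixCard (Ω := ↥(fixPts Ω J)) hu2
    rw [card_fixPts, ← hi, ← hj] at h
    rw [Nat.odd_iff] at hodd ⊢
    omega
  -- a swapping involution
  obtain ⟨z, hzc, hza⟩ : ∃ z : X, IsConj u z ∧ z • D.fa = D.fb := by
    by_contra hcon
    push Not at hcon
    rw [InvData.beta, Nat.card_eq_zero.2 (Or.inl ⟨fun x => hcon x.1 x.2.1 x.2.2⟩), zero_mul] at hf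
    omega
  have hz2 := D'.orderOf_of_conj hzc
  have hzb : z • D.fb = D.fa := by rw [← hza, smul_of_mul_self (mul_self_of_orderOf hz2)]
  have hzu : z * u = u * z := by
    have hm : z * u * z⁻¹ ∈ (pairStab D.fa D.fb : Subgroup X) := by
      obtain ⟨h1, h2⟩ := mem_pairStab.1 D'.memJ
      have := (conj_mem_pairStab_iff (a := D.fa) (b := D.fb) z u).2 D'.memJ
      rw [hza, hzb] at this
      exact mem_pairStab.2 ⟨(mem_pairStab.1 this).2, (mem_pairStab.1 this).1⟩
    rcases hstab _ hm with h | h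
    · exact absurd (conj_eq_one_iff.1 h) hu1
    · exact mul_inv_eq_iff_eq_mul.1 h
  have hswap : ∀ x : X, orderOf x = 2 → x • D.fa = D.fb → x = z ∨ x = z * u := by
    intro x hx hxa
    have hxb : x • D.fb = D.fa := by rw [← hxa, smul_of_mul_self (mul_self_of_orderOf hx)]
    have hm : z * x ∈ (pairStab D.fa D.fb : Subgroup X) := mem_pairStab.2
      ⟨by rw [mul_smul, hxa, hzb], by rw [mul_smul, hxb, hza]⟩
    rcases hstab _ hm with h | h
    · left; rw [eq_inv_of_mul_eq_one_right h, inv_of_orderOf hz2]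
    · right
      rw [← h, ← mul_assoc, mul_self_of_orderOf hz2, one_mul]
  have hzu2 : orderOf (z * u) = 2 := orderOf_two_of (by
    rw [show z * u * (z * u) = z * (u * z) * u by group, ← hzu,
      show z * (z * u) * u = (z * z) * (u * u) by group, mul_self_of_orderOf hz2, hu2, mul_one]) (fun h => D.fa_ne_fb (by
    have := congrArg (· • D.fa) h
    simp only [one_smul, mul_smul, (mem_pairStab.1 D'.memJ).1, hza] at this
    exact this.symm))
  have hzua : (z * u) • D.fa = D.fb := by rw [mul_smul, (mem_pairStab.1 D'.memJ).1, hza]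
  have hzne : z ≠ z * u := fun h => hu1 (by simpa using h.symm)
  by_cases hboth : IsConj u (z * u)
  · exfalso
    have hβ : InvData.beta D.fa D.fb u = 2 := by
      rw [InvData.beta, Nat.card_eq_two_iff]
      refine ⟨⟨z, hzc, hza⟩, ⟨z * u, hboth, hzua⟩, fun h => hzne (congrArg Subtype.val h), ?_⟩
      ext x
      simp only [Set.mem_insert_iff, Set.mem_singleton_iff, Set.mem_univ, iff_true]
      exact (hswap x.1 (D'.orderOf_of_conj x.2.1) x.2.2).imp (fun h => Subtype.ext h) fun h => Subtype.ext h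
    rw [hβ] at hf
    refine InvData.not_all_conj D' hstab (hj ▸ hjodd) hz2 hzc hboth hzu (fun h => ?_) ?_
    · rw [h, (mem_pairStab.1 D'.memJ).1] at hza; exact D.fa_ne_fb hza
    · rw [card_fixPts, ← hi, ← hj]
      obtain ⟨q, hq⟩ : ∃ q, j = q + 2 := ⟨j - 2, by omega⟩
      rw [hq, show q + 2 - 1 = q + 1 by omega] at hf
      rw [hq, show 2 * (q + 2) - 1 = 2 * q + 3 by omega]
      have : i = (q + 2) + 2 * ((q + 2) * (q + 1)) := by omega
      rw [this]; ring
  -- one of the two swapping involutions is conjugate to `u`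
  have hi9 : 9 ≤ i := by
    have hβ : InvData.beta D.fa D.fb u = 1 := by
      rw [InvData.beta, Nat.card_eq_one_iff_unique]
      refine ⟨⟨fun x y => Subtype.ext ?_⟩, ⟨⟨z, hzc, hza⟩⟩⟩
      have : ∀ x : {x : X // IsConj u x ∧ x • D.fa = D.fb}, x.1 = z := fun x =>
        (hswap x.1 (D'.orderOf_of_conj x.2.1) x.2.2).resolve_right fun h => hboth (h ▸ x.2.1)
      rw [this x, this y]
    rw [hβ, one_mul] at hf
    obtain ⟨q, hq⟩ := hjodd
    have : 3 ≤ j := by omega
    have : 3 * 2 ≤ j * (j - 1) := Nat.mul_le_mul this (by omega)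
    omega
  obtain ⟨p, N, R⟩ := exists_kernel_odd (G := X) D' hstab (by rw [card_fixPts]; exact hodd) (by
    rw [Nat.card_eq_one_iff_unique]
    refine ⟨⟨fun x y => Subtype.ext ?_⟩, ⟨⟨z * u, hzu2, hboth, hzua⟩⟩⟩
    have : ∀ x : {x : X // orderOf x = 2 ∧ ¬ IsConj u x ∧ x • D.fa = D.fb}, x.1 = z * u := fun x =>
      (hswap x.1 x.2.1 x.2.2.2).resolve_left fun h => x.2.2.1 (h ▸ hzc)
    rw [this x, this y])
  have hpp := R.prime
  haveI := Fact.mk hpp
  obtain ⟨k, hk⟩ := R.card_pow
  rw [card_fixPts, ← hi] at hk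
  have hk1 : k ≠ 0 := fun h => by rw [hk, h, pow_zero] at hi9; omega
  have hp : Odd p := by
    rw [hk] at hodd
    exact (Nat.odd_pow_iff hk1).1 hodd
  have hXc : Nat.card X = i * (i - 1) * 2 := by
    rw [card_eq_pairStab D'.two D'.ne, hstabc, card_fixPts]
  have hNsat : ∀ x : X, x ^ p = 1 → (∀ c : ↥(fixPts Ω J), x • c ≠ c) → x ∈ N := by
    intro x hx _
    haveI := R.normal
    refine mem_of_normal_pgroup N (fun y => ⟨1, Subtype.ext (by rw [pow_one]; exact R.pow y.1 y.2)⟩) ?_
      ⟨1, by rwa [pow_one]⟩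
    rw [R.card, card_fixPts, ← hi, hXc, show i * (i - 1) * 2 = ((i - 1) * 2) * i by ring]
    intro h
    have h' := Nat.dvd_of_mul_dvd_mul_right (show 0 < i by omega) h
    rcases (hpp.dvd_mul).1 h' with h1 | h1
    · have hpi : p ∣ i := by rw [hk]; exact dvd_pow_self p hk1
      have := Nat.dvd_sub hpi h1
      rw [show i - (i - 1) = 1 by omega] at this
      exact hpp.one_lt.ne' (Nat.dvd_one.1 this)
    · have := (Nat.prime_dvd_prime_iff_eq hpp Nat.prime_two).1 h1
      rw [this] at hp; exact absurd hp (by decide)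
  have hs : SqStab a b J := fun h hh hc => (S.mem_cent_iff D hh).1 (Subgroup.mem_centralizer_singleton_iff.2 hc)
  obtain ⟨E, hE⟩ := D.exists_eData hs (S.card_inf_cent D).le R hp hNsat
  refine ⟨hi9, p, k, E, hE, Nat.pos_of_ne_zero hk1, hk, fun hb => ?_⟩
  have hJ2 := mul_self_of_orderOf D.ordJ
  have hJC := Subgroup.mem_centralizer_singleton_iff.1 v.2
  have hvJ : (v : G) ≠ J := fun h => hu1 ((induce_eq_one_iff v).2 fun c hc => by rw [h]; exact hc)
  have hb' : ¬ p * Nat.card ↥E ∣ Nat.card G ∨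
      (¬ p * p * Nat.card ↥E ∣ Nat.card G ∧ ∃ s ∈ Cent J, s * (v : G) * s⁻¹ = v * J) := by
    refine hb.imp id fun ⟨h1, hno⟩ => ⟨h1, ?_⟩
    obtain ⟨s₀, t, v₀, hd⟩ := S.exists_symData hno
    obtain ⟨s, hd', -⟩ := hd.exists_at S D.memJ D.ordJ
    refine ⟨s, Subgroup.mem_centralizer_singleton_iff.2 (mul_inv_eq_iff_eq_mul.1 hd'.fix), ?_⟩
    have hsH : s * (v : G) * s⁻¹ ∈ (pairStab a b : Subgroup G) :=
      S.conj_mem_of_swap hd'.hsa hd'.swap_back hvH
    have hne1 : s * (v : G) * s⁻¹ ≠ J := fun h => hvJ (by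
      apply (MulAut.conj s).injective
      show s * (v : G) * s⁻¹ = s * J * s⁻¹
      rw [h, hd'.fix])
    have hne2 : s * (v : G) * s⁻¹ ≠ v := by
      intro h
      have hdis := hd'.conjugates_ne S
      rcases S.three_cycle hd'.htH hd'.ht D.memJ D.ordJ hvH hv2 with e | e | e
      · exact hvJ e
      · rw [e, hd'.swap] at h
        first
        | exact hdis.2.2 h
        | exact hdis.2.2 h.symm
      · rw [e, hd'.swap'] at h
        first
        | exact hdis.2.2 h
        | exact hdis.2.2 h.symm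
    exact (S.inv_third hvH hv2 D.memJ D.ordJ hsH ((orderOf_conj_eq s _).trans hv2) hvJ (Ne.symm hne2)
      (Ne.symm hne1)).symm
  have hvJc : IsConj J (v : G) := S.isConj_of_mem D hvH hv2
  have hvJ2 : orderOf ((v : G) * J) = 2 := orderOf_two_of
    (S.inv_mul hvH (mul_self_of_orderOf hv2) D.memJ hJ2).2 fun h =>
      hvJ ((eq_inv_of_mul_eq_one_left h).trans (inv_of_orderOf D.ordJ))
  obtain ⟨e, he, hea⟩ := hE.trans a b D.smul_a D.smul_b
  have he1 : e ≠ 1 := fun h => S.ne (by rw [← hea, h, one_smul])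
  have hev : e * (v : G) = v * e := by
    have hm := (Subgroup.mem_normalizer_iff.1 (hE.norm v.2) e).1 he
    have h1 : e⁻¹ * ((v : G) * e * (v : G)⁻¹) = 1 := by
      obtain ⟨h1, h2⟩ := mem_pairStab.1 hvH
      refine hE.free _ (mul_mem (inv_mem he) hm) a D.smul_a ?_
      rw [mul_smul, mul_smul, mul_smul, show (v : G)⁻¹ • a = a by rw [inv_smul_eq_iff, h1], hea, h2,
        inv_smul_eq_iff, hea]
    exact (mul_inv_eq_iff_eq_mul.1 (inv_mul_eq_one.1 h1).symm).symm
  have heJ : e * J = J * e := Subgroup.mem_centralizer_singleton_iff.1 (hE.le_cent he)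
  have hall : ∀ x ∈ Subgroup.centralizer (E : Set G), x * x = 1 → x = 1 ∨ x = J := by
    refine involution_centralizing D (fun x hxc hfix => ?_) hE hv2 hvJ hJC (hE.norm v.2) ?_ hb'
    · have hxH : x ∈ (pairStab a b : Subgroup G) := mem_pairStab.2 ⟨hfix a D.smul_a, hfix b D.smul_b⟩
      have hx2 := (S.mem_cent_iff D hxH).1 (Subgroup.mem_centralizer_singleton_iff.2 hxc)
      by_contra hcon
      push Not at hcon
      refine hu1 ((induce_eq_one_iff v).2 fun c hc => ?_)
      by_cases hxv : x = v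
      · rw [← hxv]; exact hfix c hc
      have h3 := S.inv_third hvH hv2 D.memJ D.ordJ hxH (orderOf_two_of hx2 hcon.1) hvJ (Ne.symm hxv)
        (Ne.symm hcon.2)
      have h4 := hfix c hc
      rwa [← h3, mul_smul, hc] at h4
    intro w hw x hxE hxw _ r hr hr2 hrp hm
    haveI := Fact.mk hr
    have hxe : x * e = e * x := (Subgroup.mem_centralizer_iff.1 hxE e he).symm
    have hep := hE.pow e he
    rcases hw with rfl | rfl
    · exact D.eq_one_of_commute hs hp hk hvJc hxw hev hxe hr2 hrp hm hep he1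
    · exact D.eq_one_of_commute hs hp hk (S.isConj_of_mem D (mul_mem hvH D.memJ) hvJ2) hxw
        (by rw [← mul_assoc, hev, mul_assoc, heJ, mul_assoc]) hxe hr2 hrp hm hep he1
  intro g hg
  have hm : g * J * g⁻¹ ∈ Subgroup.centralizer (E : Set G) :=
    hE.centralizer_conj hg (Subgroup.mem_centralizer_iff.2 fun e he =>
      Subgroup.mem_centralizer_singleton_iff.1 (hE.le_cent he))
  rcases hall _ hm (by rw [show g * J * g⁻¹ * (g * J * g⁻¹) = g * (J * J) * g⁻¹ by group, hJ2]; group) with h | h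
  · exact absurd (conj_eq_one_iff.1 h) (fun h => by simpa [h] using D.ordJ)
  · exact Subgroup.mem_centralizer_singleton_iff.2 (mul_inv_eq_iff_eq_mul.1 h)

/-- No such group of degree `i (2 i - 1)`. -/
theorem not_six_caseB (hno : ∀ z : G, ¬ CenSwap a b z)
    (hn : Nat.card Ω = fixCard Ω J * (2 * fixCard Ω J - 1)) : False := by
  obtain ⟨hi9, p, k, E, hE, hk1, hk, hNC⟩ := S.caseB_data D hB hodd
  haveI := Fact.mk hE.prime
  set i := fixCard Ω J with hi
  have hp2 : p ≠ 2 := fun h => by have := hE.odd; rw [h] at this; exact absurd this (by decide)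
  have hpi : p ∣ i := by rw [hk]; exact dvd_pow_self p hk1.ne'
  have hG : Nat.card G = (12 * (i - 1) * (4 * i * i - 1)) * i := by
    rw [card_eq_pairStab S.two S.ne, S.card_H, hn]
    obtain ⟨q, hq⟩ : ∃ q, i = q + 2 := ⟨i - 2, by omega⟩
    rw [hq, show 2 * (q + 2) - 1 = 2 * q + 3 by omega, show (q + 2) - 1 = q + 1 by omega,
      show (q + 2) * (2 * q + 3) - 1 = (q + 1) * (2 * q + 5) by ring_nf; omega,
      show 4 * (q + 2) * (q + 2) - 1 = (2 * q + 3) * (2 * q + 5) by ring_nf; omega]
    ring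
  have hcE : Nat.card ↥E = i := hE.card_eq D.smul_a
  have hfree : ¬ p ∣ (i - 1) * (4 * i * i - 1) := by
    intro h
    rcases (hE.prime.dvd_mul).1 h with h1 | h1
    · have := Nat.dvd_sub hpi h1
      rw [show i - (i - 1) = 1 by omega] at this
      exact hE.prime.one_lt.ne' (Nat.dvd_one.1 this)
    · have h3 : p ∣ 4 * i * i := hpi.trans (dvd_mul_left i (4 * i))
      have := Nat.dvd_sub h3 h1
      rw [show 4 * i * i - (4 * i * i - 1) = 1 by
        have : 1 ≤ 4 * i * i := by nlinarith
        omega] at this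
      exact hE.prime.one_lt.ne' (Nat.dvd_one.1 this)
  by_cases hp3 : p = 3
  · subst hp3
    have hb : ¬ 3 * 3 * Nat.card ↥E ∣ Nat.card G := by
      rw [hcE, hG]
      intro h
      have h' := Nat.dvd_of_mul_dvd_mul_right (show 0 < i by omega) h
      rw [show 12 * (i - 1) * (4 * i * i - 1) = 3 * (4 * ((i - 1) * (4 * i * i - 1))) by ring] at h'
      exact hfree (((Nat.prime_three.dvd_mul).1 (Nat.dvd_of_mul_dvd_mul_left (by norm_num) h')).resolve_left
        (by norm_num))
    have hN := hNC (Or.inr ⟨hb, hno⟩)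
    have h1 : 3 ^ (k + 1) ∣ Nat.card ↥(Subgroup.normalizer (E : Set G)) := by
      refine Sylow.prime_pow_dvd_card_normalizer ?_ (by rw [hcE, hk])
      rw [hG, pow_succ', ← hk]
      exact mul_dvd_mul_right ((show 3 ∣ 12 by norm_num).trans ((dvd_mul_right _ _).trans (dvd_mul_right _ _))) i
    have h2 := h1.trans (Subgroup.card_dvd_of_le hN)
    rw [S.card_cent_four D, ← hi, pow_succ', ← hk, show 4 * (i * (i - 1)) = (4 * (i - 1)) * i by ring] at h2
    have h3 := Nat.dvd_of_mul_dvd_mul_right (show 0 < i by omega) h2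
    exact hfree (dvd_mul_of_dvd_left (((Nat.prime_three.dvd_mul).1 h3).resolve_left (by norm_num)) _)
  · have hb : ¬ p * Nat.card ↥E ∣ Nat.card G := by
      rw [hcE, hG]
      intro h
      have h' := Nat.dvd_of_mul_dvd_mul_right (show 0 < i by omega) h
      rw [mul_assoc] at h'
      rcases (hE.prime.dvd_mul).1 h' with h1 | h1
      · have h12 : p ∣ 2 ^ 2 * 3 := by simpa using h1
        rcases (hE.prime.dvd_mul).1 h12 with h2 | h2
        · exact hp2 ((Nat.prime_dvd_prime_iff_eq hE.prime Nat.prime_two).1 (hE.prime.dvd_of_dvd_pow h2))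
        · exact hp3 ((Nat.prime_dvd_prime_iff_eq hE.prime Nat.prime_three).1 h2)
      · exact hfree h1
    have hidx := index_modEq_one hE.isPGroup hb (hNC (Or.inl hb))
    have h1 := (Cent J).card_mul_index
    rw [S.card_cent_four D, hG, ← hi] at h1
    have h2 : (Cent J).index = 3 * (4 * i * i - 1) := by
      refine Nat.eq_of_mul_eq_mul_left (show 0 < 4 * (i * (i - 1)) by
        have : 0 < i * (i - 1) := Nat.mul_pos (by omega) (by omega); omega) ?_
      rw [h1]; ring
    have hpd : p ∣ (Cent J).index + 3 := by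
      rw [h2, show 3 * (4 * i * i - 1) + 3 = i * (12 * i) by
        have : 1 ≤ 4 * i * i := by nlinarith
        zify [this]; ring]
      exact dvd_mul_of_dvd_left hpi _
    have h5 : (Cent J).index + 3 ≡ 4 [MOD p] := hidx.add_right 3
    have h6 : p ∣ 2 ^ 2 := (h5.dvd_iff dvd_rfl).1 hpd
    exact hp2 ((Nat.prime_dvd_prime_iff_eq hE.prime Nat.prime_two).1 (hE.prime.dvd_of_dvd_pow h6))

/-- No such group of degree `i (4 i - 1) / 3`. -/
theorem not_four_caseB (hn : 3 * Nat.card Ω = fixCard Ω J * (4 * fixCard Ω J - 1)) : False := by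
  obtain ⟨hi9, p, k, E, hE, hk1, hk, hNC⟩ := S.caseB_data D hB hodd
  haveI := Fact.mk hE.prime
  set i := fixCard Ω J with hi
  have hpi : p ∣ i := by rw [hk]; exact dvd_pow_self p hk1.ne'
  have hG : 3 * Nat.card G = 4 * i * (i - 1) * ((4 * i - 1) * (4 * i + 3)) := by
    rw [card_eq_pairStab S.two S.ne, S.card_H]
    obtain ⟨q, hq⟩ : ∃ q, i = q + 2 := ⟨i - 2, by omega⟩
    rw [hq] at hn ⊢
    obtain ⟨n, hn'⟩ : ∃ n, Nat.card Ω = n + 1 := ⟨Nat.card Ω - 1, by
      rcases Nat.eq_zero_or_pos (Nat.card Ω) with h | h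
      · exfalso; have := fixCard_le (Ω := Ω) J; rw [← hi] at this; omega
      · omega⟩
    rw [hn'] at hn
    rw [hn', show n + 1 - 1 = n by omega]
    rw [show 4 * (q + 2) - 1 = 4 * q + 7 by omega] at hn ⊢
    rw [show q + 2 - 1 = q + 1 by omega]
    have h3n : 3 * n = (q + 1) * (4 * q + 11) := by ring_nf at hn ⊢; omega
    calc 3 * ((n + 1) * n * 12) = 4 * (3 * (n + 1)) * (3 * n) := by ring
      _ = _ := by rw [hn, h3n]; ring
  have hcE : Nat.card ↥E = i := hE.card_eq D.smul_a
  have h9 : p = 3 → 9 ∣ i := by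
    rintro rfl
    rcases k with _ | _ | k
    · omega
    · rw [hk] at hi9; norm_num at hi9
    · exact ⟨3 ^ k, by rw [hk]; ring⟩
  have hp2 : p ≠ 2 := fun h => by have := hE.odd; rw [h] at this; exact absurd this (by decide)
  have hb : ¬ p * Nat.card ↥E ∣ Nat.card G := by
    rw [hcE]
    intro h
    have h' : 3 * (p * i) ∣ 4 * i * (i - 1) * ((4 * i - 1) * (4 * i + 3)) := hG ▸ mul_dvd_mul_left 3 h
    rw [show 3 * (p * i) = (3 * p) * i by ring,
      show 4 * i * (i - 1) * ((4 * i - 1) * (4 * i + 3)) = (4 * (i - 1) * (4 * i - 1) * (4 * i + 3)) * i by ring] at h'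
    have h2 := Nat.dvd_of_mul_dvd_mul_right (show 0 < i by omega) h'
    have hc : p.Coprime (4 * (i - 1) * (4 * i - 1)) := (hE.prime.coprime_iff_not_dvd).2 fun h => by
      rcases (hE.prime.dvd_mul).1 h with h1 | h1
      · rcases (hE.prime.dvd_mul).1 h1 with h3 | h3
        · exact hp2 ((Nat.prime_dvd_prime_iff_eq hE.prime Nat.prime_two).1
            (hE.prime.dvd_of_dvd_pow (show p ∣ 2 ^ 2 from h3)))
        · have := Nat.dvd_sub hpi h3
          rw [show i - (i - 1) = 1 by omega] at this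
          exact hE.prime.one_lt.ne' (Nat.dvd_one.1 this)
      · have := Nat.dvd_sub (dvd_mul_of_dvd_right hpi 4) h1
        rw [show 4 * i - (4 * i - 1) = 1 by omega] at this
        exact hE.prime.one_lt.ne' (Nat.dvd_one.1 this)
    have h3 : p ∣ 4 * i + 3 := hc.dvd_of_dvd_mul_left ((dvd_mul_left p 3).trans h2)
    have h4 : p ∣ 3 := (Nat.dvd_add_right (dvd_mul_of_dvd_right hpi 4)).1 h3
    have hp3 := (Nat.prime_dvd_prime_iff_eq hE.prime Nat.prime_three).1 h4
    subst hp3
    have h5 : 9 ∣ 4 * i + 3 := by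
      refine (Nat.Coprime.pow_left 2 hc).dvd_of_dvd_mul_left ?_
      simpa [pow_two] using h2
    have := (Nat.dvd_add_right (dvd_mul_of_dvd_right (h9 rfl) 4)).1 h5
    norm_num at this
  have hidx := index_modEq_one hE.isPGroup hb (hNC (Or.inl hb))
  have h1 := (Cent J).card_mul_index
  rw [S.card_cent_four D, ← hi] at h1
  rw [← h1] at hG
  have h2 : 3 * (Cent J).index = (4 * i - 1) * (4 * i + 3) := by
    refine Nat.eq_of_mul_eq_mul_left (show 0 < 4 * i * (i - 1) from Nat.mul_pos (by omega) (by omega)) ?_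
    rw [← hG]; ring
  have h3 : 3 * (Cent J).index + 3 = i * (16 * i + 8) := by
    rw [h2]
    have : 1 ≤ 4 * i := by omega
    zify [this]; ring
  by_cases hp3 : p = 3
  · obtain ⟨j, hj⟩ := h9 hp3
    have h4 : (Cent J).index + 1 = 3 * j * (16 * i + 8) := by
      have : 3 * ((Cent J).index + 1) = 3 * (3 * j * (16 * i + 8)) := by
        rw [mul_add, mul_one, h3, hj]; ring
      omega
    rw [hp3] at hidx
    have h5 : (Cent J).index + 1 ≡ 2 [MOD 3] := hidx.add_right 1
    have h6 : 3 ∣ 2 := (h5.dvd_iff dvd_rfl).1 (h4 ▸ Dvd.intro (j * (16 * i + 8)) (by ring))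
    norm_num at h6
  · have h5 : 3 * (Cent J).index + 3 ≡ 2 * 3 [MOD p] := by
      simpa using (hidx.mul_left 3).add_right 3
    have h6 : p ∣ 2 * 3 := (h5.dvd_iff dvd_rfl).1 (h3 ▸ dvd_mul_of_dvd_left hpi _)
    rcases (hE.prime.dvd_mul).1 h6 with h7 | h7
    · exact hp2 ((Nat.prime_dvd_prime_iff_eq hE.prime Nat.prime_two).1 h7)
    · exact hp3 ((Nat.prime_dvd_prime_iff_eq hE.prime Nat.prime_three).1 h7)

end Setting

end CfsgLib.KimuraFour
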