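import Cfsg.Agent.Lib.Perm.KimuraFour.OddCaseA

/-!
# Sylow congruences and induced doubly transitive actions
-/

set_option autoImplicit false

namespace CfsgLib.KimuraFour

open MulAction

variable {G : Type*} [Group G] [Finite G]

/-- A `p`-element lies in a normal `p`-subgroup which is as large as a Sylow subgroup. -/
theorem mem_of_normal_pgroup {p : ℕ} [Fact p.Prime] (N : Subgroup G) [N.Normal] (hN : IsPGroup p ↥N)
    (hb : ¬ p * Nat.card ↥N ∣ Nat.card G) {x : G} (hx : ∃ k, x ^ p ^ k = 1) : x ∈ N := by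
  obtain ⟨k, hk⟩ := hx
  have hP : IsPGroup p ↥(N ⊔ Subgroup.zpowers x : Subgroup G) := by
    refine hN.to_sup_of_normal_left ?_
    obtain ⟨j, -, hj⟩ := (Nat.dvd_prime_pow (Fact.out : p.Prime)).1 (orderOf_dvd_of_pow_eq_one hk)
    exact IsPGroup.of_card (n := j) (by rw [Nat.card_zpowers, hj])
  by_contra hxN
  obtain ⟨a, ha⟩ := IsPGroup.iff_card.1 hN
  obtain ⟨c, hc⟩ := IsPGroup.iff_card.1 hP
  have hlt : Nat.card ↥N < Nat.card ↥(N ⊔ Subgroup.zpowers x : Subgroup G) :=
    lt_of_le_of_ne (Nat.le_of_dvd Nat.card_pos (Subgroup.card_dvd_of_le le_sup_left)) fun h =>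
      hxN ((Subgroup.eq_of_le_of_card_ge le_sup_left h.ge).symm ▸ Subgroup.mem_sup_right (Subgroup.mem_zpowers x))
  rw [ha, hc] at hlt
  refine hb (((?_ : p * Nat.card ↥N ∣ p ^ c)).trans (hc ▸ Subgroup.card_subgroup_dvd_card _))
  rw [ha, ← pow_succ']
  exact pow_dvd_pow p ((Nat.pow_lt_pow_iff_right (Fact.out : p.Prime).one_lt).1 hlt)

/-- A subgroup above the normaliser of a Sylow subgroup has index `1` modulo `p`. -/
theorem index_modEq_one {p : ℕ} [Fact p.Prime] {E W : Subgroup G} (hE : IsPGroup p ↥E)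
    (hb : ¬ p * Nat.card ↥E ∣ Nat.card G) (hN : Subgroup.normalizer (E : Set G) ≤ W) : W.index ≡ 1 [MOD p] := by
  have hEW : E ≤ W := Subgroup.le_normalizer.trans hN
  obtain ⟨P, hP⟩ := hE.exists_le_sylow
  have hPE : (P : Subgroup G) = E := by
    refine (Subgroup.eq_of_le_of_card_ge hP ?_).symm
    obtain ⟨a, ha⟩ := IsPGroup.iff_card.1 hE
    obtain ⟨c, hc⟩ := IsPGroup.iff_card.1 P.isPGroup'
    by_contra h
    push Not at h
    rw [ha, hc] at h
    refine hb (((?_ : p * Nat.card ↥E ∣ p ^ c)).trans (hc ▸ Subgroup.card_subgroup_dvd_card _))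
    rw [ha, ← pow_succ']
    exact pow_dvd_pow p ((Nat.pow_lt_pow_iff_right (Fact.out : p.Prime).one_lt).1 h)
  let Q : Sylow p ↥W := P.subtype (hPE ▸ hEW)
  have h1 : (Subgroup.normalizer (E : Set G)).index ≡ 1 [MOD p] := by
    have h : Nat.card (Sylow p G) = (Subgroup.normalizer (E : Set G)).index := by
      rw [Sylow.card_eq_index_normalizer P]
      show (Subgroup.normalizer ((P : Subgroup G) : Set G)).index = _
      rw [hPE]
    exact h ▸ card_sylow_modEq_one p G
  have h2 : (Subgroup.normalizer (E : Set G)).relIndex W ≡ 1 [MOD p] := by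
    have h : Nat.card (Sylow p ↥W) = (Subgroup.normalizer (E : Set G)).relIndex W := by
      rw [Sylow.card_eq_index_normalizer Q, Subgroup.relIndex]
      congr 1
      ext x
      simp only [Subgroup.mem_subgroupOf, Subgroup.mem_normalizer_iff]
      have hQ : ∀ y : ↥W, y ∈ (Q : Subgroup ↥W) ↔ (y : G) ∈ E := fun y => by
        rw [← hPE]; exact Iff.rfl
      constructor
      · intro h y
        constructor
        · intro hy; exact (hQ _).1 ((h ⟨y, hEW hy⟩).1 ((hQ _).2 hy))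
        · intro hy
          have hyW : y ∈ W := by
            have := mul_mem (mul_mem (inv_mem x.2) (hEW hy)) x.2
            rwa [show (x : G)⁻¹ * ((x : G) * y * (x : G)⁻¹) * x = y by group] at this
          exact (hQ ⟨y, hyW⟩).1 ((h ⟨y, hyW⟩).2 ((hQ _).2 hy))
      · intro h y
        exact ((hQ y).trans (h (y : G))).trans (hQ (x * y * x⁻¹ : ↥W)).symm
    exact h ▸ card_sylow_modEq_one p ↥W
  rw [← Subgroup.relIndex_mul_index hN] at h1
  calc W.index = 1 * W.index := (one_mul _).symm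
    _ ≡ (Subgroup.normalizer (E : Set G)).relIndex W * W.index [MOD p] := (h2.mul_right _).symm
    _ ≡ 1 [MOD p] := h1

variable {Ω : Type*} [MulAction G Ω] [Finite Ω]

/-- The setwise stabiliser of the fixed points of `J`. -/
def setStab (Ω : Type*) [MulAction G Ω] (J : G) : Subgroup G where
  carrier := {g | ∀ c : Ω, J • c = c ↔ J • g • c = g • c}
  one_mem' c := by simp
  mul_mem' {g h} hg hh c := by rw [mul_smul]; exact (hh c).trans (hg (h • c))
  inv_mem' {g} hg c := by
    have := hg (g⁻¹ • c)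
    rw [smul_inv_smul] at this
    exact this.symm

theorem mem_setStab_of_forall {J g : G} (h : ∀ c : Ω, J • c = c → J • g • c = g • c) : g ∈ setStab Ω J := by
  have hb : Function.Bijective (fun c : {c : Ω // J • c = c} => (⟨g • c.1, h c.1 c.2⟩ : {c : Ω // J • c = c})) :=
    Finite.injective_iff_bijective.1 fun c d e => Subtype.ext ((MulAction.injective g) (congrArg Subtype.val e))
  intro c
  refine ⟨h c, fun hgc => ?_⟩
  obtain ⟨⟨d, hd⟩, e⟩ := hb.2 ⟨g • c, hgc⟩
  have : d = c := (MulAction.injective g) (congrArg Subtype.val e)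
  exact this ▸ hd

theorem cent_le_setStab (J : G) : Subgroup.centralizer ({J} : Set G) ≤ setStab Ω J :=
  fun _ hg => mem_setStab_of_forall fun _ hc => smul_mem_fix hg hc

/-- The fixed points of `J` as an invariant set of `setStab`. -/
def setPts (Ω : Type*) [MulAction G Ω] (J : G) : SubMulAction ↥(setStab Ω J) Ω where
  carrier := {c | J • c = c}
  smul_mem' g c hc := (g.2 c).1 hc

theorem Setting.card_setStab {a b : Ω} {J : G} (S : Setting G Ω a b) (D : InvData G Ω a b J)
    (hA : Setting.CaseA a b J) :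
    Nat.card ↥(setStab Ω J) = 12 * (fixCard Ω J * (fixCard Ω J - 1)) := by
  have hH : ∀ h ∈ (pairStab a b : Subgroup G), h ∈ setStab Ω J := by
    intro h hh
    refine mem_setStab_of_forall fun c hc => ?_
    have hm : h⁻¹ * J * h ∈ (pairStab a b : Subgroup G) := mul_mem (mul_mem (inv_mem hh) D.memJ) hh
    have h1 := hA _ hm (by
      rw [show h⁻¹ * J * h * (h⁻¹ * J * h) = h⁻¹ * (J * J) * h by group, mul_self_of_orderOf D.ordJ]; group) c hc
    rw [mul_smul, mul_smul, inv_smul_eq_iff] at h1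
    exact h1
  have h2 : IsMultiplyPretransitive ↥(setStab Ω J) ↥(setPts Ω J) 2 :=
    MulAction.is_two_pretransitive_iff.2 fun {c d c' d'} hcd hcd' => by
      obtain ⟨g, hg, h1, h2⟩ := D.exists_centralizing c.2 d.2 c'.2 d'.2 (fun e => hcd (Subtype.ext e))
        (fun e => hcd' (Subtype.ext e))
      exact ⟨⟨g, cent_le_setStab J hg⟩, Subtype.ext h1, Subtype.ext h2⟩
  rw [card_eq_pairStab h2 (a := ⟨a, D.smul_a⟩) (b := ⟨b, D.smul_b⟩) (fun e => D.ne (congrArg Subtype.val e)),
    mul_comm]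
  congr 1
  rw [← S.card_H]
  exact Nat.card_congr ⟨fun g => ⟨g.1.1, mem_pairStab.2 ⟨congrArg Subtype.val g.2.1,
    congrArg Subtype.val g.2.2⟩⟩, fun h => ⟨⟨h.1, hH h.1 h.2⟩,
    Subtype.ext (mem_pairStab.1 h.2).1, Subtype.ext (mem_pairStab.1 h.2).2⟩, fun _ => rfl, fun _ => rfl⟩

theorem Setting.normalizer_t_two {a b : Ω} (S : Setting G Ω a b) {t : G}
    (ht : t ∈ (pairStab a b : Subgroup G)) (ht3 : orderOf t = 3) {c d : Ω} (hcd : c ≠ d) (hc : t • c = c)
    (hd : t • d = d) : ∃ g : G, g • a = c ∧ g • b = d ∧ (g * t * g⁻¹ = t ∨ g * t * g⁻¹ = t⁻¹) := by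
  have htc : t * t * t = 1 := by
    have := pow_orderOf_eq_one t
    rwa [ht3, pow_succ, pow_two] at this
  obtain ⟨g₀, hg1, hg2⟩ := exists_smul_pair S.two S.ne hcd
  change g₀ • a = c at hg1
  change g₀ • b = d at hg2
  set u := g₀⁻¹ * t * g₀ with hu
  have huH : u ∈ (pairStab a b : Subgroup G) := by
    rw [← conj_mem_pairStab_iff g₀, hu, show g₀ * (g₀⁻¹ * t * g₀) * g₀⁻¹ = t by group, hg1, hg2]
    exact mem_pairStab.2 ⟨hc, hd⟩
  have hu3 : orderOf u = 3 := by rw [hu]; simpa using (orderOf_conj_eq g₀⁻¹ t).trans ht3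
  obtain ⟨v, hv, hv2, huv⟩ := S.coset_three ht ht3 huH
  obtain ⟨φ, hφ, hr⟩ := S.exists_embed
  obtain ⟨v', hv'⟩ := S.exists_preimage hv φ hr
  obtain ⟨t', ht'⟩ := S.exists_preimage ht φ hr
  have h3' : t' * t' * t' = 1 := hφ (by rw [map_mul, map_mul, ht', htc, map_one])
  have ht'1 : t' ≠ 1 := fun h => by rw [h, map_one] at ht'; simp [← ht'] at ht3
  have hv'2 : v' * v' = 1 := hφ (by rw [map_mul, hv', hv2, map_one])
  obtain ⟨s, hs, hsu⟩ : ∃ s ∈ (pairStab a b : Subgroup G), s * t * s⁻¹ = u ∨ s * t⁻¹ * s⁻¹ = u := by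
    rcases huv with h | h | h
    · exfalso
      rcases eq_or_ne v 1 with h1 | h1
      · rw [h, h1] at hu3; simp at hu3
      · rw [h, orderOf_two_of hv2 h1] at hu3; norm_num at hu3
    · obtain ⟨w, -, hw2⟩ := Alt.three_commutator t' v' h3' ht'1 hv'2
      refine ⟨φ w, hr ▸ ⟨w, rfl⟩, Or.inl ?_⟩
      rw [h, ← hv', ← ht', ← map_inv, ← map_mul, ← map_mul, hw2, map_mul]
    · obtain ⟨w, -, hw2⟩ := Alt.three_commutator (t' * t') v'
        (by rw [show t' * t' * (t' * t') * (t' * t') = (t' * t' * t') * (t' * t' * t') by group, h3', one_mul])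
        (fun h1 => ht'1 (by rw [← h3', h1, one_mul])) hv'2
      refine ⟨φ w, hr ▸ ⟨w, rfl⟩, Or.inr ?_⟩
      rw [h, ← hv', ← eq_inv_of_mul_eq_one_left htc, ← ht', ← map_mul, ← map_inv, ← map_mul, ← map_mul,
        hw2, map_mul]
  obtain ⟨hs1, hs2⟩ := mem_pairStab.1 hs
  refine ⟨g₀ * s, by rw [mul_smul, hs1, hg1], by rw [mul_smul, hs2, hg2], ?_⟩
  rcases hsu with h | h
  · left
    rw [show g₀ * s * t * (g₀ * s)⁻¹ = g₀ * (s * t * s⁻¹) * g₀⁻¹ by group, h, hu]; group
  · right
    rw [show g₀ * s * t * (g₀ * s)⁻¹ = (g₀ * (s * t⁻¹ * s⁻¹) * g₀⁻¹)⁻¹ by group, h, hu]; group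

/-- The fixed points of `t` carry a sharply doubly transitive group: `3 f` divides the group order. -/
theorem Setting.exists_pow_fixCard_three {a b : Ω} (S : Setting G Ω a b) {t : G}
    (ht : t ∈ (pairStab a b : Subgroup G)) (ht3 : orderOf t = 3) :
    ∃ q m : ℕ, q.Prime ∧ fixCard Ω t = q ^ m ∧ 3 * fixCard Ω t ∣ Nat.card G ∧
      ∀ (p : ℕ) (e : G), p.Prime → e ^ p = 1 → e * t = t * e → (∀ c : Ω, t • c = c → e • c ≠ c) → q = p := by
  classical
  set T := Subgroup.zpowers t with hT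
  have hfix : ∀ k ∈ T, ∀ c : Ω, t • c = c → k • c = c := by
    intro k hk c hc
    obtain ⟨j, hj⟩ := Subgroup.mem_zpowers_iff.1 hk
    rw [← hj]
    exact (zpow_mem (show t ∈ stabilizer G c from hc) j : t ^ j ∈ stabilizer G c)
  let Φ : SubMulAction ↥(Subgroup.normalizer (T : Set G)) Ω :=
    { carrier := {c | t • c = c}
      smul_mem' := fun g c hc => by
        show t • (g : G) • c = (g : G) • c
        have hm : (g : G)⁻¹ * t * g ∈ T :=
          (Subgroup.mem_normalizer_iff.1 g.2 _).2 (by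
            rw [show (g : G) * ((g : G)⁻¹ * t * g) * (g : G)⁻¹ = t by group]; exact Subgroup.mem_zpowers t)
        have h := hfix _ hm c hc
        rw [mul_smul, mul_smul, inv_smul_eq_iff] at h
        exact h }
  have hnorm : ∀ g : G, g * t * g⁻¹ = t ∨ g * t * g⁻¹ = t⁻¹ → g ∈ Subgroup.normalizer (T : Set G) := by
    intro g hg
    have hle : T.map (MulAut.conj g).toMonoidHom ≤ T := by
      rw [hT, MonoidHom.map_zpowers, Subgroup.zpowers_le]
      show g * t * g⁻¹ ∈ Subgroup.zpowers t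
      rcases hg with h | h <;> rw [h]
      exacts [Subgroup.mem_zpowers t, inv_mem (Subgroup.mem_zpowers t)]
    have heq : T.map (MulAut.conj g).toMonoidHom = T := Subgroup.eq_of_le_of_card_ge hle
      (le_of_eq (Nat.card_congr (T.equivMapOfInjective _ (MulAut.conj g).injective).toEquiv))
    refine Subgroup.mem_normalizer_iff.2 fun y => ⟨fun hy => hle ⟨y, hy, rfl⟩, fun hy => ?_⟩
    rw [← heq] at hy
    obtain ⟨z, hz, hz'⟩ := hy
    rwa [← (MulAut.conj g).injective hz']
  let φ := MulAction.toPermHom ↥(Subgroup.normalizer (T : Set G)) ↥Φ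
  have ha : t • a = a := (mem_pairStab.1 ht).1
  have hb : t • b = b := (mem_pairStab.1 ht).2
  have hsmul : ∀ g : ↥(Subgroup.normalizer (T : Set G)), ∀ c : ↥Φ,
      ((φ.rangeRestrict g • c : ↥Φ) : Ω) = (g : G) • (c : Ω) := fun g c => rfl
  have h2 : IsMultiplyPretransitive ↥φ.range ↥Φ 2 :=
    MulAction.is_two_pretransitive_iff.2 fun {c d c' d'} hcd hcd' => by
      obtain ⟨g, g1, g2, g3⟩ := S.normalizer_t_two ht ht3 (fun e => hcd (Subtype.ext e)) c.2 d.2
      obtain ⟨g', g1', g2', g3'⟩ := S.normalizer_t_two ht ht3 (fun e => hcd' (Subtype.ext e)) c'.2 d'.2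
      let x : ↥(Subgroup.normalizer (T : Set G)) := ⟨g' * g⁻¹, mul_mem (hnorm g' g3') (inv_mem (hnorm g g3))⟩
      refine ⟨φ.rangeRestrict x, Subtype.ext ?_, Subtype.ext ?_⟩
      · rw [hsmul, mul_smul, ← g1, inv_smul_smul, g1']
      · rw [hsmul, mul_smul, ← g2, inv_smul_smul, g2']
  have hsharp : ∀ x : ↥φ.range, ∀ c d : ↥Φ, c ≠ d → x • c = c → x • d = d → x = 1 := by
    intro x c d hcd hc hd
    obtain ⟨g, rfl⟩ := MonoidHom.rangeRestrict_surjective φ x
    obtain ⟨k, k1, k2, k3⟩ := S.normalizer_t_two ht ht3 (fun e => hcd (Subtype.ext e)) c.2 d.2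
    set g' := k⁻¹ * (g : G) * k with hg'
    have hgN : g' ∈ Subgroup.normalizer (T : Set G) :=
      mul_mem (mul_mem (inv_mem (hnorm k k3)) g.2) (hnorm k k3)
    have hgH : g' ∈ (pairStab a b : Subgroup G) := mem_pairStab.2
      ⟨by rw [hg', mul_smul, mul_smul, k1, show (g : G) • (c : Ω) = c from congrArg Subtype.val hc, ← k1, inv_smul_smul],
       by rw [hg', mul_smul, mul_smul, k2, show (g : G) • (d : Ω) = d from congrArg Subtype.val hd, ← k2, inv_smul_smul]⟩
    have hgT : g' ∈ T := by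
      obtain ⟨v, hv, hv2, hcase⟩ := S.coset_three ht ht3 hgH
      have hvN : v ∈ Subgroup.normalizer (T : Set G) := by
        have hTN : t ∈ Subgroup.normalizer (T : Set G) := Subgroup.le_normalizer (Subgroup.mem_zpowers t)
        rcases hcase with h | h | h
        · exact h ▸ hgN
        · have := mul_mem hgN (inv_mem hTN); rwa [h, mul_inv_cancel_right] at this
        · have := mul_mem hgN (inv_mem (mul_mem hTN hTN)); rwa [h, mul_inv_cancel_right] at this
      have hv1 : v = 1 := by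
        by_contra hne
        have hm : v * t * v⁻¹ ∈ T := (Subgroup.mem_normalizer_iff.1 hvN t).1 (Subgroup.mem_zpowers t)
        have hw : t * v * t⁻¹ ∈ (pairStab a b : Subgroup G) := mul_mem (mul_mem ht hv) (inv_mem ht)
        have hvo := orderOf_two_of hv2 hne
        obtain ⟨-, hsq⟩ := S.inv_mul hw (mul_self_of_orderOf ((orderOf_conj_eq t v).trans hvo)) hv hv2
        have hmem : t * v * t⁻¹ * v ∈ T := by
          have h := mul_mem (Subgroup.mem_zpowers t) (inv_mem hm)
          rwa [show t * (v * t * v⁻¹)⁻¹ = t * v * t⁻¹ * v⁻¹ by group, inv_of_orderOf hvo] at h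
        have hd := orderOf_dvd_of_mem_zpowers hmem
        rw [ht3] at hd
        have hd2 : orderOf (t * v * t⁻¹ * v) ∣ 2 := orderOf_dvd_of_pow_eq_one (by rw [pow_two, hsq])
        have h1 := Nat.dvd_gcd hd hd2
        norm_num at h1
        exact S.three_moves ht ht3 hv hvo (mul_inv_eq_iff_eq_mul.1
          ((eq_inv_of_mul_eq_one_left h1).trans (inv_of_orderOf hvo)))
      rcases hcase with h | h | h <;> rw [h, hv1] <;> simp [hT, Subgroup.mem_zpowers, mul_mem]
    refine Subtype.ext (Equiv.ext fun e => Subtype.ext ?_)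
    show (g : G) • (e : Ω) = e
    have hek : t • k⁻¹ • (e : Ω) = k⁻¹ • (e : Ω) := Φ.smul_mem ⟨k⁻¹, inv_mem (hnorm k k3)⟩ e.2
    have h := hfix g' hgT _ hek
    rwa [hg', mul_smul, mul_smul, smul_inv_smul, (MulAction.injective _).eq_iff] at h
  have hcard2 : 2 ≤ Nat.card ↥Φ := by
    have : Nontrivial ↥Φ := ⟨⟨a, ha⟩, ⟨b, hb⟩, fun e => S.ne (congrArg Subtype.val e)⟩
    exact Finite.one_lt_card
  obtain ⟨q, K, R, hmem⟩ := exists_kernel_sharp h2 hcard2 hsharp
  haveI : Nonempty ↥Φ := ⟨⟨a, ha⟩⟩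
  obtain ⟨m, hm⟩ := R.card_pow
  refine ⟨q, m, R.prime, hm, ?_, fun p e hp hep het hfree => ?_⟩
  · have hdvd : 3 * Nat.card ↥Φ ∣ Nat.card ↥(K.comap φ.rangeRestrict) := by
      rw [← R.card]
      have h1 := Subgroup.card_mul_index (φ.rangeRestrict.ker.subgroupOf (K.comap φ.rangeRestrict))
      rw [Nat.card_congr (Subgroup.subgroupOfEquivOfLe (MonoidHom.ker_le_comap (f := φ.rangeRestrict) K)).toEquiv] at h1
      have h3 : (φ.rangeRestrict.ker.subgroupOf (K.comap φ.rangeRestrict)).index = Nat.card ↥K := by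
        rw [← Subgroup.relIndex, Subgroup.relIndex_ker,
          Subgroup.map_comap_eq_self_of_surjective (MonoidHom.rangeRestrict_surjective φ)]
      rw [h3] at h1
      rw [← h1]
      refine Nat.mul_dvd_mul_right ?_ _
      let t' : ↥(φ.rangeRestrict.ker) := ⟨⟨t, Subgroup.le_normalizer (Subgroup.mem_zpowers t)⟩,
        Subtype.ext (Equiv.ext fun c => Subtype.ext c.2)⟩
      have : orderOf t' = 3 := by
        rw [← Subgroup.orderOf_coe t', ← Subgroup.orderOf_coe (t' : ↥(Subgroup.normalizer (T : Set G)))]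
        exact ht3
      exact this ▸ orderOf_dvd_natCard t'
    exact (hdvd.trans (Subgroup.card_subgroup_dvd_card _)).trans (Subgroup.card_subgroup_dvd_card _)
  · have heN : e ∈ Subgroup.normalizer (T : Set G) := hnorm e (Or.inl (by rw [het, mul_inv_cancel_right]))
    set x := φ.rangeRestrict ⟨e, heN⟩ with hx
    have hxK : x ∈ K := (hmem x).2 (Or.inr fun c hc => hfree c.1 c.2 (congrArg Subtype.val hc))
    have hx1 : x ≠ 1 := fun h => hfree a ha (by
      have := congrArg (fun y : ↥φ.range => ((y • (⟨a, ha⟩ : ↥Φ) : ↥Φ) : Ω)) h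
      simpa [hx, hsmul] using this)
    have h1 : orderOf x ∣ p := orderOf_dvd_of_pow_eq_one (by
      rw [hx, ← map_pow, show (⟨e, heN⟩ : ↥(Subgroup.normalizer (T : Set G))) ^ p = 1 from Subtype.ext hep, map_one])
    have h2' : orderOf x ∣ q := orderOf_dvd_of_pow_eq_one (R.pow x hxK)
    rcases (Nat.dvd_prime hp).1 h1 with h | h
    · exact absurd (orderOf_eq_one_iff.1 h) hx1
    · exact ((Nat.prime_dvd_prime_iff_eq hp R.prime).1 (h ▸ h2')).symm

end CfsgLib.KimuraFour
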