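import Cfsg.Agent.Lib.Perm.KimuraFour.TwoStab
import Cfsg.Agent.Lib.Perm.KimuraFour.Fusion

/-!
# The four-group acting nontrivially on the fixed points of `J`
-/

set_option autoImplicit false

namespace CfsgLib.KimuraFour

open MulAction

variable {G : Type*} [Group G] [Finite G] {Ω : Type*} [MulAction G Ω] [Finite Ω] {a b : Ω} {J : G}

local notation "Cent" J:max => Subgroup.centralizer (Singleton.singleton J : Set _)

/-- An involution of the stabiliser moving a fixed point of `J`, and its image. -/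
structure BData (D : InvData G Ω a b J) (v : ↥(Cent J)) : Prop where
  memH : (v : G) ∈ (pairStab a b : Subgroup G)
  ord : orderOf (v : G) = 2
  ne : (v : G) ≠ J
  inv : InvData ↥(inducedPerm Ω J) ↥(fixPts Ω J) D.fa D.fb (induce Ω J v)
  stab : ∀ x ∈ (pairStab D.fa D.fb : Subgroup ↥(inducedPerm Ω J)), x = 1 ∨ x = induce Ω J v
  ker : ∀ g : ↥(Cent J), induce Ω J g = 1 → (g : G) = 1 ∨ (g : G) = J

theorem Setting.exists_bData (S : Setting G Ω a b) (D : InvData G Ω a b J) (hB : ¬ CaseA a b J) :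
    ∃ v : ↥(Cent J), BData D v := by
  obtain ⟨v, hvH, hv2, D', hstab⟩ := S.exists_induced D hB
  have hu1 : induce Ω J v ≠ 1 := fun h => by simpa [h] using D'.ordJ
  have hvJ : (v : G) ≠ J := fun h => hu1 ((induce_eq_one_iff v).2 fun c hc => by rw [h]; exact hc)
  refine ⟨v, hvH, hv2, hvJ, D', hstab, fun g hg => ?_⟩
  have h1 := (induce_eq_one_iff g).1 hg
  have hgH : (g : G) ∈ (pairStab a b : Subgroup G) := mem_pairStab.2 ⟨h1 a D.smul_a, h1 b D.smul_b⟩
  have hg2 := (S.mem_cent_iff D hgH).1 g.2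
  by_contra hcon
  push Not at hcon
  refine hu1 ((induce_eq_one_iff v).2 fun c hc => ?_)
  by_cases hgv : (g : G) = v
  · rw [← hgv]; exact h1 c hc
  have h3 := S.inv_third hvH hv2 D.memJ D.ordJ hgH (orderOf_two_of hg2 hcon.1) hvJ (Ne.symm hgv)
    (Ne.symm hcon.2)
  have h4 := h1 c hc
  rwa [← h3, mul_smul, hc] at h4

namespace BData

variable {D : InvData G Ω a b J} {v : ↥(Cent J)} (B : BData D v)

include B

theorem one_ne : induce Ω J v ≠ 1 := fun h => by simpa [h] using B.inv.ordJ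

theorem comm_J : (v : G) * J = J * v := Subgroup.mem_centralizer_singleton_iff.1 v.2

theorem vJ_mem : (v : G) * J ∈ (pairStab a b : Subgroup G) := mul_mem B.memH D.memJ

theorem vJ_ord : orderOf ((v : G) * J) = 2 := by
  refine orderOf_two_of ?_ fun h => B.ne ((eq_inv_of_mul_eq_one_left h).trans (inv_of_orderOf D.ordJ))
  calc (v : G) * J * (v * J) = v * (J * v) * J := by group
    _ = (v * v) * (J * J) := by rw [← B.comm_J]; group
    _ = 1 := by rw [mul_self_of_orderOf B.ord, mul_self_of_orderOf D.ordJ, one_mul]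

theorem card_ker : Nat.card ↥(induce Ω J).ker = 2 := by
  rw [Nat.card_eq_two_iff]
  refine ⟨1, ⟨⟨J, Subgroup.mem_centralizer_singleton_iff.2 rfl⟩, (induce_eq_one_iff _).2 fun c hc => hc⟩,
    fun h => ?_, ?_⟩
  · have : (1 : G) = J := congrArg (fun x : ↥(induce Ω J).ker => (x.1 : G)) h
    simpa [← this] using D.ordJ
  · ext g
    simp only [Set.mem_insert_iff, Set.mem_singleton_iff, Set.mem_univ, iff_true]
    exact (B.ker g.1 g.2).imp (fun e => Subtype.ext (Subtype.ext e)) fun e => Subtype.ext (Subtype.ext e)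

/-- Two lifts differ by a power of `J`. -/
theorem eq_or_of_induce {g g' : ↥(Cent J)} (h : induce Ω J g = induce Ω J g') :
    (g : G) = g' ∨ (g : G) = g' * J := by
  have h1 : induce Ω J (g'⁻¹ * g) = 1 := by rw [map_mul, map_inv, h, inv_mul_cancel]
  rcases B.ker _ h1 with e | e
  · left
    have e' : (g' : G)⁻¹ * g = 1 := e
    exact (inv_mul_eq_one.1 e').symm
  · right
    have e' : (g' : G)⁻¹ * g = J := e
    calc (g : G) = g' * ((g' : G)⁻¹ * g) := by group
      _ = _ := by rw [e']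

/-- The lifts of the conjugates of the image of `v` are conjugate to `J`. -/
theorem isConj_of_conj (S : Setting G Ω a b) (g : ↥(Cent J)) (h : IsConj (induce Ω J v) (induce Ω J g)) :
    IsConj J (g : G) := by
  obtain ⟨q, hq⟩ := isConj_iff.1 h
  obtain ⟨q', rfl⟩ := induce_surjective J q
  rw [← map_inv, ← map_mul, ← map_mul] at hq
  have hq'J := Subgroup.mem_centralizer_singleton_iff.1 q'.2
  rcases B.eq_or_of_induce hq.symm with e | e
  · exact (S.isConj_of_mem D B.memH B.ord).trans (isConj_iff.2 ⟨q', e.symm⟩)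
  · refine (S.isConj_of_mem D B.vJ_mem B.vJ_ord).trans (isConj_iff.2 ⟨q', ?_⟩)
    rw [e]
    show (q' : G) * (v * J) * (q' : G)⁻¹ = q' * v * (q' : G)⁻¹ * J
    have hJq : J * (q' : G)⁻¹ = (q' : G)⁻¹ * J := (Commute.inv_left hq'J).symm.eq
    calc (q' : G) * (v * J) * (q' : G)⁻¹ = q' * v * (J * (q' : G)⁻¹) := by group
      _ = _ := by rw [hJq]; group

theorem sq_of_conj (S : Setting G Ω a b) (g : ↥(Cent J)) (h : IsConj (induce Ω J v) (induce Ω J g)) :
    (g : G) * g = 1 :=
  mul_self_of_orderOf (D.orderOf_of_conj (B.isConj_of_conj S g h))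

variable (S : Setting G Ω a b) {z : G} (hz : Setting.CenSwap a b z) (hzC : z ∈ Cent J)

include S hz

theorem swap_facts : orderOf (induce Ω J ⟨z, hzC⟩) = 2 ∧ induce Ω J ⟨z, hzC⟩ • D.fa = D.fb ∧
    induce Ω J ⟨z, hzC⟩ * induce Ω J v = induce Ω J v * induce Ω J ⟨z, hzC⟩ ∧
    (induce Ω J ⟨z, hzC⟩ * induce Ω J v) • D.fa = D.fb ∧
    orderOf (induce Ω J ⟨z, hzC⟩ * induce Ω J v) = 2 ∧
    (∀ x, orderOf x = 2 → x • D.fa = D.fb →
      x = induce Ω J ⟨z, hzC⟩ ∨ x = induce Ω J ⟨z, hzC⟩ * induce Ω J v) := by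
  set y := induce Ω J ⟨z, hzC⟩ with hy
  set u := induce Ω J v with hu
  have hu2 : u * u = 1 := mul_self_of_orderOf B.inv.ordJ
  have hy2 : y * y = 1 := by
    rw [hy, ← map_mul, show (⟨z, hzC⟩ : ↥(Cent J)) * ⟨z, hzC⟩ = 1 from Subtype.ext (mul_self_of_orderOf hz.1), map_one]
  have hya : y • D.fa = D.fb := Subtype.ext hz.2.1
  have hyu : y * u = u * y := by
    rw [hy, hu, ← map_mul, ← map_mul,
      show (⟨z, hzC⟩ : ↥(Cent J)) * v = v * ⟨z, hzC⟩ from Subtype.ext (hz.2.2 _ B.memH)]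
  have hyb : y • D.fb = D.fa := by rw [← hya, smul_of_mul_self hy2]
  have hyua : (y * u) • D.fa = D.fb := by rw [mul_smul, (mem_pairStab.1 B.inv.memJ).1, hya]
  refine ⟨orderOf_two_of hy2 fun h => D.fa_ne_fb (by rw [← hya, h, one_smul]), hya, hyu, hyua,
    orderOf_two_of ?_ fun h => D.fa_ne_fb (by rw [← hyua, h, one_smul]), fun x hx hxa => ?_⟩
  · rw [show y * u * (y * u) = y * (u * y) * u by group, ← hyu,
      show y * (y * u) * u = (y * y) * (u * u) by group, hy2, hu2, mul_one]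
  have hxb : x • D.fb = D.fa := by rw [← hxa, smul_of_mul_self (mul_self_of_orderOf hx)]
  have hm : y * x ∈ (pairStab D.fa D.fb : Subgroup ↥(inducedPerm Ω J)) := mem_pairStab.2
    ⟨by rw [mul_smul, hxa, hyb], by rw [mul_smul, hxb, hya]⟩
  rcases B.stab _ hm with h | h
  · left; rw [eq_inv_of_mul_eq_one_right h, inv_eq_of_mul_eq_one_right hy2]
  · right
    rw [show u = y * x from h.symm, ← mul_assoc, hy2, one_mul]

/-- The lifts of the swapping images. -/
theorem lift_swap (g : ↥(Cent J))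
    (h : induce Ω J g = induce Ω J ⟨z, hzC⟩ ∨ induce Ω J g = induce Ω J ⟨z, hzC⟩ * induce Ω J v) :
    ∃ w ∈ (pairStab a b : Subgroup G), w * w = 1 ∧ (g : G) = z * w ∧ (g : G) * g = 1 := by
  have key : ∀ w ∈ (pairStab a b : Subgroup G), w * w = 1 → (g : G) = z * w →
      ∃ w ∈ (pairStab a b : Subgroup G), w * w = 1 ∧ (g : G) = z * w ∧ (g : G) * g = 1 := by
    intro w hw hw2 he
    refine ⟨w, hw, hw2, he, ?_⟩
    rw [he]
    calc z * w * (z * w) = z * (w * z) * w := by group
      _ = (z * z) * (w * w) := by rw [← hz.2.2 w hw]; group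
      _ = 1 := by rw [mul_self_of_orderOf hz.1, hw2, one_mul]
  rcases h with h | h
  · rcases B.eq_or_of_induce h with e | e
    · exact key 1 (one_mem _) (one_mul _) (by rw [mul_one]; exact e)
    · exact key J D.memJ (mul_self_of_orderOf D.ordJ) e
  · rw [← map_mul] at h
    rcases B.eq_or_of_induce h with e | e
    · exact key v B.memH (mul_self_of_orderOf B.ord) e
    · exact key (v * J) B.vJ_mem (mul_self_of_orderOf B.vJ_ord) (by rw [← mul_assoc]; exact e)

end BData

end CfsgLib.KimuraFour
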