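import Cfsg.Agent.Lib.Perm.KimuraFour.Regular

/-!
# Lifting the translations of the fixed point set into the centraliser of the involution
-/

set_option autoImplicit false

namespace CfsgLib.KimuraFour

open MulAction

variable {G : Type*} [Group G] {Ω : Type*} [MulAction G Ω]

local notation "Cent" J:max => Subgroup.centralizer (Singleton.singleton J : Set _)

/-- An odd translation group of the fixed points of `J` inside the centraliser of `J`. -/
structure EData (Ω : Type*) [MulAction G Ω] (J : G) (p : ℕ) (E : Subgroup G) : Prop where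
  prime : p.Prime
  odd : Odd p
  le_cent : E ≤ Cent J
  comm : ∀ x ∈ E, ∀ y ∈ E, x * y = y * x
  pow : ∀ x ∈ E, x ^ p = 1
  trans : ∀ c d : Ω, J • c = c → J • d = d → ∃ e ∈ E, e • c = d
  free : ∀ e ∈ E, ∀ c : Ω, J • c = c → e • c = c → e = 1
  norm : Cent J ≤ Subgroup.normalizer (E : Set G)
  sat : ∀ g ∈ Cent J, g ^ p = 1 → (∀ c : Ω, J • c = c → g • c ≠ c) → g ∈ E

/-- The two-point stabiliser of the centraliser has exponent two. -/
def SqStab (a b : Ω) (J : G) : Prop :=
  ∀ h ∈ (pairStab a b : Subgroup G), h * J = J * h → h * h = 1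

namespace InvData

variable {a b : Ω} {J : G}

theorem sq_of_fix_two (D : InvData G Ω a b J) (hs : SqStab a b J) {x w : G} (hw : IsConj J w)
    (hx : x * w = w * x) {c d : Ω} (hcd : c ≠ d) (hwc : w • c = c) (hwd : w • d = d)
    (hc : x • c = c) (hd : x • d = d) : x * x = 1 := by
  obtain ⟨g, hg1, hg2⟩ := exists_smul_pair D.two D.ne hcd
  change g • a = c at hg1
  change g • b = d at hg2
  have hm : ∀ y : G, y • c = c → y • d = d → g⁻¹ * y * g ∈ (pairStab a b : Subgroup G) := by
    intro y h1 h2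
    rw [← conj_mem_pairStab_iff g, show g * (g⁻¹ * y * g) * g⁻¹ = y by group, hg1, hg2]
    exact mem_pairStab.2 ⟨h1, h2⟩
  obtain ⟨h, hh, he⟩ := D.conjJ _ (hm w hwc hwd) (by
    simpa using (orderOf_conj_eq g⁻¹ w).trans (D.orderOf_of_conj hw))
  have hxm := mul_mem (mul_mem (inv_mem hh) (hm x hc hd)) hh
  have hcomm : h⁻¹ * (g⁻¹ * x * g) * h * J = J * (h⁻¹ * (g⁻¹ * x * g) * h) := by
    rw [show J = h⁻¹ * (g⁻¹ * w * g) * h by rw [← he]; group]
    calc h⁻¹ * (g⁻¹ * x * g) * h * (h⁻¹ * (g⁻¹ * w * g) * h) = h⁻¹ * g⁻¹ * (x * w) * g * h := by group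
      _ = _ := by rw [hx]; group
  have h2 := hs _ hxm hcomm
  calc x * x = (g * h) * (h⁻¹ * (g⁻¹ * x * g) * h * (h⁻¹ * (g⁻¹ * x * g) * h)) * (g * h)⁻¹ := by group
    _ = 1 := by rw [h2]; group

/-- An element of odd order commuting with a conjugate of `J` and fixing two of its fixed points is trivial. -/
theorem eq_one_of_fix_two (D : InvData G Ω a b J) (hs : SqStab a b J) {x w : G} (hw : IsConj J w)
    (hx : x * w = w * x) (ho : Odd (orderOf x)) {c d : Ω} (hcd : c ≠ d) (hwc : w • c = c) (hwd : w • d = d)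
    (hc : x • c = c) (hd : x • d = d) : x = 1 := by
  have h2 : orderOf x ∣ 2 := orderOf_dvd_of_pow_eq_one (by
    rw [pow_two]; exact D.sq_of_fix_two hs hw hx hcd hwc hwd hc hd)
  rcases (Nat.dvd_prime Nat.prime_two).1 h2 with h | h
  · exact orderOf_eq_one_iff.1 h
  · rw [h] at ho; exact absurd ho (by decide)

theorem exists_eData (D : InvData G Ω a b J) [Finite G] [Finite Ω] (hs : SqStab a b J)
    (hcard : Nat.card ↥(pairStab a b ⊓ Cent J : Subgroup G) ≤ 4) {p : ℕ}
    {N : Subgroup ↥(inducedPerm Ω J)} (R : RegularKernel ↥(fixPts Ω J) p N) (hp : Odd p)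
    (hN : ∀ x : ↥(inducedPerm Ω J), x ^ p = 1 → (∀ c : ↥(fixPts Ω J), x • c ≠ c) → x ∈ N) :
    ∃ E : Subgroup G, EData Ω J p E := by
  haveI := R.normal
  obtain ⟨r, hr⟩ := hp
  have hpr : Odd p := ⟨r, hr⟩
  have hker : ∀ k : ↥(Cent J), induce Ω J k = 1 → (k : G) * k = 1 := fun k hk =>
    D.sq_of_fix_two hs (IsConj.refl J) (Subgroup.mem_centralizer_singleton_iff.1 k.2) D.ne D.smul_a D.smul_b
      ((induce_eq_one_iff k).1 hk a D.smul_a) ((induce_eq_one_iff k).1 hk b D.smul_b)
  have h2 : ∀ k : ↥(Cent J), induce Ω J k = 1 → k * k = 1 := fun k hk => Subtype.ext (hker k hk)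
  have hkp : ∀ k : ↥(Cent J), k * k = 1 → k ^ p = k := fun k hk => by
    rw [hr, pow_succ, pow_mul, pow_two, hk, one_pow, one_mul]
  have hcube : ∀ x : ↥(Cent J), induce Ω J x ∈ N → (x * x) ^ p = 1 := by
    intro x hx
    have hk : induce Ω J (x ^ p) = 1 := by rw [map_pow]; exact R.pow _ hx
    rw [← pow_two, ← pow_mul, mul_comm, pow_mul, pow_two, h2 _ hk]
  have hcen : ∀ z k : ↥(Cent J), induce Ω J k = 1 → z ^ p = 1 → z * k = k * z := by
    intro z k hk hzp
    by_contra hne
    set m : ↥(Cent J) := ⟨J, Subgroup.mem_centralizer_singleton_iff.2 rfl⟩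
    have hm1 : induce Ω J m = 1 := (induce_eq_one_iff m).2 fun c hc => hc
    set k' := z * k * z⁻¹ with hk'
    set k'' := z * k' * z⁻¹ with hk''
    have h1 : k' ≠ k := fun e => hne (mul_inv_eq_iff_eq_mul.1 e)
    have h2' : k'' ≠ k' := fun e => h1 ((MulAut.conj z).injective (show z * k' * z⁻¹ = z * k * z⁻¹ from e))
    have h3 : k'' ≠ k := by
      intro e
      have hc2 : Commute (z ^ 2) k := by
        refine mul_inv_eq_iff_eq_mul.1 ?_
        conv_rhs => rw [← e, hk'', hk']
        rw [pow_two]; group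
      have hcp : Commute (z ^ p) k := by rw [hzp]; exact Commute.one_left k
      apply hne
      have hz : z = z ^ p * ((z ^ 2) ^ r)⁻¹ := by rw [← pow_mul, hr, pow_succ']; group
      rw [hz]
      exact (Commute.mul_left hcp (Commute.inv_left (hc2.pow_left r))).eq
    have hkm : k ≠ m := fun e => hne (by
      rw [e]; exact Subtype.ext (Subgroup.mem_centralizer_singleton_iff.1 z.2))
    have hkm' : k' ≠ m := fun e => hne (by
      have : k = z⁻¹ * m * z := by rw [← e, hk']; group
      rw [this, show z⁻¹ * m * z = m from Subtype.ext (by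
        show (z : G)⁻¹ * J * z = J
        rw [mul_assoc, ← Subgroup.mem_centralizer_singleton_iff.1 z.2]; group)]
      exact Subtype.ext (Subgroup.mem_centralizer_singleton_iff.1 z.2))
    have hkm'' : k'' ≠ m := fun e => hkm' (by
      have : k' = z⁻¹ * m * z := by rw [← e, hk'']; group
      rw [this]
      exact Subtype.ext (by
        show (z : G)⁻¹ * J * z = J
        rw [mul_assoc, ← Subgroup.mem_centralizer_singleton_iff.1 z.2]; group))
    have hi1 : induce Ω J k' = 1 := by rw [hk', map_mul, map_mul, map_inv, hk]; group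
    have hi2 : induce Ω J k'' = 1 := by rw [hk'', map_mul, map_mul, map_inv, hi1]; group
    have hone : k ≠ 1 := fun e => hne (by rw [e, mul_one, one_mul])
    have hone' : k' ≠ 1 := fun e => hone (by
      have : k = z⁻¹ * k' * z := by rw [hk']; group
      rw [this, e]; group)
    have hone'' : k'' ≠ 1 := fun e => hone' (by
      have : k' = z⁻¹ * k'' * z := by rw [hk'']; group
      rw [this, e]; group)
    have hmone : m ≠ 1 := fun e => by
      have := D.ordJ
      rw [show J = 1 from congrArg Subtype.val e] at this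
      simp at this
    classical
    have hmem : ∀ q : ↥(Cent J), induce Ω J q = 1 → (q : G) ∈ (pairStab a b ⊓ Cent J : Subgroup G) := fun q hq =>
      ⟨mem_pairStab.2 ⟨(induce_eq_one_iff q).1 hq a D.smul_a, (induce_eq_one_iff q).1 hq b D.smul_b⟩, q.2⟩
    have := Fintype.ofFinite G
    have hsub : ({(1 : G), (m : G), (k : G), (k' : G), (k'' : G)} : Finset G) ⊆
        Finset.univ.filter fun g => g ∈ (pairStab a b ⊓ Cent J : Subgroup G) := by
      intro q hq
      simp only [Finset.mem_insert, Finset.mem_singleton] at hq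
      simp only [Finset.mem_filter, Finset.mem_univ, true_and]
      rcases hq with rfl | rfl | rfl | rfl | rfl
      exacts [one_mem _, hmem m hm1, hmem k hk, hmem k' hi1, hmem k'' hi2]
    have hinj : ∀ q q' : ↥(Cent J), q ≠ q' → (q : G) ≠ q' := fun q q' h e => h (Subtype.ext e)
    have hc5 : ({(1 : G), (m : G), (k : G), (k' : G), (k'' : G)} : Finset G).card = 5 := by
      rw [Finset.card_insert_of_notMem, Finset.card_insert_of_notMem, Finset.card_insert_of_notMem,
        Finset.card_insert_of_notMem, Finset.card_singleton] <;>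
        simp only [Finset.mem_insert, Finset.mem_singleton, not_or]
      · exact hinj _ _ h2'.symm
      · exact ⟨hinj _ _ h1.symm, hinj _ _ h3.symm⟩
      · exact ⟨hinj _ _ hkm.symm, hinj _ _ hkm'.symm, hinj _ _ hkm''.symm⟩
      · exact ⟨fun e => hinj _ _ hmone e.symm, fun e => hinj _ _ hone e.symm, fun e => hinj _ _ hone' e.symm,
          fun e => hinj _ _ hone'' e.symm⟩
    have hle := Finset.card_le_card hsub
    rw [hc5, ← Fintype.card_subtype, ← Nat.card_eq_fintype_card] at hle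
    omega
  have hcomm : ∀ x y : ↥(Cent J), induce Ω J x ∈ N → induce Ω J y ∈ N → x ^ p = 1 → y ^ p = 1 → x * y = y * x := by
    intro x y hx hy hxp hyp
    set c := x * y * x⁻¹ * y⁻¹ with hc
    have hc1 : induce Ω J c = 1 := by
      rw [hc, map_mul, map_mul, map_mul, map_inv, map_inv, R.comm _ hx _ hy]; group
    have hcp : c ^ p = 1 := by
      have e1 : x * y * x⁻¹ = c * y := by rw [hc]; group
      have e2 := congrArg (· ^ p) e1
      simp only [conj_pow, hyp, mul_one, mul_inv_cancel] at e2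
      rwa [Commute.mul_pow (hcen y c hc1 hyp).symm, hyp, mul_one, eq_comm] at e2
    rw [hkp c (h2 _ hc1)] at hcp
    calc x * y = c * (y * x) := by rw [hc]; group
      _ = y * x := by rw [hcp, one_mul]
  let E' : Subgroup ↥(Cent J) :=
    { carrier := {g | g ^ p = 1 ∧ induce Ω J g ∈ N}
      one_mem' := ⟨one_pow p, by rw [map_one]; exact one_mem N⟩
      mul_mem' := fun {x y} hx hy => ⟨by
        rw [Commute.mul_pow (hcomm x y hx.2 hy.2 hx.1 hy.1), hx.1, hy.1, one_mul],
        by rw [map_mul]; exact mul_mem hx.2 hy.2⟩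
      inv_mem' := fun {x} hx => ⟨by rw [inv_pow, hx.1, inv_one], by rw [map_inv]; exact inv_mem hx.2⟩ }
  refine ⟨E'.map (Cent J).subtype, R.prime, ⟨r, hr⟩, Subgroup.map_subtype_le _, ?_, ?_, ?_, ?_, ?_, ?_⟩
  · rintro _ ⟨x, hx, rfl⟩ _ ⟨y, hy, rfl⟩
    exact congrArg Subtype.val (hcomm x y hx.2 hy.2 hx.1 hy.1)
  · rintro _ ⟨x, hx, rfl⟩
    exact congrArg Subtype.val hx.1
  · intro c d hc hd
    obtain ⟨q, hq, hqc⟩ := R.trans ⟨c, hc⟩ ⟨d, hd⟩
    obtain ⟨x, rfl⟩ := induce_surjective J q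
    refine ⟨((x * x) ^ (r + 1) : ↥(Cent J)), ⟨(x * x) ^ (r + 1), ⟨?_, ?_⟩, rfl⟩, ?_⟩
    · rw [← pow_mul, mul_comm, pow_mul, hcube x hq, one_pow]
    · rw [map_pow, map_mul]; exact pow_mem (mul_mem hq hq) _
    · have he : induce Ω J ((x * x) ^ (r + 1)) = induce Ω J x := by
        rw [map_pow, map_mul, ← pow_two, ← pow_mul, show 2 * (r + 1) = p + 1 by omega, pow_succ, R.pow _ hq,
          one_mul]
      rw [(induce_eq_iff _ _).1 he c hc]
      exact congrArg Subtype.val hqc
  · rintro _ ⟨x, ⟨hxp, hxN⟩, rfl⟩ c hc hxc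
    have h1 : induce Ω J x = 1 := R.free _ hxN ⟨c, hc⟩ (Subtype.ext hxc)
    have := hkp x (h2 _ h1)
    rw [hxp] at this
    exact congrArg Subtype.val this.symm
  · intro g hg
    have key : ∀ g : ↥(Cent J), ∀ x ∈ E', g * x * g⁻¹ ∈ E' := fun g x hx =>
      ⟨by rw [conj_pow, hx.1]; group, by rw [map_mul, map_mul, map_inv]; exact R.normal.conj_mem _ hx.2 _⟩
    refine Subgroup.mem_normalizer_iff.2 fun x => ⟨?_, ?_⟩
    · rintro ⟨y, hy, rfl⟩
      exact ⟨⟨g, hg⟩ * y * ⟨g, hg⟩⁻¹, key _ y hy, rfl⟩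
    · rintro ⟨y, hy, hy'⟩
      refine ⟨(⟨g, hg⟩ : ↥(Cent J))⁻¹ * y * (⟨g, hg⟩⁻¹)⁻¹, key _ y hy, ?_⟩
      show g⁻¹ * (y : G) * g⁻¹⁻¹ = x
      rw [show (y : G) = g * x * g⁻¹ from hy']; group
  · intro g hg hgp hfree
    refine ⟨⟨g, hg⟩, ⟨Subtype.ext hgp, hN _ ?_ ?_⟩, rfl⟩
    · rw [← map_pow, show (⟨g, hg⟩ : ↥(Cent J)) ^ p = 1 from Subtype.ext hgp, map_one]
    · exact fun c h => hfree c.1 c.2 (congrArg Subtype.val h)

end InvData

end CfsgLib.KimuraFour
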