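import Cfsg.Agent.Lib.Perm.KimuraFour.EvenBasic

/-!
# Even degree with a two-point stabiliser of order two
-/

set_option autoImplicit false

namespace CfsgLib.KimuraFour

open MulAction

variable {G : Type*} [Group G] [Finite G] {Ω : Type*} [MulAction G Ω] [Finite Ω] {a b : Ω} {u : G}

local notation "Cent" J:max => Subgroup.centralizer (Singleton.singleton J : Set _)

namespace InvData

variable (D : InvData G Ω a b u) (hstab : ∀ x ∈ (pairStab a b : Subgroup G), x = 1 ∨ x = u)

include D hstab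

theorem gamma_one : InvData.gamma a b u = 1 := by
  rw [InvData.gamma, Nat.card_eq_one_iff_unique]
  refine ⟨⟨fun x y => Subtype.ext ?_⟩, ⟨⟨u, IsConj.refl u, mem_pairStab.1 D.memJ⟩⟩⟩
  have : ∀ x : {x : G // IsConj u x ∧ x • a = a ∧ x • b = b}, x.1 = u := fun x =>
    (hstab x.1 (mem_pairStab.2 x.2.2)).resolve_left fun h => by
      have := D.orderOf_of_conj x.2.1
      rw [h, orderOf_one] at this; norm_num at this
  rw [this x, this y]

theorem card_stab_two : Nat.card ↥(pairStab a b : Subgroup G) = 2 := by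
  have hz : (pairStab a b : Subgroup G) = Subgroup.zpowers u := by
    refine le_antisymm (fun x hx => ?_) (Subgroup.zpowers_le.2 D.memJ)
    rcases hstab x hx with rfl | rfl
    · exact one_mem _
    · exact Subgroup.mem_zpowers x
  rw [hz, Nat.card_zpowers, D.ordJ]

/-- The centraliser of `u` is sharply doubly transitive on the fixed points of `u`. -/
theorem sharp_of_two (x : ↥(inducedPerm Ω u)) (c d : ↥(fixPts Ω u)) (hcd : c ≠ d) (hc : x • c = c)
    (hd : x • d = d) : x = 1 := by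
  obtain ⟨g, rfl⟩ := induce_surjective u x
  rw [induce_eq_one_iff]
  intro e he
  obtain ⟨k, hk, hka, hkb⟩ := D.exists_centralizing D.smul_a D.smul_b c.2 d.2 D.ne
    (fun h => hcd (Subtype.ext h))
  have hm : k⁻¹ * (g : G) * k ∈ (pairStab a b : Subgroup G) := by
    rw [← conj_mem_pairStab_iff k, show k * (k⁻¹ * (g : G) * k) * k⁻¹ = g by group, hka, hkb]
    exact mem_pairStab.2 ⟨congrArg Subtype.val hc, congrArg Subtype.val hd⟩
  rcases hstab _ hm with h | h
  · rw [show (g : G) = k * (k⁻¹ * (g : G) * k) * k⁻¹ by group, h]; simp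
  · rw [show (g : G) = k * (k⁻¹ * (g : G) * k) * k⁻¹ by group, h, mul_smul, mul_smul,
      smul_mem_fix (inv_mem hk) he, smul_inv_smul]

omit hstab in
/-- Some conjugate of `u` interchanges `a` and `b`. -/
theorem exists_conj_swap [FaithfulSMul G Ω] : ∃ x : G, IsConj u x ∧ x • a = b := by
  obtain ⟨c, hc⟩ : ∃ c : Ω, u • c ≠ c := by
    by_contra hcon
    push Not at hcon
    have : u = 1 := eq_of_smul_eq_smul fun c : Ω => by rw [hcon, one_smul]
    simpa [this] using D.ordJ
  obtain ⟨g, hg1, hg2⟩ := exists_smul_pair D.two (Ne.symm hc) D.ne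
  refine ⟨g * u * g⁻¹, isConj_iff.2 ⟨g, rfl⟩, ?_⟩
  change g • c = a at hg1
  change g • u • c = b at hg2
  rw [← hg1, mul_smul, mul_smul, inv_smul_smul, hg2]

/-- With one conjugate and one further involution interchanging `a` and `b`, the degree is an even square of
a power of two and the other involutions are translations. -/
theorem translations_of_two [FaithfulSMul G Ω] (heven : Even (Nat.card Ω))
    (hone : ∀ x y : G, IsConj u x → x • a = b → IsConj u y → y • a = b → x = y)
    (hother : ∀ x y : G, orderOf x = 2 → ¬ IsConj u x → x • a = b → orderOf y = 2 → ¬ IsConj u y → y • a = b →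
      x = y)
    {w : G} (hw : orderOf w = 2) (hwn : ¬ IsConj u w) (hwa : w • a = b) :
    ∃ (m : ℕ) (N : Subgroup G), RegularKernel Ω 2 N ∧ 0 < m ∧ fixCard Ω u = 2 ^ m ∧
      Nat.card Ω = 2 ^ m * 2 ^ m ∧ ∀ x ∈ N, x ≠ 1 → orderOf x = 2 ∧ ¬ IsConj u x := by
  classical
  obtain ⟨x₀, hx₀, hx₀a⟩ := D.exists_conj_swap
  have hβ : InvData.beta a b u = 1 := by
    rw [InvData.beta, Nat.card_eq_one_iff_unique]
    exact ⟨⟨fun x y => Subtype.ext (hone x.1 y.1 x.2.1 x.2.2 y.2.1 y.2.2)⟩, ⟨⟨x₀, hx₀, hx₀a⟩⟩⟩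
  have hf := D.formula
  rw [D.gamma_one hstab, hβ, one_mul, one_mul] at hf
  have hj2 := D.two_le_fixCard
  have hle := fixCard_le (Ω := Ω) u
  obtain ⟨m, N', -, hm, hjm, -, -⟩ := D.even_induced (D.even_fixCard heven) (D.sharp_of_two hstab)
  have hn : Nat.card Ω = 2 ^ m * 2 ^ m := by
    rw [← hjm]
    obtain ⟨j, hj⟩ : ∃ j, fixCard Ω u = j + 1 := ⟨fixCard Ω u - 1, by omega⟩
    rw [hj] at hf hle ⊢
    rw [Nat.add_sub_cancel] at hf
    have : (j + 1) * (j + 1) = (j + 1) + (j + 1) * j := by ring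
    omega
  haveI : Nontrivial Ω := ⟨⟨a, b, D.ne⟩⟩
  obtain ⟨N, R, hN⟩ := exists_translations (m := m + m) D.two
    (P := fun x => orderOf x = 2 ∧ ¬ IsConj u x)
    (fun g x hx => ⟨(orderOf_conj_eq g x).trans hx.1,
      fun h => hx.2 (h.trans (isConj_iff.2 ⟨g⁻¹, by group⟩))⟩)
    (fun x hx => hx.1) (fun x hx c hc => hx.2 (D.isConj_of_fix heven hx.1 hc))
    (fun c d hcd => by
      obtain ⟨g, hg1, hg2⟩ := exists_smul_pair D.two D.ne hcd
      change g • a = c at hg1
      change g • b = d at hg2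
      refine ⟨g * w * g⁻¹, ⟨(orderOf_conj_eq g w).trans hw,
        fun h => hwn (h.trans (isConj_iff.2 ⟨g⁻¹, by group⟩))⟩, ?_⟩
      rw [← hg1, ← hg2, (smul_eq_iff_conj g w a b).2 hwa])
    (fun x y hx hy c hxy => by
      have hne : c ≠ x • c := fun e => hx.2 (D.isConj_of_fix heven hx.1 e.symm)
      obtain ⟨g, hg1, hg2⟩ := exists_smul_pair D.two D.ne hne
      change g • a = c at hg1
      change g • b = x • c at hg2
      have key : ∀ z : G, orderOf z = 2 ∧ ¬ IsConj u z → z • c = x • c →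
          orderOf (g⁻¹ * z * g) = 2 ∧ ¬ IsConj u (g⁻¹ * z * g) ∧ (g⁻¹ * z * g) • a = b := fun z hz h =>
        ⟨by simpa using (orderOf_conj_eq g⁻¹ z).trans hz.1, fun e => hz.2 (e.trans (isConj_iff.2 ⟨g, by group⟩)),
          by rw [mul_smul, mul_smul, hg1, h, ← hg2, inv_smul_smul]⟩
      obtain ⟨h1, h2, h3⟩ := key x hx rfl
      obtain ⟨h4, h5, h6⟩ := key y hy hxy.symm
      have := hother _ _ h1 h2 h3 h4 h5 h6
      exact mul_left_cancel (mul_right_cancel this))
    (by rw [hn, pow_add]) inferInstance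
  exact ⟨m, N, R, hm, hjm, hn, hN⟩

end InvData

end CfsgLib.KimuraFour
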