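import Cfsg.Agent.Lib.Perm.KimuraFour.Regular
import Mathlib.FieldTheory.Finite.GaloisField
import Mathlib.LinearAlgebra.Matrix.GeneralLinearGroup.Card
import Mathlib.LinearAlgebra.AffineSpace.AffineEquiv

/-!
# A group of order 2880 with a plane over the field of four elements
-/

set_option autoImplicit false

namespace CfsgLib.KimuraFour

open MulAction

/-- The field of four elements. -/
theorem four_field {F : Type*} [Field F] [Finite F] [CharP F 2] (hF : Nat.card F = 4) :
    ∃ θ : F, θ ≠ 0 ∧ θ ≠ 1 ∧ θ * θ = θ + 1 ∧ ∀ c : F, c = 0 ∨ c = 1 ∨ c = θ ∨ c = θ + 1 := by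
  classical
  have := Fintype.ofFinite F
  rw [Nat.card_eq_fintype_card] at hF
  obtain ⟨θ, hθ⟩ := Finset.exists_mem_notMem_of_card_lt_card (s := ({0, 1} : Finset F)) (t := Finset.univ)
    (by rw [Finset.card_univ, hF]; exact Finset.card_le_two.trans_lt (by norm_num))
  simp only [Finset.mem_univ, Finset.mem_insert, Finset.mem_singleton, true_and, not_or] at hθ
  obtain ⟨h0, h1⟩ := hθ
  have h2 : (1 : F) + 1 = 0 := CharTwo.add_self_eq_zero 1
  have hall : ∀ c : F, c = 0 ∨ c = 1 ∨ c = θ ∨ c = θ + 1 := by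
    have e : ({0, 1, θ, θ + 1} : Finset F) = Finset.univ := by
      refine Finset.eq_univ_of_card _ ?_
      rw [hF, Finset.card_insert_of_notMem, Finset.card_insert_of_notMem, Finset.card_pair]
      · intro h; simp at h
      · simp only [Finset.mem_insert, Finset.mem_singleton, not_or]
        exact ⟨Ne.symm h1, fun h => h0 (by simpa using h.symm)⟩
      · simp only [Finset.mem_insert, Finset.mem_singleton, not_or]
        exact ⟨zero_ne_one, Ne.symm h0, fun h => h1 (by linear_combination -h - h2)⟩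
    intro c
    have := e ▸ Finset.mem_univ c
    simpa using this
  refine ⟨θ, h0, h1, ?_, hall⟩
  rcases hall (θ * θ) with h | h | h | h
  · exact absurd (mul_self_eq_zero.1 h) h0
  · exfalso
    have h3 : (θ + 1) * (θ + 1) = 0 := by linear_combination h + (θ + 1) * h2
    exact h1 (by linear_combination (mul_self_eq_zero.1 h3) - h2)
  · exact absurd (mul_right_cancel₀ h0 (h.trans (one_mul θ).symm)) h1
  · exact h

/-- The order of the affine group of the plane over the field of four elements. -/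
theorem card_affine_four {F : Type*} [Field F] [Fintype F] (hF : Fintype.card F = 4) :
    Nat.card ((Fin 2 → F) ≃ᵃ[F] (Fin 2 → F)) = 2880 := by
  let e : ((Fin 2 → F) ≃ᵃ[F] (Fin 2 → F)) ≃ (Fin 2 → F) × ((Fin 2 → F) ≃ₗ[F] (Fin 2 → F)) :=
    { toFun := fun f => (f 0, f.linear)
      invFun := fun p => p.2.toAffineEquiv.trans (AffineEquiv.constVAdd F (Fin 2 → F) p.1)
      left_inv := fun f => by
        ext x : 1
        show f 0 + f.linear x = f x
        have := f.map_vadd 0 x
        simp only [vadd_eq_add, add_zero] at this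
        rw [this, add_comm]
      right_inv := fun p => Prod.ext (by
        show p.1 + p.2 0 = p.1
        rw [map_zero, add_zero]) (by ext; rfl) }
  rw [Nat.card_congr e, Nat.card_prod, ← Nat.card_congr
    ((Matrix.GeneralLinearGroup.toLin (n := Fin 2) (R := F)).trans
      (LinearMap.GeneralLinearGroup.generalLinearEquiv F (Fin 2 → F))).toEquiv,
    Matrix.card_GL_field, Nat.card_fun, Nat.card_eq_fintype_card, hF, Nat.card_fin, Fin.prod_univ_two]
  rfl

variable {G : Type*} [Group G] [Finite G] {Ω : Type*} [MulAction G Ω] [Finite Ω]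

open scoped _root_.Classical in
/-- The action of a field element on an element of the translation group. -/
noncomputable def fourAct {F : Type*} [Field F] (θ : F) (ω : G) (c : F) (n : G) : G :=
  if c = 0 then 1 else if c = 1 then n else if c = θ then ω * n * ω⁻¹ else n * (ω * n * ω⁻¹)

theorem exists_affine_sixteen [FaithfulSMul G Ω] (h2 : IsMultiplyPretransitive G Ω 2) (hn : Nat.card Ω = 16)
    (hG : Nat.card G = 2880) {N : Subgroup G} (R : RegularKernel Ω 2 N) {a : Ω} {ω : G} (hω3 : orderOf ω = 3)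
    (hωa : ω • a = a) (hωc : ∀ g : G, g • a = a → g * ω = ω * g) :
    ∃ (F : Type) (_ : Field F) (_ : Fintype F), Fintype.card F = 4 ∧
      Nonempty (G ≃* ((Fin 2 → F) ≃ᵃ[F] (Fin 2 → F))) := by
  classical
  haveI := R.normal
  haveI : Fact (Nat.Prime 2) := ⟨Nat.prime_two⟩
  haveI : Nonempty Ω := ⟨a⟩
  have hsq : ∀ n ∈ N, n * n = 1 := fun n hn => by rw [← pow_two]; exact R.pow n hn
  have hNcard : Nat.card ↥N = 16 := R.card.trans hn
  have hω3' : ω * ω * ω = 1 := by rw [← pow_three', ← hω3]; exact pow_orderOf_eq_one ω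
  have hconjN : ∀ {x n : G}, n ∈ N → x * n * x⁻¹ ∈ N := fun {x n} h => R.normal.conj_mem n h x
  -- `ω` fixes no translation
  have hfree : ∀ n ∈ N, ω * n = n * ω → n = 1 := by
    intro n hn hc
    by_contra hn1
    have hω1 : ω = 1 := by
      refine eq_of_smul_eq_smul (α := Ω) fun c => ?_
      rcases eq_or_ne c a with rfl | hca
      · rw [hωa, one_smul]
      obtain ⟨g, hga, hgb⟩ := MulAction.is_two_pretransitive_iff.1 h2
        (show a ≠ n • a from fun e => hn1 (R.free n hn a e.symm)) (Ne.symm hca)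
      rw [one_smul, ← hgb, ← mul_smul, ← hωc g hga, mul_smul]
      congr 1
      rw [← mul_smul, hc, mul_smul, hωa]
    rw [hω1, orderOf_one] at hω3
    norm_num at hω3
  -- the sum over an orbit of `ω` is trivial
  have hrel : ∀ n ∈ N, ω * (ω * n * ω⁻¹) * ω⁻¹ = n * (ω * n * ω⁻¹) := by
    intro n hn
    set n₁ := ω * n * ω⁻¹ with hn₁
    set n₂ := ω * n₁ * ω⁻¹ with hn₂
    have hm₁ : n₁ ∈ N := hconjN hn
    have hm₂ : n₂ ∈ N := hconjN hm₁
    have h1 : n * n₁ * n₂ = 1 := by
      refine hfree _ (mul_mem (mul_mem hn hm₁) hm₂) ?_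
      have e3 : ω * n₂ * ω⁻¹ = n := by
        calc ω * n₂ * ω⁻¹ = (ω * ω * ω) * n * (ω * ω * ω)⁻¹ := by rw [hn₂, hn₁]; group
          _ = n := by rw [hω3']; group
      calc ω * (n * n₁ * n₂) = ((ω * n * ω⁻¹) * (ω * n₁ * ω⁻¹) * (ω * n₂ * ω⁻¹)) * ω := by group
        _ = (n₁ * n₂ * n) * ω := by rw [e3]
        _ = _ := by rw [R.comm _ (mul_mem hm₁ hm₂) n hn, mul_assoc n n₁ n₂]
    rw [← inv_eq_of_mul_eq_one_right h1]
    exact inv_eq_of_mul_eq_one_right (hsq _ (mul_mem hn hm₁))
  let F := GaloisField 2 2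
  letI : Fintype F := Fintype.ofFinite F
  have hFc : Nat.card F = 4 := by rw [GaloisField.card 2 2 two_ne_zero]; rfl
  obtain ⟨θ, h0, h1, hθθ, hall⟩ := four_field (F := F) hFc
  have h20 : (1 : F) + 1 = 0 := CharTwo.add_self_eq_zero 1
  have hθ1 : θ + 1 ≠ 0 := fun h => h1 (by linear_combination h - h20)
  have hθ1' : θ + 1 ≠ 1 := fun h => h0 (by linear_combination h)
  have hθ1'' : θ + 1 ≠ θ := fun h => one_ne_zero (α := F) (by linear_combination h)
  have a0 : ∀ n : G, fourAct θ ω 0 n = 1 := fun n => if_pos rfl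
  have a1 : ∀ n : G, fourAct θ ω 1 n = n := fun n => by rw [fourAct, if_neg one_ne_zero, if_pos rfl]
  have a2 : ∀ n : G, fourAct θ ω θ n = ω * n * ω⁻¹ := fun n => by
    rw [fourAct, if_neg h0, if_neg h1, if_pos rfl]
  have a3 : ∀ n : G, fourAct θ ω (θ + 1) n = n * (ω * n * ω⁻¹) := fun n => by
    rw [fourAct, if_neg hθ1, if_neg hθ1', if_neg hθ1'']
  have amem : ∀ c : F, ∀ n ∈ N, fourAct θ ω c n ∈ N := by
    intro c n hn
    rcases hall c with e' | e' | e' | e' <;> subst c
    · rw [a0]; exact one_mem N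
    · rw [a1]; exact hn
    · rw [a2]; exact hconjN hn
    · rw [a3]; exact mul_mem hn (hconjN hn)
  have aadd : ∀ c d : F, ∀ n ∈ N, fourAct θ ω (c + d) n = fourAct θ ω c n * fourAct θ ω d n := by
    intro c d n hn
    have hm := hconjN (x := ω) hn
    have hcm := R.comm n hn _ hm
    have e1 := hsq n hn
    have e2 := hsq _ hm
    have hθ2 : θ + θ = 0 := CharTwo.add_self_eq_zero θ
    set m := ω * n * ω⁻¹ with hmdef
    have f1 : n * (n * m) = m := by rw [← mul_assoc, e1, one_mul]
    have f2 : m * (n * m) = n := by rw [hcm, ← mul_assoc, e2, one_mul]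
    have f3 : n * m * n = m := by rw [hcm, mul_assoc, e1, mul_one]
    have f4 : n * m * m = n := by rw [mul_assoc, e2, mul_one]
    have f5 : n * m * (n * m) = 1 := hsq _ (mul_mem hn hm)
    rcases hall c with e | e | e | e <;> rcases hall d with e' | e' | e' | e' <;> subst c <;> subst d
    · rw [add_zero, a0, one_mul]
    · rw [zero_add, a0, one_mul]
    · rw [zero_add, a0, one_mul]
    · rw [zero_add, a0, one_mul]
    · rw [add_zero, a0, mul_one]
    · rw [h20, a0, a1, e1]
    · rw [add_comm, a3, a1, a2]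
    · rw [show (1 : F) + (θ + 1) = θ by linear_combination h20, a2, a1, a3, f1]
    · rw [add_zero, a0, mul_one]
    · rw [a3, a2, a1, hcm]
    · rw [hθ2, a0, a2, e2]
    · rw [show θ + (θ + 1) = (1 : F) by linear_combination hθ2, a1, a2, a3, f2]
    · rw [add_zero, a0, mul_one]
    · rw [show θ + 1 + (1 : F) = θ by linear_combination h20, a2, a3, a1, f3]
    · rw [show θ + 1 + θ = (1 : F) by linear_combination hθ2, a1, a3, a2, f4]
    · rw [show θ + 1 + (θ + 1) = (0 : F) by linear_combination hθ2 + h20, a0, a3, f5]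
  have atheta : ∀ c : F, ∀ n ∈ N, fourAct θ ω (θ * c) n = ω * fourAct θ ω c n * ω⁻¹ := by
    intro c n hn
    rcases hall c with e' | e' | e' | e' <;> subst c
    · rw [mul_zero, a0]; group
    · rw [mul_one, a2, a1]
    · rw [hθθ, a3, a2, hrel n hn]
    · rw [show θ * (θ + 1) = (1 : F) by linear_combination hθθ + (CharTwo.add_self_eq_zero θ), a1, a3]
      calc n = n * (ω * n * ω⁻¹) * (ω * n * ω⁻¹) := by rw [mul_assoc, hsq _ (hconjN hn), mul_one]
        _ = (ω * n * ω⁻¹) * (n * (ω * n * ω⁻¹)) := R.comm _ (mul_mem hn (hconjN hn)) _ (hconjN hn)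
        _ = (ω * n * ω⁻¹) * (ω * (ω * n * ω⁻¹) * ω⁻¹) := by rw [hrel n hn]
        _ = _ := by group
  -- two independent translations
  obtain ⟨n₁, hn₁, hn₁1⟩ : ∃ n ∈ N, n ≠ 1 := by
    by_contra hcon
    push Not at hcon
    rw [(Subgroup.eq_bot_iff_forall N).2 hcon, Subgroup.card_bot] at hNcard
    norm_num at hNcard
  obtain ⟨n₂, hn₂, hn₂'⟩ : ∃ n ∈ N, ∀ c : F, n ≠ fourAct θ ω c n₁ := by
    by_contra hcon
    push Not at hcon
    have hsurj : Function.Surjective (fun c : F => (⟨fourAct θ ω c n₁, amem c n₁ hn₁⟩ : ↥N)) := fun x => by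
      obtain ⟨c, hc⟩ := hcon x x.2
      exact ⟨c, Subtype.ext hc.symm⟩
    have := Nat.card_le_card_of_surjective _ hsurj
    omega
  let e₀ : (Fin 2 → F) → ↥N := fun x =>
    ⟨fourAct θ ω (x 0) n₁ * fourAct θ ω (x 1) n₂, mul_mem (amem _ _ hn₁) (amem _ _ hn₂)⟩
  have e₀add : ∀ x y, e₀ (x + y) = e₀ x * e₀ y := fun x y => Subtype.ext (by
    show fourAct θ ω (x 0 + y 0) n₁ * fourAct θ ω (x 1 + y 1) n₂ = _
    rw [aadd _ _ _ hn₁, aadd _ _ _ hn₂]
    exact (show Commute (fourAct θ ω (y 0) n₁) (fourAct θ ω (x 1) n₂) from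
      R.comm _ (amem _ _ hn₁) _ (amem _ _ hn₂)).mul_mul_mul_comm _ _)
  have hdiv : ∀ c d : F, d ≠ 0 → fourAct θ ω d n₂ = fourAct θ ω c n₁ → False := by
    intro c d hd h
    rcases hall d with e' | e' | e' | e' <;> subst d
    · exact hd rfl
    · rw [a1] at h; exact hn₂' c h
    · refine hn₂' (θ * (θ * c)) ?_
      rw [atheta _ _ hn₁, atheta _ _ hn₁, ← h, a2]
      calc n₂ = (ω * ω * ω) * n₂ * (ω * ω * ω)⁻¹ := by rw [hω3']; group
        _ = _ := by group
    · refine hn₂' (θ * c) ?_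
      rw [atheta _ _ hn₁, ← h, ← atheta _ _ hn₂,
        show θ * (θ + 1) = (1 : F) by linear_combination hθθ + (CharTwo.add_self_eq_zero θ), a1]
  have hker : ∀ x, e₀ x = 1 → x = 0 := by
    intro x hx
    have hx' : fourAct θ ω (x 0) n₁ * fourAct θ ω (x 1) n₂ = 1 := congrArg Subtype.val hx
    have h10 : x 1 = 0 := by
      by_contra hne
      refine hdiv (x 0) (x 1) hne ?_
      rw [← inv_eq_of_mul_eq_one_right hx']
      exact inv_eq_of_mul_eq_one_right (hsq _ (amem _ _ hn₁))
    rw [h10, a0, mul_one] at hx'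
    have h00 : x 0 = 0 := by
      rcases hall (x 0) with h | h | h | h
      · exact h
      · rw [h, a1] at hx'; exact absurd hx' hn₁1
      · rw [h, a2, conj_eq_one_iff] at hx'; exact absurd hx' hn₁1
      · exfalso
        rw [h, a3, ← hrel n₁ hn₁, conj_eq_one_iff, conj_eq_one_iff] at hx'
        exact hn₁1 hx'
    funext i
    fin_cases i <;> assumption
  have e₀inj : Function.Injective e₀ := by
    intro x y h
    have h1 : e₀ (x + y) = 1 := by
      rw [e₀add, h]
      exact Subtype.ext (hsq _ (e₀ y).2)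
    have h2 := hker _ h1
    funext i
    exact CharTwo.add_eq_zero.1 (congrFun h2 i)
  let e : (Fin 2 → F) ≃ ↥N := Equiv.ofBijective e₀ ((Nat.bijective_iff_injective_and_card e₀).2
    ⟨e₀inj, by rw [Nat.card_fun, hFc, Nat.card_fin, hNcard]; rfl⟩)
  have eadd : ∀ x y, e (x + y) = e x * e y := e₀add
  have esymm_mul : ∀ m m' : ↥N, e.symm (m * m') = e.symm m + e.symm m' := fun m m' => e.injective (by
    rw [eadd, e.apply_symm_apply, e.apply_symm_apply, e.apply_symm_apply])
  have etheta : ∀ x, ((e (θ • x) : ↥N) : G) = ω * (e x : G) * ω⁻¹ := by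
    intro x
    show fourAct θ ω (θ * x 0) n₁ * fourAct θ ω (θ * x 1) n₂ =
      ω * (fourAct θ ω (x 0) n₁ * fourAct θ ω (x 1) n₂) * ω⁻¹
    rw [atheta _ _ hn₁, atheta _ _ hn₂]
    group
  -- the linear part
  let cj : G → ↥N → ↥N := fun g n => ⟨g * n * g⁻¹, hconjN n.2⟩
  have hlin : ∀ g : G, ∃ f : (Fin 2 → F) ≃ₗ[F] (Fin 2 → F), ∀ x, f x = e.symm (cj g (e x)) := by
    intro g
    set f₀ : (Fin 2 → F) → (Fin 2 → F) := fun x => e.symm (cj g (e x)) with hf₀
    have hfadd : ∀ x y, f₀ (x + y) = f₀ x + f₀ y := by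
      intro x y
      rw [hf₀]
      show e.symm _ = _
      rw [← esymm_mul]
      congr 1
      refine Subtype.ext ?_
      show g * ((e (x + y) : ↥N) : G) * g⁻¹ = (g * (e x : G) * g⁻¹) * (g * (e y : G) * g⁻¹)
      rw [eadd, Subgroup.coe_mul]
      group
    have hω : ∀ n : ↥N, ω * (g * (n : G) * g⁻¹) * ω⁻¹ = g * (ω * n * ω⁻¹) * g⁻¹ := by
      intro n
      obtain ⟨m, hm, hma⟩ := R.trans a (g • a)
      have hc : (m⁻¹ * g) * ω = ω * (m⁻¹ * g) := hωc _ (by rw [mul_smul, ← hma, inv_smul_smul])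
      set g₀ := m⁻¹ * g with hg₀
      have hg : ∀ y : ↥N, g * (y : G) * g⁻¹ = g₀ * y * g₀⁻¹ := fun y => by
        calc g * (y : G) * g⁻¹ = m * (g₀ * y * g₀⁻¹) * m⁻¹ := by rw [hg₀]; group
          _ = _ := by rw [R.comm m hm _ (hconjN y.2), mul_inv_cancel_right]
      rw [hg n, show g * (ω * (n : G) * ω⁻¹) * g⁻¹ = g₀ * (ω * n * ω⁻¹) * g₀⁻¹ from hg ⟨_, hconjN n.2⟩]
      calc ω * (g₀ * (n : G) * g₀⁻¹) * ω⁻¹ = ω * g₀ * n * (ω * g₀)⁻¹ := by group
        _ = _ := by rw [← hc]; group
    have hfθ : ∀ x, f₀ (θ • x) = θ • f₀ x := by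
      intro x
      refine e.injective (Subtype.ext ?_)
      rw [etheta, hf₀]
      show ((e (e.symm (cj g (e (θ • x)))) : ↥N) : G) = ω * ((e (e.symm (cj g (e x))) : ↥N) : G) * ω⁻¹
      rw [e.apply_symm_apply, e.apply_symm_apply]
      show g * ((e (θ • x) : ↥N) : G) * g⁻¹ = ω * (g * (e x : G) * g⁻¹) * ω⁻¹
      rw [etheta, hω]
    have hfsmul : ∀ (c : F) x, f₀ (c • x) = c • f₀ x := by
      intro c x
      rcases hall c with e' | e' | e' | e' <;> subst c
      · rw [zero_smul, zero_smul]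
        have h := hfadd 0 0
        rw [add_zero] at h
        exact left_eq_add.1 h
      · rw [one_smul, one_smul]
      · exact hfθ x
      · rw [add_smul, add_smul, one_smul, one_smul, hfadd, hfθ]
    let fl : (Fin 2 → F) →ₗ[F] (Fin 2 → F) := { toFun := f₀, map_add' := hfadd, map_smul' := hfsmul }
    have hinj : Function.Injective fl := fun x y h => e.injective (Subtype.ext (by
      have h1 : g * (e x : G) * g⁻¹ = g * (e y : G) * g⁻¹ := congrArg Subtype.val (e.symm.injective h)
      exact mul_left_cancel (mul_right_cancel h1)))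
    exact ⟨LinearEquiv.ofBijective fl ((Finite.injective_iff_bijective).1 hinj), fun x => rfl⟩
  choose lin hlin using hlin
  -- the affine map
  let p : ↥N → Ω := fun n => (n : G) • a
  have hp : Function.Bijective p := ⟨fun m m' h => Subtype.ext (inv_mul_eq_one.1 (R.free _
      (mul_mem (inv_mem m.2) m'.2) a (by
        rw [mul_smul, show (m' : G) • a = (m : G) • a from h.symm, inv_smul_smul]))),
    fun c => (R.trans a c).elim fun n hn => ⟨⟨n, hn.1⟩, hn.2⟩⟩
  let P : (Fin 2 → F) ≃ Ω := e.trans (Equiv.ofBijective p hp)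
  have hP : ∀ x, P x = (e x : G) • a := fun _ => rfl
  let Φ : G → ((Fin 2 → F) ≃ᵃ[F] (Fin 2 → F)) := fun g =>
    { toEquiv := (P.trans (MulAction.toPerm g)).trans P.symm
      linear := lin g
      map_vadd' := fun x v => by
        rw [vadd_eq_add, vadd_eq_add]
        show P.symm (g • P (v + x)) = lin g v + P.symm (g • P x)
        rw [P.symm_apply_eq, hP (v + x), hP (lin g v + _), eadd, eadd, Subgroup.coe_mul, Subgroup.coe_mul,
          mul_smul _ ((e (P.symm (g • P x)) : ↥N) : G), ← hP (P.symm (g • P x)), P.apply_symm_apply, hP x, hlin,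
          e.apply_symm_apply]
        show g • ((e v : G) * (e x : G)) • a = (g * (e v : G) * g⁻¹) • g • (e x : G) • a
        simp only [← mul_smul]
        congr 1
        group }
  have hΦmul : ∀ g h : G, Φ (g * h) = Φ g * Φ h := fun g h => AffineEquiv.ext fun x => by
    show P.symm ((g * h) • P x) = P.symm (g • P (P.symm (h • P x)))
    rw [P.apply_symm_apply, mul_smul]
  let Φh : G →* ((Fin 2 → F) ≃ᵃ[F] (Fin 2 → F)) := MonoidHom.mk' Φ hΦmul
  have hΦinj : Function.Injective Φh := fun g h he => eq_of_smul_eq_smul fun c => by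
    have h1 : P.symm (g • P (P.symm c)) = P.symm (h • P (P.symm c)) :=
      congrArg (fun f : (Fin 2 → F) ≃ᵃ[F] (Fin 2 → F) => f (P.symm c)) he
    rw [P.apply_symm_apply] at h1
    exact P.symm.injective h1
  have hFf : Fintype.card F = 4 := by rw [← Nat.card_eq_fintype_card, hFc]
  haveI : Finite ((Fin 2 → F) ≃ᵃ[F] (Fin 2 → F)) :=
    Nat.finite_of_card_ne_zero (by rw [card_affine_four hFf]; norm_num)
  exact ⟨F, inferInstance, inferInstance, hFf, ⟨MulEquiv.ofBijective Φh
    ((Nat.bijective_iff_injective_and_card Φh).2 ⟨hΦinj, by rw [hG, card_affine_four hFf]⟩)⟩⟩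

end CfsgLib.KimuraFour
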