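import Mathlib

/-!
# Elementary facts on the alternating group of degree four
-/

set_option autoImplicit false
set_option maxRecDepth 100000
set_option synthInstance.maxHeartbeats 400000
set_option synthInstance.maxSize 2000

namespace CfsgLib.KimuraFour.Alt

local notation "A4" => alternatingGroup (Fin 4)

theorem card_four : Nat.card A4 = 12 := by
  rw [Nat.card_eq_fintype_card]; decide +kernel

theorem inv_conj : ∀ x y : A4, x * x = 1 → x ≠ 1 → y * y = 1 → y ≠ 1 → ∃ h : A4, h * x * h⁻¹ = y := by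
  decide +kernel

theorem inv_count : (Finset.univ.filter fun x : A4 => x * x = 1 ∧ x ≠ 1).card = 3 := by
  decide +kernel

theorem inv_mul : ∀ x y : A4, x * x = 1 → y * y = 1 → x * y = y * x ∧ (x * y) * (x * y) = 1 := by
  decide +kernel

theorem inv_third {x y z : A4} (hx : x * x = 1) (hx1 : x ≠ 1) (hy : y * y = 1) (hy1 : y ≠ 1)
    (hz : z * z = 1) (hz1 : z ≠ 1) (hxy : x ≠ y) (hxz : x ≠ z) (hyz : y ≠ z) : x * y = z := by
  have h : ∀ x y z : A4, (x * x = 1 ∧ x ≠ 1 ∧ y * y = 1 ∧ y ≠ 1 ∧ z * z = 1 ∧ z ≠ 1 ∧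
      x ≠ y ∧ x ≠ z ∧ y ≠ z) → x * y = z := by decide +kernel
  exact h x y z ⟨hx, hx1, hy, hy1, hz, hz1, hxy, hxz, hyz⟩

theorem inv_conj_self : ∀ g x : A4, x * x = 1 → g * x = x * g → x = 1 ∨ g * g = 1 := by
  decide +kernel

theorem order_cases : ∀ g : A4, g * g = 1 ∨ g * g * g = 1 := by
  decide +kernel

theorem three_cent : ∀ t g : A4, t * t * t = 1 → t ≠ 1 → g * t = t * g → g = 1 ∨ g = t ∨ g = t * t := by
  decide +kernel

theorem center_trivial : ∀ g : A4, (∀ h : A4, g * h = h * g) → g = 1 := by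
  decide +kernel

theorem exists_three : ∃ t : A4, t * t * t = 1 ∧ t ≠ 1 := by
  decide +kernel

/-- Every element is an involution or `1` times a power of a given element of order three. -/
theorem coset_three : ∀ t g : A4, t * t * t = 1 → t ≠ 1 → ∃ v : A4, v * v = 1 ∧
    (g = v ∨ g = v * t ∨ g = v * (t * t)) := by
  decide +kernel

/-- An element of order three moves every involution. -/
theorem three_moves : ∀ t v : A4, t * t * t = 1 → t ≠ 1 → v * v = 1 → t * v = v * t → v = 1 := by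
  decide +kernel

/-- The conjugates of one involution by an element of order three. -/
theorem three_cycle {t v w : A4} (ht : t * t * t = 1) (ht1 : t ≠ 1) (hv : v * v = 1) (hv1 : v ≠ 1)
    (hw : w * w = 1) (hw1 : w ≠ 1) : w = v ∨ w = t * v * t⁻¹ ∨ w = t⁻¹ * v * t := by
  have h : ∀ t v w : A4, (t * t * t = 1 ∧ t ≠ 1 ∧ v * v = 1 ∧ v ≠ 1 ∧ w * w = 1 ∧ w ≠ 1) →
      w = v ∨ w = t * v * t⁻¹ ∨ w = t⁻¹ * v * t := by decide +kernel
  exact h t v w ⟨ht, ht1, hv, hv1, hw, hw1⟩

/-- Commutators of involutions with an element of order three fill the four-group. -/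
theorem three_commutator : ∀ t u : A4, t * t * t = 1 → t ≠ 1 → u * u = 1 →
    ∃ w : A4, w * w = 1 ∧ w * t * w⁻¹ = u * t := by
  decide +kernel

end CfsgLib.KimuraFour.Alt
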