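import Mathlib

/-!
# Doubly transitive groups: involutions with two fixed points

Counting of the involutions which fix two points, and their centralisers on the fixed point set.
-/

set_option autoImplicit false

namespace CfsgLib.KimuraFour

open MulAction

variable {G : Type*} [Group G] {Ω : Type*} [MulAction G Ω]

theorem exists_smul_pair (h2 : IsMultiplyPretransitive G Ω 2) {a b c d : Ω} (hab : a ≠ b) (hcd : c ≠ d) :
    ∃ g : G, g • a = c ∧ g • b = d :=
  MulAction.is_two_pretransitive_iff.1 h2 hab hcd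

theorem smul_eq_iff_conj (g x : G) (c d : Ω) : (g * x * g⁻¹) • (g • c) = g • d ↔ x • c = d := by
  rw [mul_smul, mul_smul, inv_smul_smul]
  exact (MulAction.injective g).eq_iff

theorem smul_of_mul_self {x : G} (hx : x * x = 1) (c : Ω) : x • x • c = c := by
  rw [← mul_smul, hx, one_smul]

theorem mul_self_of_orderOf {x : G} (hx : orderOf x = 2) : x * x = 1 := by
  have h := pow_orderOf_eq_one x
  rwa [hx, pow_two] at h

theorem inv_of_orderOf {x : G} (hx : orderOf x = 2) : x⁻¹ = x :=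
  inv_eq_of_mul_eq_one_right (mul_self_of_orderOf hx)

theorem orderOf_two_of {x : G} (h : x * x = 1) (h1 : x ≠ 1) : orderOf x = 2 :=
  orderOf_eq_prime (by rwa [pow_two]) h1

theorem orderOf_conj_eq (g x : G) : orderOf (g * x * g⁻¹) = orderOf x :=
  (MulAut.conj g).orderOf_eq x

theorem orderOf_of_isConj {x y : G} (h : IsConj x y) : orderOf y = orderOf x := by
  obtain ⟨g, rfl⟩ := isConj_iff.1 h
  exact orderOf_conj_eq g x

theorem card_offDiag (α : Type*) [Finite α] :
    Nat.card {p : α × α // p.1 ≠ p.2} = Nat.card α * (Nat.card α - 1) := by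
  classical
  have := Fintype.ofFinite α
  rw [Nat.card_eq_fintype_card, Nat.card_eq_fintype_card, Fintype.card_subtype,
    show (Finset.univ.filter fun p : α × α => p.1 ≠ p.2) = (Finset.univ : Finset α).offDiag by
      ext ⟨u, v⟩; simp,
    Finset.offDiag_card, Finset.card_univ, Nat.mul_sub, mul_one]

/-- The two-point stabiliser. -/
def pairStab (a b : Ω) : Subgroup G := stabilizer G a ⊓ stabilizer G b

theorem mem_pairStab {a b : Ω} {x : G} : x ∈ pairStab a b ↔ x • a = a ∧ x • b = b := Iff.rfl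

theorem conj_mem_pairStab_iff {a b : Ω} (g x : G) :
    g * x * g⁻¹ ∈ pairStab (g • a) (g • b) ↔ x ∈ (pairStab a b : Subgroup G) := by
  simp [mem_pairStab, smul_eq_iff_conj]

theorem card_eq_pairStab [Finite G] (h2 : IsMultiplyPretransitive G Ω 2) [Finite Ω] {a b : Ω} (hab : a ≠ b) :
    Nat.card G = Nat.card Ω * (Nat.card Ω - 1) * Nat.card ↥(pairStab (G := G) a b) := by
  classical
  let f : G → {cd : Ω × Ω // cd.1 ≠ cd.2} := fun g =>
    ⟨(g • a, g • b), fun h => hab ((MulAction.injective g) h)⟩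
  have hfib : ∀ cd, Nat.card {g : G // f g = cd} = Nat.card ↥(pairStab (G := G) a b) := by
    rintro ⟨⟨c, d⟩, hcd⟩
    obtain ⟨g₀, hc, hd⟩ := exists_smul_pair h2 hab hcd
    change g₀ • a = c at hc
    change g₀ • b = d at hd
    refine Nat.card_congr ⟨fun g => ⟨g₀⁻¹ * g.1, ?_⟩, fun h => ⟨g₀ * h.1, ?_⟩, fun g => ?_, fun h => ?_⟩
    · obtain ⟨g, hg⟩ := g
      obtain ⟨h1, h2'⟩ := Prod.ext_iff.1 (congrArg Subtype.val hg)
      simp only [f] at h1 h2'
      exact mem_pairStab.2 ⟨by rw [mul_smul, h1, ← hc, inv_smul_smul], by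
        rw [mul_smul, h2', ← hd, inv_smul_smul]⟩
    · obtain ⟨h, hh⟩ := h
      obtain ⟨h1, h2'⟩ := mem_pairStab.1 hh
      exact Subtype.ext (Prod.ext (by simp only [f]; rw [mul_smul, h1, hc]) (by
        simp only [f]; rw [mul_smul, h2', hd]))
    · exact Subtype.ext (by simp)
    · exact Subtype.ext (by simp)
  have := Fintype.ofFinite G
  have := Fintype.ofFinite Ω
  rw [Nat.card_congr (Equiv.sigmaFiberEquiv f).symm, Nat.card_sigma, Finset.sum_congr rfl fun cd _ => hfib cd,
    Finset.sum_const, smul_eq_mul, Finset.card_univ]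
  rw [← Nat.card_eq_fintype_card, card_offDiag]

/-- An equivariant incidence between elements and ordered pairs is counted through one pair. -/
theorem sum_incidence [Finite G] [Finite Ω] (h2 : IsMultiplyPretransitive G Ω 2) {a b : Ω} (hab : a ≠ b)
    (R : G → Ω → Ω → Prop) (hne : ∀ x c d, R x c d → c ≠ d)
    (heq : ∀ g x c d, R x c d → R (g * x * g⁻¹) (g • c) (g • d)) :
    Nat.card {p : G × Ω × Ω // R p.1 p.2.1 p.2.2} =
      Nat.card Ω * (Nat.card Ω - 1) * Nat.card {x : G // R x a b} := by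
  classical
  have := Fintype.ofFinite G
  have := Fintype.ofFinite Ω
  let f : {p : G × Ω × Ω // R p.1 p.2.1 p.2.2} → {cd : Ω × Ω // cd.1 ≠ cd.2} :=
    fun p => ⟨p.1.2, hne _ _ _ p.2⟩
  have hfib : ∀ cd, Nat.card {p // f p = cd} = Nat.card {x : G // R x a b} := by
    rintro ⟨⟨c, d⟩, hcd⟩
    obtain ⟨g, hc, hd⟩ := exists_smul_pair h2 hab hcd
    change g • a = c at hc
    change g • b = d at hd
    have e1 : ∀ x, R x c d → R (g⁻¹ * x * g) a b := fun x hx => by
      have h := heq g⁻¹ x c d hx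
      rwa [inv_inv, ← hc, ← hd, inv_smul_smul, inv_smul_smul] at h
    have e2 : ∀ x, R x a b → R (g * x * g⁻¹) c d := fun x hx => by
      have h := heq g x a b hx
      rwa [hc, hd] at h
    refine Nat.card_congr ⟨fun p => ⟨g⁻¹ * p.1.1.1 * g, e1 _ ?_⟩,
      fun x => ⟨⟨(g * x.1 * g⁻¹, c, d), e2 _ x.2⟩, rfl⟩, fun p => ?_, fun x => ?_⟩
    · obtain ⟨⟨⟨x, u, v⟩, hx⟩, hp⟩ := p
      obtain ⟨rfl, rfl⟩ := Prod.ext_iff.1 (congrArg Subtype.val hp)
      exact hx
    · obtain ⟨⟨⟨x, u, v⟩, hx⟩, hp⟩ := p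
      obtain ⟨rfl, rfl⟩ := Prod.ext_iff.1 (congrArg Subtype.val hp)
      refine Subtype.ext (Subtype.ext (Prod.ext ?_ rfl))
      show g * (g⁻¹ * x * g) * g⁻¹ = x
      group
    · refine Subtype.ext ?_
      show g⁻¹ * (g * x.1 * g⁻¹) * g = x.1
      group
  rw [Nat.card_congr (Equiv.sigmaFiberEquiv f).symm, Nat.card_sigma, Finset.sum_congr rfl fun cd _ => hfib cd,
    Finset.sum_const, smul_eq_mul, Finset.card_univ]
  rw [← Nat.card_eq_fintype_card, card_offDiag]

/-- An element fixing at least two points. -/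
def TwoFix (Ω : Type*) [MulAction G Ω] (x : G) : Prop := ∃ c d : Ω, c ≠ d ∧ x • c = c ∧ x • d = d

/-- The number of fixed points. -/
noncomputable def fixCard (Ω : Type*) [MulAction G Ω] (x : G) : ℕ := Nat.card {c : Ω // x • c = c}

theorem fixCard_conj (g x : G) : fixCard Ω (g * x * g⁻¹) = fixCard Ω x :=
  (Nat.card_congr
    (Equiv.subtypeEquiv (MulAction.toPerm g) fun c => (smul_eq_iff_conj g x c c).symm)).symm

/-- Doubly transitive group in which all involutions fixing two points are conjugate to `J`. -/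
structure InvData (G : Type*) [Group G] (Ω : Type*) [MulAction G Ω] (a b : Ω) (J : G) : Prop where
  two : IsMultiplyPretransitive G Ω 2
  ne : a ≠ b
  ordJ : orderOf J = 2
  memJ : J ∈ pairStab (G := G) a b
  conjJ : ∀ x ∈ pairStab (G := G) a b, orderOf x = 2 → ∃ h ∈ pairStab (G := G) a b, h * J * h⁻¹ = x

namespace InvData

variable {a b : Ω} {J : G}

theorem smul_a (D : InvData G Ω a b J) : J • a = a := (mem_pairStab.1 D.memJ).1

theorem smul_b (D : InvData G Ω a b J) : J • b = b := (mem_pairStab.1 D.memJ).2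

theorem isConj_of_twoFix (D : InvData G Ω a b J) {x : G} (hx : orderOf x = 2) (h : TwoFix Ω x) : IsConj J x := by
  obtain ⟨c, d, hcd, hc, hd⟩ := h
  obtain ⟨g, rfl, rfl⟩ := exists_smul_pair D.two D.ne hcd
  have hm : g⁻¹ * x * g ∈ pairStab (G := G) a b := by
    rw [← conj_mem_pairStab_iff g]
    rw [show g * (g⁻¹ * x * g) * g⁻¹ = x by group]
    exact mem_pairStab.2 ⟨hc, hd⟩
  obtain ⟨h, -, hh⟩ := D.conjJ _ hm (by simpa using (orderOf_conj_eq g⁻¹ x).trans hx)
  refine isConj_iff.2 ⟨g * h, ?_⟩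
  rw [show g * h * J * (g * h)⁻¹ = g * (h * J * h⁻¹) * g⁻¹ by group, hh]
  group

theorem twoFix_of_isConj (D : InvData G Ω a b J) {x : G} (h : IsConj J x) : TwoFix Ω x := by
  obtain ⟨g, rfl⟩ := isConj_iff.1 h
  exact ⟨g • a, g • b, fun e => D.ne ((MulAction.injective g) e),
    (smul_eq_iff_conj g J a a).2 D.smul_a, (smul_eq_iff_conj g J b b).2 D.smul_b⟩

theorem orderOf_of_conj (D : InvData G Ω a b J) {x : G} (h : IsConj J x) : orderOf x = 2 :=
  (orderOf_of_isConj h).trans D.ordJ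

theorem fixCard_of_conj (_D : InvData G Ω a b J) {x : G} (h : IsConj J x) : fixCard Ω x = fixCard Ω J := by
  obtain ⟨g, rfl⟩ := isConj_iff.1 h
  exact fixCard_conj g J

theorem two_le_fixCard (D : InvData G Ω a b J) [Finite Ω] : 2 ≤ fixCard Ω J := by
  have : Nontrivial {c : Ω // J • c = c} := ⟨⟨a, D.smul_a⟩, ⟨b, D.smul_b⟩, fun e => D.ne (congrArg Subtype.val e)⟩
  exact Finite.one_lt_card

/-- An involution not conjugate to `J` fixes at most one point. -/
theorem unique_fix (D : InvData G Ω a b J) {x : G} (hx : orderOf x = 2) (hn : ¬ IsConj J x) {c d : Ω}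
    (hc : x • c = c) (hd : x • d = d) : c = d := by
  by_contra hcd
  exact hn (D.isConj_of_twoFix hx ⟨c, d, hcd, hc, hd⟩)

/-- The centraliser of `J` is doubly transitive on the fixed points of `J`. -/
theorem exists_centralizing (D : InvData G Ω a b J) {c d c' d' : Ω} (hc : J • c = c) (hd : J • d = d)
    (hc' : J • c' = c') (hd' : J • d' = d') (hcd : c ≠ d) (hcd' : c' ≠ d') :
    ∃ g ∈ Subgroup.centralizer ({J} : Set G), g • c = c' ∧ g • d = d' := by
  have key : ∀ u v : Ω, J • u = u → J • v = v → u ≠ v →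
      ∃ g ∈ Subgroup.centralizer ({J} : Set G), g • a = u ∧ g • b = v := by
    intro u v hu hv huv
    obtain ⟨g, rfl, rfl⟩ := exists_smul_pair D.two D.ne huv
    have hm : g⁻¹ * J * g ∈ pairStab (G := G) a b := by
      rw [← conj_mem_pairStab_iff g]
      rw [show g * (g⁻¹ * J * g) * g⁻¹ = J by group]
      exact mem_pairStab.2 ⟨hu, hv⟩
    obtain ⟨h, hh, he⟩ := D.conjJ _ hm (by simpa using (orderOf_conj_eq g⁻¹ J).trans D.ordJ)
    obtain ⟨h1, h2⟩ := mem_pairStab.1 hh
    refine ⟨g * h, Subgroup.mem_centralizer_singleton_iff.2 ?_, by rw [mul_smul, h1], by rw [mul_smul, h2]⟩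
    have h3 : g * h * J * (g * h)⁻¹ = J := by
      rw [show g * h * J * (g * h)⁻¹ = g * (h * J * h⁻¹) * g⁻¹ by group, he]; group
    exact mul_inv_eq_iff_eq_mul.1 h3
  obtain ⟨g, hg, hga, hgb⟩ := key c d hc hd hcd
  obtain ⟨g', hg', hga', hgb'⟩ := key c' d' hc' hd' hcd'
  exact ⟨g' * g⁻¹, mul_mem hg' (inv_mem hg), by rw [mul_smul, ← hga, inv_smul_smul, hga'],
    by rw [mul_smul, ← hgb, inv_smul_smul, hgb']⟩

theorem smul_fix_of_cent {g : G} (hg : g ∈ Subgroup.centralizer ({J} : Set G)) {c : Ω} (hc : J • c = c) :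
    J • g • c = g • c := by
  rw [← mul_smul, ← Subgroup.mem_centralizer_singleton_iff.1 hg, mul_smul, hc]

/-- Number of conjugates of `J` in the two-point stabiliser. -/
noncomputable def gamma (a b : Ω) (J : G) : ℕ :=
  Nat.card {x : G // IsConj J x ∧ x • a = a ∧ x • b = b}

/-- Number of conjugates of `J` swapping the two points. -/
noncomputable def beta (a b : Ω) (J : G) : ℕ :=
  Nat.card {x : G // IsConj J x ∧ x • a = b}

theorem conjClass_equivariant {g x : G} (h : IsConj J x) : IsConj J (g * x * g⁻¹) :=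
  h.trans (isConj_iff.2 ⟨g, rfl⟩)

theorem card_class_fix (D : InvData G Ω a b J) [Finite G] [Finite Ω] :
    Nat.card {x : G // IsConj J x} * (fixCard Ω J * (fixCard Ω J - 1)) =
      Nat.card Ω * (Nat.card Ω - 1) * gamma a b J := by
  classical
  have := Fintype.ofFinite G
  have := Fintype.ofFinite Ω
  have key := sum_incidence D.two D.ne (fun x c d => IsConj J x ∧ c ≠ d ∧ x • c = c ∧ x • d = d)
    (fun _ _ _ h => h.2.1) (fun g x c d h => ⟨conjClass_equivariant h.1,
      fun e => h.2.1 ((MulAction.injective g) e), (smul_eq_iff_conj g x c c).2 h.2.2.1,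
      (smul_eq_iff_conj g x d d).2 h.2.2.2⟩)
  have hg : Nat.card {x : G // IsConj J x ∧ a ≠ b ∧ x • a = a ∧ x • b = b} = gamma a b J :=
    Nat.card_congr (Equiv.subtypeEquivRight fun x => by simp [D.ne])
  rw [hg] at key
  rw [← key]
  let e : {p : G × Ω × Ω // IsConj J p.1 ∧ p.2.1 ≠ p.2.2 ∧ p.1 • p.2.1 = p.2.1 ∧ p.1 • p.2.2 = p.2.2} ≃
      Σ x : {x : G // IsConj J x}, {cd : {c : Ω // x.1 • c = c} × {c : Ω // x.1 • c = c} // cd.1 ≠ cd.2} :=
    { toFun := fun p => ⟨⟨p.1.1, p.2.1⟩, ⟨(⟨p.1.2.1, p.2.2.2.1⟩, ⟨p.1.2.2, p.2.2.2.2⟩),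
        fun h => p.2.2.1 (congrArg Subtype.val h)⟩⟩
      invFun := fun s => ⟨(s.1.1, s.2.1.1.1, s.2.1.2.1), s.1.2, fun h => s.2.2 (Subtype.ext h),
        s.2.1.1.2, s.2.1.2.2⟩
      left_inv := fun _ => rfl
      right_inv := fun _ => rfl }
  rw [Nat.card_congr e, Nat.card_sigma]
  have hfib : ∀ x : {x : G // IsConj J x},
      Nat.card {cd : {c : Ω // x.1 • c = c} × {c : Ω // x.1 • c = c} // cd.1 ≠ cd.2} =
        fixCard Ω J * (fixCard Ω J - 1) := by
    intro x
    rw [← D.fixCard_of_conj x.2, fixCard]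
    exact card_offDiag _
  rw [Finset.sum_congr rfl fun x _ => hfib x, Finset.sum_const, smul_eq_mul, Finset.card_univ,
    Nat.card_eq_fintype_card]

theorem card_class_move (D : InvData G Ω a b J) [Finite G] [Finite Ω] :
    Nat.card {x : G // IsConj J x} * (Nat.card Ω - fixCard Ω J) =
      Nat.card Ω * (Nat.card Ω - 1) * beta a b J := by
  classical
  have := Fintype.ofFinite G
  have := Fintype.ofFinite Ω
  have key := sum_incidence D.two D.ne (fun x c d => IsConj J x ∧ c ≠ d ∧ x • c = d)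
    (fun _ _ _ h => h.2.1) (fun g x c d h => ⟨conjClass_equivariant h.1,
      fun e => h.2.1 ((MulAction.injective g) e), (smul_eq_iff_conj g x c d).2 h.2.2⟩)
  have hb : Nat.card {x : G // IsConj J x ∧ a ≠ b ∧ x • a = b} = beta a b J :=
    Nat.card_congr (Equiv.subtypeEquivRight fun x => by simp [D.ne])
  rw [hb] at key
  rw [← key]
  let e : {p : G × Ω × Ω // IsConj J p.1 ∧ p.2.1 ≠ p.2.2 ∧ p.1 • p.2.1 = p.2.2} ≃
      Σ x : {x : G // IsConj J x}, {c : Ω // ¬ x.1 • c = c} :=
    { toFun := fun p => ⟨⟨p.1.1, p.2.1⟩, ⟨p.1.2.1, fun h => p.2.2.1 (h.symm.trans p.2.2.2)⟩⟩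
      invFun := fun s => ⟨(s.1.1, s.2.1, s.1.1 • s.2.1), s.1.2, fun h => s.2.2 h.symm, rfl⟩
      left_inv := fun ⟨⟨x, c, d⟩, h1, h2, h3⟩ => Subtype.ext (Prod.ext rfl (Prod.ext rfl h3))
      right_inv := fun _ => rfl }
  rw [Nat.card_congr e, Nat.card_sigma]
  have hfib : ∀ x : {x : G // IsConj J x},
      Nat.card {c : Ω // ¬ x.1 • c = c} = Nat.card Ω - fixCard Ω J := by
    intro x
    rw [← D.fixCard_of_conj x.2, fixCard, Nat.card_eq_fintype_card, Nat.card_eq_fintype_card,
      Nat.card_eq_fintype_card, Fintype.card_subtype_compl]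
  rw [Finset.sum_congr rfl fun x _ => hfib x, Finset.sum_const, smul_eq_mul, Finset.card_univ,
    Nat.card_eq_fintype_card]

/-- The fundamental formula. -/
theorem formula (D : InvData G Ω a b J) [Finite G] [Finite Ω] :
    gamma a b J * (Nat.card Ω - fixCard Ω J) = beta a b J * (fixCard Ω J * (fixCard Ω J - 1)) := by
  have h1 := D.card_class_fix
  have h2 := D.card_class_move
  have hpos : 0 < Nat.card {x : G // IsConj J x} := by
    have : Nonempty {x : G // IsConj J x} := ⟨⟨J, IsConj.refl J⟩⟩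
    exact Nat.card_pos
  refine Nat.eq_of_mul_eq_mul_left hpos ?_
  calc _ = gamma a b J * (Nat.card {x : G // IsConj J x} * (Nat.card Ω - fixCard Ω J)) := by ring
    _ = beta a b J * (Nat.card {x : G // IsConj J x} * (fixCard Ω J * (fixCard Ω J - 1))) := by
      rw [h1, h2]; ring
    _ = _ := by ring

end InvData

end CfsgLib.KimuraFour
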