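import Cfsg.Agent.Lib.Perm.KimuraFour.Sym
import Cfsg.Agent.Lib.Classical.SwapPair

/-!
# The possible degrees, and the cases decided by an isolated involution
-/

set_option autoImplicit false

namespace CfsgLib.KimuraFour

open MulAction

variable {G : Type*} [Group G] [Finite G] {Ω : Type*} [MulAction G Ω] [Finite Ω]

/-- The four cases. -/
inductive Case (Ω : Type*) [MulAction G Ω] (a b : Ω) (J : G) : Prop
  | six (h : ∀ z : G, ¬ Setting.CenSwap a b z)
      (hn : Nat.card Ω = fixCard Ω J * (2 * fixCard Ω J - 1)) : Case Ω a b J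
  | one (z : G) (hz : Setting.CenSwap a b z) (h1 : IsConj J z) (h2 : ¬ IsConj J (z * J))
      (hn : 3 * Nat.card Ω = fixCard Ω J * (fixCard Ω J + 2)) : Case Ω a b J
  | three (z : G) (hz : Setting.CenSwap a b z) (h1 : ¬ IsConj J z) (h2 : IsConj J (z * J))
      (hn : Nat.card Ω = fixCard Ω J * fixCard Ω J) : Case Ω a b J
  | four (z : G) (hz : Setting.CenSwap a b z) (h1 : IsConj J z) (h2 : IsConj J (z * J))
      (hn : 3 * Nat.card Ω = fixCard Ω J * (4 * fixCard Ω J - 1)) : Case Ω a b J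

theorem fixCard_le (J : G) : fixCard Ω J ≤ Nat.card Ω :=
  Nat.card_le_card_of_injective (fun c : {c : Ω // J • c = c} => c.1) Subtype.val_injective

theorem Setting.cases {a b : Ω} (S : Setting G Ω a b) {J : G} (D : InvData G Ω a b J) : Case Ω a b J := by
  classical
  have hf := D.formula
  rw [S.gamma_eq D] at hf
  have hi := D.two_le_fixCard
  have hle := fixCard_le (Ω := Ω) J
  obtain ⟨i, hi'⟩ : ∃ i, fixCard Ω J = i + 1 := ⟨fixCard Ω J - 1, by omega⟩
  obtain ⟨m, hm⟩ : ∃ m, Nat.card Ω = fixCard Ω J + m := ⟨Nat.card Ω - fixCard Ω J, by omega⟩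
  rw [show Nat.card Ω - fixCard Ω J = m by omega] at hf
  by_cases hz : ∃ z : G, Setting.CenSwap a b z
  · obtain ⟨z, hz⟩ := hz
    rw [S.beta_censwap D hz] at hf
    by_cases h1 : IsConj J z <;> by_cases h2 : IsConj J (z * J) <;>
      simp only [h1, h2, if_true, if_false, Nat.zero_add, Nat.add_zero, Nat.zero_mul] at hf
    · refine Case.four z hz h1 h2 ?_
      rw [hi'] at hf hm ⊢
      rw [hm, show 4 * (i + 1) - 1 = 4 * i + 3 by omega]
      simp only [Nat.add_sub_cancel] at hf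
      nlinarith
    · refine Case.one z hz h1 h2 ?_
      rw [hi'] at hf hm ⊢
      rw [hm]
      simp only [Nat.add_sub_cancel] at hf
      nlinarith
    · refine Case.three z hz h1 h2 ?_
      rw [hi'] at hf hm ⊢
      rw [hm]
      simp only [Nat.add_sub_cancel] at hf
      nlinarith
    · exfalso
      obtain ⟨x, hx, hxa⟩ := S.exists_swap_conj D
      rcases S.swap_cases hz (D.orderOf_of_conj hx) hxa with e | ⟨v, hv, hv2, e⟩ <;> subst e
      · exact h1 hx
      · exact h2 (hx.trans (S.censwap_mul_conj hz hv hv2 D.memJ D.ordJ))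
  · push Not at hz
    rw [S.beta_sym D hz] at hf
    refine Case.six hz ?_
    rw [hi'] at hf hm ⊢
    rw [hm, show 2 * (i + 1) - 1 = 2 * i + 1 by omega]
    simp only [Nat.add_sub_cancel] at hf
    nlinarith

/-- An involution moves an even number of points. -/
theorem parity_fixCard {x : G} (hx : x * x = 1) : Nat.card Ω % 2 = fixCard Ω x % 2 := by
  classical
  have := Fintype.ofFinite Ω
  haveI : Fact (Nat.Prime 2) := ⟨Nat.prime_two⟩
  have h := Equiv.Perm.card_compl_support_modEq (p := 2) (n := 1) (σ := (MulAction.toPerm x : Equiv.Perm Ω)) (by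
    ext c; simp [pow_two, smul_of_mul_self hx])
  rw [Nat.ModEq] at h
  rw [Nat.card_eq_fintype_card, ← h, fixCard, Nat.card_eq_fintype_card, Fintype.card_subtype]
  congr 2
  ext c
  simp

/-- The involutions not conjugate to `J`, in odd degree: each fixes one point, and the number fixing a
given point is the number swapping a given pair. -/
theorem InvData.nonconj_count {a b : Ω} {J : G} (D : InvData G Ω a b J) (hodd : Odd (Nat.card Ω)) (c : Ω) :
    Nat.card {x : G // orderOf x = 2 ∧ ¬ IsConj J x ∧ x • c = c} =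
      Nat.card {x : G // orderOf x = 2 ∧ ¬ IsConj J x ∧ x • a = b} := by
  classical
  have := Fintype.ofFinite G
  have := Fintype.ofFinite Ω
  have hcj : ∀ g x : G, ¬ IsConj J x → ¬ IsConj J (g * x * g⁻¹) := fun g x h e =>
    h (e.trans (isConj_iff.2 ⟨g, rfl⟩).symm)
  have hone : ∀ x : G, orderOf x = 2 → ¬ IsConj J x → fixCard Ω x = 1 := by
    intro x hx hn
    have h := parity_fixCard (Ω := Ω) (mul_self_of_orderOf hx)
    rw [Nat.odd_iff.1 hodd] at h
    have : Subsingleton {d : Ω // x • d = d} := ⟨fun u v => Subtype.ext (D.unique_fix hx hn u.2 v.2)⟩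
    have := Finite.card_le_one_iff_subsingleton.2 this
    change fixCard Ω x ≤ 1 at this
    omega
  set P := {x : G // orderOf x = 2 ∧ ¬ IsConj J x}
  have key := sum_incidence D.two D.ne (fun x c d => (orderOf x = 2 ∧ ¬ IsConj J x) ∧ c ≠ d ∧ x • c = d)
    (fun _ _ _ h => h.2.1) (fun g x c d h => ⟨⟨(orderOf_conj_eq g x).trans h.1.1, hcj g x h.1.2⟩,
      fun e => h.2.1 ((MulAction.injective g) e), (smul_eq_iff_conj g x c d).2 h.2.2⟩)
  have hab : Nat.card {x : G // (orderOf x = 2 ∧ ¬ IsConj J x) ∧ a ≠ b ∧ x • a = b} =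
      Nat.card {x : G // orderOf x = 2 ∧ ¬ IsConj J x ∧ x • a = b} :=
    Nat.card_congr (Equiv.subtypeEquivRight fun x => by simp [D.ne, and_assoc])
  rw [hab] at key
  let e : {p : G × Ω × Ω // (orderOf p.1 = 2 ∧ ¬ IsConj J p.1) ∧ p.2.1 ≠ p.2.2 ∧ p.1 • p.2.1 = p.2.2} ≃
      Σ x : P, {d : Ω // ¬ x.1 • d = d} :=
    { toFun := fun p => ⟨⟨p.1.1, p.2.1⟩, ⟨p.1.2.1, fun h => p.2.2.1 (h.symm.trans p.2.2.2)⟩⟩
      invFun := fun s => ⟨(s.1.1, s.2.1, s.1.1 • s.2.1), s.1.2, fun h => s.2.2 h.symm, rfl⟩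
      left_inv := fun ⟨⟨x, c, d⟩, _, _, h3⟩ => Subtype.ext (Prod.ext rfl (Prod.ext rfl h3))
      right_inv := fun _ => rfl }
  have hfib : ∀ x : P, Nat.card {d : Ω // ¬ x.1 • d = d} = Nat.card Ω - 1 := by
    intro x
    conv_rhs => rw [← hone x.1 x.2.1 x.2.2]
    rw [fixCard, Nat.card_eq_fintype_card, Nat.card_eq_fintype_card, Nat.card_eq_fintype_card,
      Fintype.card_subtype_compl]
  rw [Nat.card_congr e, Nat.card_sigma, Finset.sum_congr rfl fun x _ => hfib x, Finset.sum_const,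
    smul_eq_mul, Finset.card_univ] at key
  have hn1 : 0 < Nat.card Ω - 1 := by
    have : Nontrivial Ω := ⟨⟨a, b, D.ne⟩⟩
    have := Finite.one_lt_card (α := Ω)
    omega
  set k := Nat.card {x : G // orderOf x = 2 ∧ ¬ IsConj J x ∧ x • a = b}
  have hcard : Fintype.card P = Nat.card Ω * k :=
    Nat.eq_of_mul_eq_mul_right hn1 (by rw [key]; ring)
  haveI : IsPretransitive G Ω := MulAction.isPretransitive_of_is_two_pretransitive (h2 := D.two)
  set T := fun d : Ω => {x : G // orderOf x = 2 ∧ ¬ IsConj J x ∧ x • d = d}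
  have hT : ∀ d, Nat.card (T d) = Nat.card (T c) := by
    intro d
    obtain ⟨g, hg⟩ := exists_smul_eq G d c
    refine Nat.card_congr (Equiv.subtypeEquiv (MulAut.conj g).toEquiv fun x => ?_)
    show _ ↔ orderOf (g * x * g⁻¹) = 2 ∧ ¬ IsConj J (g * x * g⁻¹) ∧ (g * x * g⁻¹) • c = c
    rw [orderOf_conj_eq, ← hg, smul_eq_iff_conj]
    exact and_congr_right fun _ => and_congr_left fun _ =>
      not_congr ⟨fun h => h.trans (isConj_iff.2 ⟨g, rfl⟩), fun h => h.trans (isConj_iff.2 ⟨g, rfl⟩).symm⟩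
  let e2 : P ≃ Σ d : Ω, T d :=
    { toFun := fun x =>
        have h : Nonempty {d : Ω // x.1 • d = d} := (Nat.card_pos_iff.1 (by
          have := hone x.1 x.2.1 x.2.2
          unfold fixCard at this; omega)).1
        ⟨h.some.1, x.1, x.2.1, x.2.2, h.some.2⟩
      invFun := fun s => ⟨s.2.1, s.2.2.1, s.2.2.2.1⟩
      left_inv := fun _ => rfl
      right_inv := fun s => by
        obtain ⟨d, x, h1, h2, h3⟩ := s
        have h : Nonempty {u : Ω // x • u = u} := ⟨⟨d, h3⟩⟩
        have he : h.some.1 = d := D.unique_fix h1 h2 h.some.2 h3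
        generalize hq : h.some = q
        rw [hq] at he
        obtain ⟨q, hq'⟩ := q
        change q = d at he
        subst he
        simp only
        congr 1
        · exact congrArg Subtype.val hq
        · congr! <;> exact congrArg Subtype.val hq }
  have h2 := Nat.card_congr e2
  rw [Nat.card_sigma, Finset.sum_congr rfl fun d _ => hT d, Finset.sum_const, smul_eq_mul, Finset.card_univ,
    Nat.card_eq_fintype_card (α := P), hcard, ← Nat.card_eq_fintype_card] at h2
  have hpos : 0 < Nat.card Ω := by omega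
  exact (Nat.eq_of_mul_eq_mul_left hpos h2).symm

/-- With `n = i²` odd, the central swap is isolated. -/
theorem Setting.isolated_three {a b : Ω} (S : Setting G Ω a b) {J : G} (D : InvData G Ω a b J) {z : G}
    (hz : Setting.CenSwap a b z) (h1 : ¬ IsConj J z) (h2 : IsConj J (z * J)) (hodd : Odd (Nat.card Ω)) :
    Cfsg.IsIsolatedInvolution z := by
  classical
  obtain ⟨c, hc⟩ : ∃ c : Ω, z • c = c := by
    have h := parity_fixCard (Ω := Ω) (mul_self_of_orderOf hz.1)
    rw [Nat.odd_iff.1 hodd] at h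
    have : Nonempty {c : Ω // z • c = c} := (Nat.card_pos_iff.1 (by unfold fixCard at h; omega)).1
    exact ⟨this.some.1, this.some.2⟩
  have h1' : Nat.card {x : G // orderOf x = 2 ∧ ¬ IsConj J x ∧ x • c = c} = 1 := by
    rw [D.nonconj_count hodd c]
    refine Nat.card_eq_one_iff_unique.2 ⟨⟨fun x y => Subtype.ext ?_⟩, ⟨⟨z, hz.1, h1, hz.2.1⟩⟩⟩
    have : ∀ w : {x : G // orderOf x = 2 ∧ ¬ IsConj J x ∧ x • a = b}, w.1 = z := by
      rintro ⟨w, hw, hwn, hwa⟩
      rcases S.swap_cases hz hw hwa with e | ⟨v, hv, hv2, rfl⟩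
      · exact e
      · exact absurd (h2.trans (S.censwap_mul_conj hz D.memJ D.ordJ hv hv2)) hwn
    rw [this x, this y]
  refine ⟨hz.1, fun g hcm => ?_⟩
  have hw : orderOf (g * z * g⁻¹) = 2 := (orderOf_conj_eq g z).trans hz.1
  have hwn : ¬ IsConj J (g * z * g⁻¹) := fun e => h1 (e.trans (isConj_iff.2 ⟨g, rfl⟩).symm)
  have hfix : (g * z * g⁻¹) • c = c := by
    refine D.unique_fix hz.1 h1 ?_ hc
    rw [← mul_smul, hcm.eq, mul_smul, hc]
  haveI := (Nat.card_eq_one_iff_unique.1 h1').1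
  exact congrArg Subtype.val (Subsingleton.elim
    (⟨g * z * g⁻¹, hw, hwn, hfix⟩ : {x : G // orderOf x = 2 ∧ ¬ IsConj J x ∧ x • c = c})
    ⟨z, hz.1, h1, hc⟩)

/-- The case `3 n = i (i + 2)` has even degree. -/
theorem Setting.even_of_one {a b : Ω} (S : Setting G Ω a b) {J : G} (D : InvData G Ω a b J) {z : G}
    (hz : Setting.CenSwap a b z) (h1 : IsConj J z) (h2 : ¬ IsConj J (z * J)) : Even (Nat.card Ω) := by
  classical
  haveI := S.faithful
  by_contra hev
  rw [Nat.not_even_iff_odd] at hev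
  obtain ⟨o₁, s₁⟩ := S.censwap_mul hz D.memJ D.ordJ
  obtain ⟨c, hc⟩ : ∃ c : Ω, (z * J) • c = c := by
    have h := parity_fixCard (Ω := Ω) (mul_self_of_orderOf o₁)
    rw [Nat.odd_iff.1 hev] at h
    have : Nonempty {c : Ω // (z * J) • c = c} := (Nat.card_pos_iff.1 (by unfold fixCard at h; omega)).1
    exact ⟨this.some.1, this.some.2⟩
  have hmul : ∀ u ∈ (pairStab a b : Subgroup G), ∀ w ∈ (pairStab a b : Subgroup G), u * u = 1 → w * w = 1 →
      (z * u) * (z * w) = (z * w) * (z * u) := by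
    intro u hu w hw hu2 hw2
    calc z * u * (z * w) = z * (u * z) * w := by group
      _ = z * z * (u * w) := by rw [← hz.2.2 u hu]; group
      _ = z * (z * w) * u := by rw [(S.inv_mul hu hu2 hw hw2).1]; group
      _ = z * (w * z) * u := by rw [hz.2.2 w hw]
      _ = _ := by group
  -- all non-conjugate swaps of `{a, b}` fix `c`
  have hsw : ∀ x : G, orderOf x = 2 → ¬ IsConj J x → x • a = b → x • c = c := by
    intro x hx hxn hxa
    rcases S.swap_cases hz hx hxa with e | ⟨v, hv, hv2, rfl⟩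
    · exact absurd (e ▸ h1) hxn
    refine D.unique_fix o₁ h2 ?_ hc
    rw [← mul_smul, hmul J D.memJ v hv (mul_self_of_orderOf D.ordJ) (mul_self_of_orderOf hv2), mul_smul, hc]
  -- hence every non-conjugate involution fixing `c` swaps `a` and `b`
  let f : {x : G // orderOf x = 2 ∧ ¬ IsConj J x ∧ x • a = b} →
      {x : G // orderOf x = 2 ∧ ¬ IsConj J x ∧ x • c = c} :=
    fun x => ⟨x.1, x.2.1, x.2.2.1, hsw x.1 x.2.1 x.2.2.1 x.2.2.2⟩
  have hfb : Function.Bijective f := (Nat.bijective_iff_injective_and_card f).2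
    ⟨fun x y h => Subtype.ext (congrArg (fun p => p.1) h :), (D.nonconj_count hev c).symm⟩
  have hac : ∀ x : G, orderOf x = 2 → ¬ IsConj J x → x • c = c → x • a = b := by
    intro x hx hxn hxc
    obtain ⟨⟨y, hy⟩, he⟩ := hfb.2 ⟨x, hx, hxn, hxc⟩
    have : y = x := congrArg Subtype.val he
    exact this ▸ hy.2.2
  -- so two such swaps act in the same way everywhere
  obtain ⟨t, ht, ht3⟩ := S.exists_three
  set v := t * J * t⁻¹ with hv
  have hvm : v ∈ (pairStab a b : Subgroup G) := mul_mem (mul_mem ht D.memJ) (inv_mem ht)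
  have hv2 : orderOf v = 2 := (orderOf_conj_eq t J).trans D.ordJ
  obtain ⟨o₂, s₂⟩ := S.censwap_mul hz hvm hv2
  have n₂ : ¬ IsConj J (z * v) := fun e => h2 (e.trans (S.censwap_mul_conj hz hvm hv2 D.memJ D.ordJ))
  have hc2 := hsw _ o₂ n₂ s₂
  refine S.three_moves ht ht3 D.memJ D.ordJ (mul_inv_eq_iff_eq_mul.1 (mul_left_cancel (a := z)
    (eq_of_smul_eq_smul (α := Ω) fun d => ?_)))
  show (z * v) • d = (z * J) • d
  by_cases hd : (z * J) • d = d
  · rw [hd, D.unique_fix o₁ h2 hd hc, hc2]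
  obtain ⟨g, hg1, hg2⟩ := exists_smul_pair S.two S.ne (Ne.symm hd)
  change g • a = d at hg1
  change g • b = (z * J) • d at hg2
  have hu : orderOf (g⁻¹ * (z * J) * g) = 2 := by simpa using (orderOf_conj_eq g⁻¹ (z * J)).trans o₁
  have hua : (g⁻¹ * (z * J) * g) • a = b := by rw [mul_smul, mul_smul, hg1, ← hg2, inv_smul_smul]
  have hun : ¬ IsConj J (g⁻¹ * (z * J) * g) := fun e => h2 (e.trans (isConj_iff.2 ⟨g, by group⟩))
  have hgc : g • c = c := by
    refine D.unique_fix o₁ h2 ?_ hc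
    have h := hsw _ hu hun hua
    rw [mul_smul, mul_smul, inv_smul_eq_iff] at h
    exact h
  have h3 : (g⁻¹ * (z * v) * g) • a = b := by
    refine hac _ (by simpa using (orderOf_conj_eq g⁻¹ (z * v)).trans o₂)
      (fun e => n₂ (e.trans (isConj_iff.2 ⟨g, by group⟩))) ?_
    rw [mul_smul, mul_smul, hgc, hc2, inv_smul_eq_iff, hgc]
  rw [mul_smul, mul_smul, hg1, inv_smul_eq_iff, hg2] at h3
  exact h3

end CfsgLib.KimuraFour
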