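import Cfsg.Agent.Lib.Perm.KimuraFour.Cases

/-!
# The centraliser of an involution on its fixed points
-/

set_option autoImplicit false

namespace CfsgLib.KimuraFour

open MulAction

variable {G : Type*} [Group G] {Ω : Type*} [MulAction G Ω]

local notation "Cent" J:max => Subgroup.centralizer (Singleton.singleton J : Set _)

theorem smul_mem_fix {J g : G} (hg : g ∈ Cent J) {c : Ω} (hc : J • c = c) : J • g • c = g • c := by
  rw [← mul_smul, ← Subgroup.mem_centralizer_singleton_iff.1 hg, mul_smul, hc]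

/-- The fixed points of `J`, as a set invariant under its centraliser. -/
def fixPts (Ω : Type*) [MulAction G Ω] (J : G) : SubMulAction ↥(Cent J) Ω where
  carrier := {c | J • c = c}
  smul_mem' g _ hc := smul_mem_fix g.2 hc

theorem mem_fixPts {J : G} {c : Ω} : c ∈ fixPts Ω J ↔ J • c = c := Iff.rfl

theorem card_fixPts (J : G) : Nat.card ↥(fixPts Ω J) = fixCard Ω J := rfl

/-- The group induced by the centraliser of `J` on the fixed points of `J`. -/
abbrev inducedPerm (Ω : Type*) [MulAction G Ω] (J : G) : Subgroup (Equiv.Perm ↥(fixPts Ω J)) :=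
  (MulAction.toPermHom ↥(Cent J) ↥(fixPts Ω J)).range

/-- The induced map. -/
def induce (Ω : Type*) [MulAction G Ω] (J : G) : ↥(Cent J) →* ↥(inducedPerm Ω J) :=
  (MulAction.toPermHom ↥(Cent J) ↥(fixPts Ω J)).rangeRestrict

theorem induce_smul {J : G} (g : ↥(Cent J)) (c : ↥(fixPts Ω J)) :
    ((induce Ω J g • c : ↥(fixPts Ω J)) : Ω) = (g : G) • (c : Ω) := rfl

theorem induce_surjective (J : G) : Function.Surjective (induce Ω J) := MonoidHom.rangeRestrict_surjective _

theorem induce_eq_one_iff {J : G} (g : ↥(Cent J)) :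
    induce Ω J g = 1 ↔ ∀ c : Ω, J • c = c → (g : G) • c = c := by
  constructor
  · intro h c hc
    have := induce_smul g (⟨c, hc⟩ : ↥(fixPts Ω J))
    rw [h, one_smul] at this
    exact this.symm
  · exact fun h => Subtype.ext (Equiv.ext fun c => Subtype.ext (h c.1 c.2))

theorem induce_eq_iff {J : G} (g g' : ↥(Cent J)) :
    induce Ω J g = induce Ω J g' ↔ ∀ c : Ω, J • c = c → (g : G) • c = (g' : G) • c := by
  constructor
  · intro h c hc
    have h1 := induce_smul g (⟨c, hc⟩ : ↥(fixPts Ω J))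
    rw [h] at h1
    exact h1.symm.trans (induce_smul g' _)
  · exact fun h => Subtype.ext (Equiv.ext fun c => Subtype.ext (h c.1 c.2))

namespace InvData

variable {a b : Ω} {J : G}

/-- The base points as fixed points. -/
def fa (D : InvData G Ω a b J) : ↥(fixPts Ω J) := ⟨a, D.smul_a⟩

/-- The base points as fixed points. -/
def fb (D : InvData G Ω a b J) : ↥(fixPts Ω J) := ⟨b, D.smul_b⟩

theorem fa_ne_fb (D : InvData G Ω a b J) : D.fa ≠ D.fb := fun h => D.ne (congrArg Subtype.val h)

theorem two_cent (D : InvData G Ω a b J) : IsMultiplyPretransitive ↥(Cent J) ↥(fixPts Ω J) 2 :=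
  MulAction.is_two_pretransitive_iff.2 fun {c d c' d'} hcd hcd' => by
    obtain ⟨g, hg, h1, h2⟩ := D.exists_centralizing c.2 d.2 c'.2 d'.2 (fun e => hcd (Subtype.ext e))
      (fun e => hcd' (Subtype.ext e))
    exact ⟨⟨g, hg⟩, Subtype.ext h1, Subtype.ext h2⟩

theorem two_induced (D : InvData G Ω a b J) : IsMultiplyPretransitive ↥(inducedPerm Ω J) ↥(fixPts Ω J) 2 :=
  MulAction.is_two_pretransitive_iff.2 fun {c d c' d'} hcd hcd' => by
    obtain ⟨g, h1, h2⟩ := MulAction.is_two_pretransitive_iff.1 D.two_cent hcd hcd'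
    exact ⟨induce Ω J g, h1, h2⟩

theorem card_cent [Finite G] [Finite Ω] (D : InvData G Ω a b J) :
    Nat.card ↥(Cent J) = fixCard Ω J * (fixCard Ω J - 1) *
      Nat.card ↥(pairStab a b ⊓ Cent J : Subgroup G) := by
  rw [card_eq_pairStab D.two_cent D.fa_ne_fb, card_fixPts]
  congr 1
  refine Nat.card_congr ⟨fun g => ⟨g.1.1, mem_pairStab.2 ⟨congrArg Subtype.val g.2.1,
    congrArg Subtype.val g.2.2⟩, g.1.2⟩, fun h => ⟨⟨h.1, h.2.2⟩,
    Subtype.ext (mem_pairStab.1 h.2.1).1, Subtype.ext (mem_pairStab.1 h.2.1).2⟩, fun _ => rfl, fun _ => rfl⟩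

end InvData

namespace Setting

variable {a b : Ω} {J : G}

/-- The centraliser of `J` in the two-point stabiliser consists of the elements of square one. -/
theorem mem_cent_iff (S : Setting G Ω a b) (D : InvData G Ω a b J) {h : G}
    (hh : h ∈ (pairStab a b : Subgroup G)) : h ∈ Cent J ↔ h * h = 1 :=
  ⟨fun hc => S.sq_of_commute hh D.memJ D.ordJ (Subgroup.mem_centralizer_singleton_iff.1 hc),
    fun h2 => Subgroup.mem_centralizer_singleton_iff.2
      (S.inv_mul hh h2 D.memJ (mul_self_of_orderOf D.ordJ)).1⟩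

theorem card_inf_cent [Finite G] (S : Setting G Ω a b) (D : InvData G Ω a b J) :
    Nat.card ↥(pairStab a b ⊓ Cent J : Subgroup G) = 4 := by
  classical
  have := Fintype.ofFinite G
  have h3 := S.gamma_eq D
  rw [InvData.gamma, Nat.card_eq_fintype_card, Fintype.card_subtype] at h3
  rw [Nat.card_eq_fintype_card, Fintype.card_subtype,
    show (Finset.univ.filter fun g : G => g ∈ (pairStab a b ⊓ Cent J : Subgroup G)) =
      insert 1 (Finset.univ.filter fun x : G => IsConj J x ∧ x • a = a ∧ x • b = b) by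
    ext g
    simp only [Finset.mem_filter, Finset.mem_univ, true_and, Finset.mem_insert, Subgroup.mem_inf]
    constructor
    · rintro ⟨hg, hc⟩
      rcases eq_or_ne g 1 with h | h
      · exact Or.inl h
      · exact Or.inr ⟨S.isConj_of_mem D hg (orderOf_two_of ((S.mem_cent_iff D hg).1 hc) h), mem_pairStab.1 hg⟩
    · rintro (rfl | ⟨h1, h2⟩)
      · exact ⟨one_mem _, one_mem _⟩
      · exact ⟨mem_pairStab.2 h2, (S.mem_cent_iff D (mem_pairStab.2 h2)).2
          (mul_self_of_orderOf (D.orderOf_of_conj h1))⟩]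
  rw [Finset.card_insert_of_notMem, h3]
  simp only [Finset.mem_filter, Finset.mem_univ, true_and]
  exact fun h => by simpa using D.orderOf_of_conj h.1

/-- The four-group fixes every fixed point of `J`. -/
def CaseA (a b : Ω) (J : G) : Prop :=
  ∀ v ∈ (pairStab a b : Subgroup G), v * v = 1 → ∀ c : Ω, J • c = c → v • c = c

theorem card_cent_four [Finite G] [Finite Ω] (S : Setting G Ω a b) (D : InvData G Ω a b J) :
    Nat.card ↥(Cent J) = 4 * (fixCard Ω J * (fixCard Ω J - 1)) := by
  rw [D.card_cent, S.card_inf_cent D, mul_comm]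

/-- In case A all involutions of the stabiliser have the same fixed points. -/
theorem fix_iff_of_caseA [Finite Ω] (S : Setting G Ω a b) (D : InvData G Ω a b J) (hA : CaseA a b J) {v : G}
    (hv : v ∈ (pairStab a b : Subgroup G)) (hv2 : orderOf v = 2) (c : Ω) : v • c = c ↔ J • c = c := by
  classical
  have := Fintype.ofFinite Ω
  refine ⟨fun h => ?_, fun h => hA v hv (mul_self_of_orderOf hv2) c h⟩
  have hsub : (Finset.univ.filter fun c : Ω => J • c = c) ⊆ Finset.univ.filter fun c : Ω => v • c = c :=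
    fun d hd => by simp only [Finset.mem_filter, Finset.mem_univ, true_and] at hd ⊢
                   exact hA v hv (mul_self_of_orderOf hv2) d hd
  have hc := D.fixCard_of_conj (S.isConj_of_mem D hv hv2)
  rw [fixCard, fixCard, Nat.card_eq_fintype_card, Nat.card_eq_fintype_card, Fintype.card_subtype,
    Fintype.card_subtype] at hc
  have he := Finset.eq_of_subset_of_card_le hsub hc.le
  have h' : c ∈ Finset.univ.filter fun c : Ω => v • c = c := by simpa using h
  rw [← he] at h'
  simpa using h'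

/-- In case A the induced group is sharply doubly transitive. -/
theorem sharp_of_caseA (S : Setting G Ω a b) (D : InvData G Ω a b J) (hA : CaseA a b J)
    (x : ↥(inducedPerm Ω J)) (c d : ↥(fixPts Ω J)) (hcd : c ≠ d) (hc : x • c = c) (hd : x • d = d) : x = 1 := by
  obtain ⟨g, rfl⟩ := induce_surjective J x
  obtain ⟨⟨k, hk⟩, h1, h2⟩ := MulAction.is_two_pretransitive_iff.1 D.two_cent D.fa_ne_fb hcd
  have h1' : k • a = (c : Ω) := congrArg Subtype.val h1
  have h2' : k • b = (d : Ω) := congrArg Subtype.val h2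
  set g' := k⁻¹ * (g : G) * k with hg'
  have hgc : g' ∈ Cent J := mul_mem (mul_mem (inv_mem hk) g.2) hk
  have hga : g' • a = a := by
    rw [hg', mul_smul, mul_smul, h1', inv_smul_eq_iff, h1']
    exact congrArg Subtype.val hc
  have hgb : g' • b = b := by
    rw [hg', mul_smul, mul_smul, h2', inv_smul_eq_iff, h2']
    exact congrArg Subtype.val hd
  have hsq := (S.mem_cent_iff D (mem_pairStab.2 ⟨hga, hgb⟩)).1 hgc
  rw [induce_eq_one_iff]
  intro e he
  have h3 := hA g' (mem_pairStab.2 ⟨hga, hgb⟩) hsq (k⁻¹ • e) (smul_mem_fix (inv_mem hk) he)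
  rwa [hg', mul_smul, mul_smul, smul_inv_smul, (MulAction.injective _).eq_iff] at h3

/-- Outside case A: the image of an involution of the stabiliser generates the two-point stabiliser. -/
theorem exists_induced (S : Setting G Ω a b) (D : InvData G Ω a b J) (hB : ¬ CaseA a b J) :
    ∃ v : ↥(Cent J), (v : G) ∈ (pairStab a b : Subgroup G) ∧ orderOf (v : G) = 2 ∧
      InvData ↥(inducedPerm Ω J) ↥(fixPts Ω J) D.fa D.fb (induce Ω J v) ∧
      ∀ x ∈ (pairStab D.fa D.fb : Subgroup ↥(inducedPerm Ω J)), x = 1 ∨ x = induce Ω J v := by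
  simp only [CaseA] at hB
  push Not at hB
  obtain ⟨v, hv, hv2, c, hc, hvc⟩ := hB
  set v' : ↥(Cent J) := ⟨v, (S.mem_cent_iff D hv).2 hv2⟩ with hv'
  have hv1 : v ≠ 1 := fun e => hvc (by rw [e, one_smul])
  have hvJ : v ≠ J := fun e => hvc (by rw [e, hc])
  have hne : induce Ω J v' ≠ 1 := fun e => hvc ((induce_eq_one_iff v').1 e c hc)
  have hall : ∀ x ∈ (pairStab D.fa D.fb : Subgroup ↥(inducedPerm Ω J)), x = 1 ∨ x = induce Ω J v' := by
    intro x hx
    obtain ⟨g, rfl⟩ := induce_surjective J x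
    obtain ⟨h1, h2⟩ := mem_pairStab.1 hx
    have hgH : (g : G) ∈ (pairStab a b : Subgroup G) :=
      mem_pairStab.2 ⟨congrArg Subtype.val h1, congrArg Subtype.val h2⟩
    have hg2 := (S.mem_cent_iff D hgH).1 g.2
    rcases eq_or_ne (g : G) 1 with e | e
    · exact Or.inl ((induce_eq_one_iff g).2 fun d _ => by rw [e, one_smul])
    by_cases eJ : (g : G) = J
    · exact Or.inl ((induce_eq_one_iff g).2 fun d hd => by rw [eJ, hd])
    by_cases ev : (g : G) = v
    · exact Or.inr (by rw [show g = v' from Subtype.ext ev])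
    · refine Or.inr ((induce_eq_iff g v').2 fun d hd => ?_)
      rw [← S.inv_third hv (orderOf_two_of hv2 hv1) D.memJ D.ordJ hgH (orderOf_two_of hg2 e) hvJ
        (Ne.symm ev) (Ne.symm eJ), mul_smul, hd]
  refine ⟨v', hv, orderOf_two_of hv2 hv1, ⟨D.two_induced, D.fa_ne_fb, ?_, ?_, fun x hx hx2 => ?_⟩, hall⟩
  · refine orderOf_two_of ?_ hne
    rw [← map_mul, show v' * v' = 1 from Subtype.ext hv2, map_one]
  · obtain ⟨h1, h2⟩ := mem_pairStab.1 hv
    exact mem_pairStab.2 ⟨Subtype.ext h1, Subtype.ext h2⟩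
  · rcases hall x hx with e | e
    · simp [e] at hx2
    · exact ⟨1, one_mem _, by simp [e]⟩

end Setting

end CfsgLib.KimuraFour
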