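import Cfsg.Agent.Lib.TwoGroups.KleinSylow
import Cfsg.Agent.Lib.Signalizer.Basic

/-!
# Normal complements inside a subgroup, and generation by two commuting involutions
-/

set_option autoImplicit false

namespace CfsgLib.KimuraFour

variable {G : Type*} [Group G] [Finite G]

/-- Burnside's transfer theorem inside a subgroup `C`, stated with elements of `G`. -/
theorem exists_complement_in {q : ℕ} [Fact q.Prime] {C Q : Subgroup G} (hQC : Q ≤ C) (hQ : IsPGroup q Q)
    (hsyl : ∀ x ∈ C, (∃ k, x ^ q ^ k = 1) → x ∈ Subgroup.normalizer (Q : Set G) → x ∈ Q)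
    (hcen : ∀ x ∈ C, x ∈ Subgroup.normalizer (Q : Set G) → ∀ y ∈ Q, x * y = y * x) :
    ∃ M : Subgroup G, M ≤ C ∧ (∀ g ∈ C, ∀ m ∈ M, g * m * g⁻¹ ∈ M) ∧ (∀ m ∈ M, m ∈ Q → m = 1) ∧
      (∀ x ∈ C, ¬ q ∣ orderOf x → x ∈ M) ∧ ∀ x ∈ M, ¬ q ∣ orderOf x := by
  set Q' := Q.subgroupOf C with hQ'
  have hQp : IsPGroup q Q' := hQ.of_equiv (Subgroup.subgroupOfEquivOfLe hQC).symm
  obtain ⟨P, hP⟩ := hQp.exists_le_sylow
  have hnorm : ∀ x : C, x ∈ Subgroup.normalizer (Q' : Set C) → (x : G) ∈ Subgroup.normalizer (Q : Set G) := by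
    intro x hx
    refine Subgroup.mem_normalizer_iff.2 fun y => ⟨fun hy => ?_, fun hy => ?_⟩
    · exact ((Subgroup.mem_normalizer_iff.1 hx ⟨y, hQC hy⟩).1 hy)
    · have hm : y ∈ C := by
        have h1 : (x : G) * y * (x : G)⁻¹ ∈ C := hQC hy
        have h2 := mul_mem (mul_mem (inv_mem x.2) h1) x.2
        rwa [show (x : G)⁻¹ * ((x : G) * y * (x : G)⁻¹) * x = y by group] at h2
      exact (Subgroup.mem_normalizer_iff.1 hx ⟨y, hm⟩).2 hy
  have hPQ : (P : Subgroup C) = Q' := by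
    refine le_antisymm ?_ hP
    by_contra hlt
    haveI : Group.IsNilpotent (P : Subgroup C) := P.isPGroup'.isNilpotent
    have h1 : Q'.subgroupOf (P : Subgroup C) < ⊤ :=
      lt_top_iff_ne_top.2 fun h => hlt (Subgroup.subgroupOf_eq_top.1 h)
    have h2 := Group.normalizerCondition_of_isNilpotent (G := (P : Subgroup C)) _ h1
    obtain ⟨y, hy, hyQ⟩ := SetLike.exists_of_lt h2
    refine hyQ ?_
    obtain ⟨k, hk⟩ := P.isPGroup' y
    refine hsyl (y : C) (y : C).2 ⟨k, by simpa using congrArg (fun z : (P : Subgroup C) => ((z : C) : G)) hk⟩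
      (hnorm _ ?_)
    refine Subgroup.mem_normalizer_iff.2 fun z => ⟨fun hz => ?_, fun hz => ?_⟩
    · exact (Subgroup.mem_normalizer_iff.1 hy ⟨z, hP hz⟩).1 hz
    · have hm : z ∈ (P : Subgroup C) := by
        have h3 := mul_mem (mul_mem (inv_mem y.2) (hP hz)) y.2
        rwa [show (y : C)⁻¹ * ((y : C) * z * (y : C)⁻¹) * y = z by group] at h3
      exact (Subgroup.mem_normalizer_iff.1 hy ⟨z, hm⟩).2 hz
  obtain ⟨P', N, hN, hNc⟩ := CfsgLib.TwoGroups.hasNormalPComplement_of_normalizer_le P (fun g hg => by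
    refine Subgroup.mem_centralizer_iff.2 fun y hy => Subtype.ext ?_
    rw [hPQ] at hg hy
    exact (hcen g g.2 (hnorm g hg) y hy).symm)
  haveI := hN
  have hcop : ¬ q ∣ Nat.card N := by
    intro hd
    have h1 := hNc.card_mul
    have h2 := P'.not_dvd_index
    rw [hNc.index_eq_card] at h2
    exact h2 hd
  refine ⟨N.map C.subtype, Subgroup.map_subtype_le _, ?_, ?_, ?_, ?_⟩
  · rintro g hg _ ⟨m, hm, rfl⟩
    exact ⟨⟨g, hg⟩ * m * ⟨g, hg⟩⁻¹, hN.conj_mem m hm _, rfl⟩
  · rintro _ ⟨m, hm, rfl⟩ hmQ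
    obtain ⟨k, hk⟩ := hQ ⟨_, hmQ⟩
    have h1 : orderOf m ∣ q ^ k := orderOf_dvd_of_pow_eq_one (Subtype.ext (by
      simpa using congrArg Subtype.val hk))
    obtain ⟨j, -, hj⟩ := (Nat.dvd_prime_pow (Fact.out : q.Prime)).1 h1
    rcases Nat.eq_zero_or_pos j with rfl | hj0
    · rw [show m = 1 from orderOf_eq_one_iff.1 (by rw [hj, pow_zero]), map_one]
    · exact absurd ((dvd_pow_self q hj0.ne').trans (hj ▸ Subgroup.orderOf_dvd_natCard N hm)) hcop
  · intro x hx hxq
    refine ⟨⟨x, hx⟩, ?_, rfl⟩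
    show (⟨x, hx⟩ : C) ∈ N
    rw [← QuotientGroup.eq_one_iff, ← orderOf_eq_one_iff]
    have h1 : orderOf ((⟨x, hx⟩ : C) : C ⧸ N) ∣ orderOf x := by
      rw [show orderOf x = orderOf (⟨x, hx⟩ : C) from (Subgroup.orderOf_coe (⟨x, hx⟩ : C))]
      exact orderOf_map_dvd (QuotientGroup.mk' N) _
    have h2 : orderOf ((⟨x, hx⟩ : C) : C ⧸ N) ∣ Nat.card (P' : Subgroup C) := by
      have h3 := orderOf_dvd_natCard ((⟨x, hx⟩ : C) : C ⧸ N)
      rwa [← Subgroup.index, hNc.symm.index_eq_card] at h3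
    obtain ⟨n, hn⟩ := IsPGroup.iff_card.1 P'.isPGroup'
    exact Nat.eq_one_of_dvd_coprimes
      (((Nat.Prime.coprime_iff_not_dvd (Fact.out : q.Prime)).2 hxq).pow_left n |>.symm) h1 (hn ▸ h2)
  · rintro _ ⟨m, hm, rfl⟩ hd
    exact hcop (hd.trans (by
      rw [show orderOf (C.subtype m) = orderOf m from Subgroup.orderOf_coe m]
      exact Subgroup.orderOf_dvd_natCard N hm))

/-- A group of odd order normalised by two commuting involutions is generated by their centralisers. -/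
theorem le_of_four {L Y : Subgroup G} (hL : Odd (Nat.card L)) {u v : G} (hu : orderOf u = 2) (hv : orderOf v = 2)
    (huv : u * v = v * u) (hne : u ≠ v) (hun : u ∈ Subgroup.normalizer (L : Set G))
    (hvn : v ∈ Subgroup.normalizer (L : Set G)) (h1 : ∀ x ∈ L, x * u = u * x → x ∈ Y)
    (h2 : ∀ x ∈ L, x * v = v * x → x ∈ Y) (h3 : ∀ x ∈ L, x * (u * v) = u * v * x → x ∈ Y) : L ≤ Y := by
  classical
  haveI : Fact (Nat.Prime 2) := ⟨Nat.prime_two⟩
  have hu2 : u * u = 1 := by rw [← pow_two, ← hu]; exact pow_orderOf_eq_one u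
  have hv2 : v * v = 1 := by rw [← pow_two, ← hv]; exact pow_orderOf_eq_one v
  have hvu : v * u = u * v := huv.symm
  have e1 : u * (u * v) = v := by rw [← mul_assoc, hu2, one_mul]
  have e4 : u * v * v = u := by rw [mul_assoc, hv2, mul_one]
  have e2 : v * (u * v) = u := by rw [← mul_assoc, hvu, e4]
  have e3 : u * v * u = v := by rw [mul_assoc, hvu, e1]
  have e6 : u * v * (u * v) = 1 := by rw [mul_assoc, e2, hu2]
  let A : Subgroup G :=
    { carrier := {1, u, v, u * v}
      one_mem' := by simp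
      mul_mem' := by
        rintro x y (hx | hx | hx | hx) (hy | hy | hy | hy) <;> subst x <;> subst y <;>
          simp [hu2, hv2, hvu, e1, e2, e3, e4, e6]
      inv_mem' := by
        rintro x (hx | hx | hx | hx) <;> subst x
        · simp
        · simp [inv_eq_of_mul_eq_one_right hu2]
        · simp [inv_eq_of_mul_eq_one_right hv2]
        · simp [inv_eq_of_mul_eq_one_right e6] }
  have hA : Cfsg.IsElementaryAbelian 2 A := by
    refine ⟨⟨⟨fun x y => Subtype.ext ?_⟩⟩, fun x hx => ?_⟩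
    · obtain ⟨x, hx⟩ := x; obtain ⟨y, hy⟩ := y
      rcases hx with hx | hx | hx | hx <;> rcases hy with hy | hy | hy | hy <;> subst x <;> subst y <;>
        simp [hu2, hv2, hvu, e1, e2, e3, e4, e6]
    · rcases hx with hx | hx | hx | hx <;> subst x
      · simp
      · rwa [pow_two]
      · rwa [pow_two]
      · rwa [pow_two]
  refine CfsgLib.Signalizer.le_of_hyperplanes_le hA ?_ ?_ fun B hBA hB => ?_
  · exact fun hd => (Nat.not_even_iff_odd.2 hL) (even_iff_two_dvd.2 hd)
  · rintro x (hx | hx | hx | hx) <;> subst x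
    exacts [one_mem _, hun, hvn, mul_mem hun hvn]
  by_cases hBbot : B = ⊥
  · exfalso
    rw [hBbot, Subgroup.relIndex_bot_left] at hB
    have hsub : ({1, u, v} : Finset G) ⊆ (Set.toFinite (A : Set G)).toFinset := by
      intro x hx
      simp only [Finset.mem_insert, Finset.mem_singleton] at hx
      rw [Set.Finite.mem_toFinset]
      rcases hx with rfl | rfl | rfl
      exacts [Or.inl rfl, Or.inr (Or.inl rfl), Or.inr (Or.inr (Or.inl rfl))]
    have h := Finset.card_le_card hsub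
    rw [← Set.ncard_eq_toFinset_card _, ← Nat.card_coe_set_eq] at h
    rw [Finset.card_insert_of_notMem, Finset.card_insert_of_notMem, Finset.card_singleton] at h
    · have : Nat.card (A : Set G) = Nat.card A := rfl
      omega
    · simpa using hne
    · simp only [Finset.mem_insert, Finset.mem_singleton, not_or]
      exact ⟨fun e => by simp [← e] at hu, fun e => by simp [← e] at hv⟩
  obtain ⟨⟨w, hwB⟩, hw⟩ := Subgroup.ne_bot_iff_exists_ne_one.1 hBbot
  have hw1 : w ≠ 1 := fun e => hw (Subtype.ext e)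
  rintro x ⟨hxL, hxB⟩
  have hc : x * w = w * x := (Subgroup.mem_centralizer_iff.1 hxB w hwB).symm
  rcases hBA hwB with hx | hx | hx | hx <;> subst w
  exacts [absurd rfl hw1, h1 x hxL hc, h2 x hxL hc, h3 x hxL hc]

end CfsgLib.KimuraFour
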