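import Cfsg.Agent.Lib.Perm.KimuraFour.Centralizer
import Cfsg.Agent.Lib.Perm.SharplyTwo
import Cfsg.Agent.Lib.LocalEvenB.BaerSuzuki

/-!
# Regular normal subgroups
-/

set_option autoImplicit false

namespace CfsgLib.KimuraFour

open MulAction

variable {G : Type*} [Group G] [Finite G] {Ω : Type*} [MulAction G Ω] [Finite Ω]

/-- A regular normal elementary abelian `p`-subgroup, whose nontrivial elements fix nothing. -/
structure RegularKernel (Ω : Type*) [MulAction G Ω] (p : ℕ) (N : Subgroup G) : Prop where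
  prime : p.Prime
  normal : N.Normal
  comm : ∀ x ∈ N, ∀ y ∈ N, x * y = y * x
  pow : ∀ x ∈ N, x ^ p = 1
  trans : ∀ c d : Ω, ∃ x ∈ N, x • c = d
  free : ∀ x ∈ N, ∀ c : Ω, x • c = c → x = 1

theorem isPretransitive_of_normal_ne_bot [FaithfulSMul G Ω] (h2 : IsMultiplyPretransitive G Ω 2) (N : Subgroup G)
    [N.Normal] (hN : N ≠ ⊥) : IsPretransitive N Ω := by
  haveI := isPreprimitive_of_is_two_pretransitive h2
  refine IsQuasiPreprimitive.isPretransitive_of_normal fun hfix => hN (eq_bot_iff.2 fun x hx => ?_)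
  refine Subgroup.mem_bot.2 (eq_of_smul_eq_smul fun c : Ω => ?_)
  have : c ∈ fixedPoints N Ω := hfix ▸ Set.mem_univ c
  rw [one_smul]
  exact mem_fixedPoints.1 this ⟨x, hx⟩

theorem eq_one_of_regular [FaithfulSMul G Ω] (N : Subgroup G) (hc : ∀ x ∈ N, ∀ y ∈ N, x * y = y * x)
    [IsPretransitive N Ω] {x : G} (hx : x ∈ N) {c : Ω} (h : x • c = c) : x = 1 := by
  refine eq_of_smul_eq_smul fun d : Ω => ?_
  obtain ⟨⟨y, hy⟩, rfl⟩ := exists_smul_eq N c d
  rw [one_smul]
  show x • y • c = y • c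
  rw [← mul_smul, hc x hx y hy, mul_smul, h]

/-- Fixed point free involutions, one for each pair, in degree a power of two, form a regular normal subgroup. -/
theorem exists_translations [FaithfulSMul G Ω] (h2 : IsMultiplyPretransitive G Ω 2) {P : G → Prop}
    (hP : ∀ g x, P x → P (g * x * g⁻¹)) (hord : ∀ x, P x → orderOf x = 2)
    (hfpf : ∀ x, P x → ∀ c : Ω, x • c ≠ c) (hex : ∀ c d : Ω, c ≠ d → ∃ x, P x ∧ x • c = d)
    (huniq : ∀ x y, P x → P y → ∀ c : Ω, x • c = y • c → x = y)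
    {m : ℕ} (hn : Nat.card Ω = 2 ^ m) (hnt : Nontrivial Ω) :
    ∃ N : Subgroup G, RegularKernel Ω 2 N ∧ ∀ x ∈ N, x ≠ 1 → P x := by
  classical
  haveI : Fact (Nat.Prime 2) := ⟨Nat.prime_two⟩
  have hmem : ∀ z, P z → z ∈ Cfsg.pCore 2 G := by
    intro z hz
    by_contra hO
    have hz2 := mul_self_of_orderOf (hord z hz)
    have hzi := inv_of_orderOf (hord z hz)
    obtain ⟨h, hh1, hodd, hinv⟩ := LocalEvenB.exists_odd_inverted hz2 hO
    have hpow : ∀ k : ℕ, z * h ^ k * z⁻¹ = (h ^ k)⁻¹ := fun k => by rw [← conj_pow, hinv, inv_pow]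
    have hzk : ∀ k : ℕ, P (z * h ^ k) := by
      intro k
      obtain ⟨r, hr⟩ := hodd
      have e1 : h ^ (k * (r + 1)) * h ^ (k * (r + 1)) = h ^ k := by
        rw [← pow_add, show k * (r + 1) + k * (r + 1) = k + (2 * r + 1) * k by ring, pow_add, pow_mul h (2 * r + 1),
          ← hr, pow_orderOf_eq_one, one_pow, mul_one]
      have e2 := hpow (k * (r + 1))
      set u := h ^ (k * (r + 1))
      have e3 : u⁻¹ * z * u = z * h ^ k := by
        rw [← e2, hzi, ← e1, show z * u * z * z * u = z * u * (z * z) * u by group, hz2, mul_one, mul_assoc]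
      rw [← e3]
      simpa using hP u⁻¹ z hz
    have hfree : ∀ c : Ω, stabilizer ↥(Subgroup.zpowers h) c = ⊥ := by
      intro c
      refine eq_bot_iff.2 ?_
      rintro ⟨x, hx⟩ hxc
      obtain ⟨k, rfl⟩ := (mem_powers_iff_mem_zpowers (x := h)).2 hx
      have hk : h ^ k • c = c := hxc
      have heq : z * h ^ k = z := huniq _ _ (hzk k) hz c (by rw [mul_smul, hk])
      exact Subgroup.mem_bot.2 (Subtype.ext (show h ^ k = 1 from (mul_eq_left).1 heq))
    have hdvd : orderOf h ∣ 2 ^ m := by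
      rw [← hn, Nat.card_congr (selfEquivOrbitsQuotientProd hfree), Nat.card_prod, Nat.card_zpowers]
      exact dvd_mul_left _ _
    obtain ⟨j, -, hj⟩ := (Nat.dvd_prime_pow Nat.prime_two).1 hdvd
    rcases Nat.eq_zero_or_pos j with rfl | hj0
    · exact hh1 (orderOf_eq_one_iff.1 (by simpa using hj))
    · rw [hj] at hodd
      exact (Nat.not_even_iff_odd.2 hodd) ((Nat.even_pow.2 ⟨even_two, hj0.ne'⟩))
  set K := Cfsg.pCore 2 G
  haveI hKn : K.Normal := HallGen.pCore_normal' 2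
  have hKp : IsPGroup 2 K := HallGen.isPGroup_pCore 2
  let N : Subgroup G :=
    { carrier := {x | x ∈ K ∧ x * x = 1 ∧ ∀ y ∈ K, x * y = y * x}
      one_mem' := ⟨one_mem _, one_mul _, fun y _ => by rw [one_mul, mul_one]⟩
      mul_mem' := fun {x y} hx hy => ⟨mul_mem hx.1 hy.1, by
          rw [show x * y * (x * y) = x * (y * x) * y by group, ← hx.2.2 y hy.1]
          calc x * (x * y) * y = (x * x) * (y * y) := by group
            _ = 1 := by rw [hx.2.1, hy.2.1, one_mul],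
        fun w hw => (Commute.mul_left (hx.2.2 w hw) (hy.2.2 w hw)).eq⟩
      inv_mem' := fun {x} hx => ⟨inv_mem hx.1, by rw [← mul_inv_rev, hx.2.1, inv_one],
        fun w hw => (Commute.inv_left (hx.2.2 w hw)).eq⟩ }
  haveI hNn : N.Normal := ⟨fun x hx g => ⟨hKn.conj_mem x hx.1 g,
    by rw [show g * x * g⁻¹ * (g * x * g⁻¹) = g * (x * x) * g⁻¹ by group, hx.2.1]; group,
    fun w hw => by
      have := hx.2.2 (g⁻¹ * w * g) (by simpa using hKn.conj_mem w hw g⁻¹)
      calc g * x * g⁻¹ * w = g * (x * (g⁻¹ * w * g)) * g⁻¹ := by group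
        _ = _ := by rw [this]; group⟩⟩
  obtain ⟨u, v, huv⟩ := hnt
  obtain ⟨z₀, hz₀, -⟩ := hex u v huv
  have hNne : N ≠ ⊥ := by
    have hK1 : Nontrivial K := (Subgroup.nontrivial_iff_ne_bot K).2 fun h => by
      have := hmem z₀ hz₀
      rw [h, Subgroup.mem_bot] at this
      exact absurd (hord z₀ hz₀) (by simp [this])
    have hcen := hKp.center_nontrivial
    have hev : 2 ∣ Nat.card (Subgroup.center K) := by
      obtain ⟨k, hk⟩ := IsPGroup.iff_card.1 (hKp.to_subgroup (Subgroup.center K))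
      have := Finite.one_lt_card (α := Subgroup.center K)
      rw [hk] at this ⊢
      exact dvd_pow_self 2 (by rintro rfl; simp at this)
    obtain ⟨x, hx⟩ := exists_prime_orderOf_dvd_card' 2 hev
    intro h
    have hx' : ((x : K) : G) ∈ N := ⟨x.1.2, by
      have := mul_self_of_orderOf hx
      exact congrArg (fun w : Subgroup.center K => ((w : K) : G)) this,
      fun w hw => (congrArg Subtype.val (Subgroup.mem_center_iff.1 x.2 ⟨w, hw⟩)).symm⟩
    rw [h, Subgroup.mem_bot] at hx'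
    have : x = 1 := Subtype.ext (Subtype.ext hx')
    simp [this] at hx
  have hNc : ∀ x ∈ N, ∀ y ∈ N, x * y = y * x := fun x hx y hy => hx.2.2 y hy.1
  haveI := isPretransitive_of_normal_ne_bot h2 N hNne
  have htr : ∀ c d : Ω, ∃ x ∈ N, x • c = d := fun c d => by
    obtain ⟨⟨x, hx⟩, h⟩ := exists_smul_eq N c d; exact ⟨x, hx, h⟩
  have hin : ∀ z, P z → z ∈ N := by
    intro z hz
    obtain ⟨x, hx, hxu⟩ := htr u (z • u)
    have hzx : z = x := by
      refine eq_of_smul_eq_smul fun d : Ω => ?_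
      obtain ⟨y, hy, rfl⟩ := htr u d
      rw [← mul_smul, ← hy.2.2 z (hmem z hz), mul_smul, ← hxu, ← mul_smul, hNc y hy x hx, mul_smul]
    exact hzx ▸ hx
  refine ⟨N, ⟨Nat.prime_two, hNn, hNc, fun x hx => by rw [pow_two]; exact hx.2.1, htr,
    fun x hx c h => eq_one_of_regular N hNc hx h⟩, fun x hx hx1 => ?_⟩
  obtain ⟨z, hz, hzu⟩ := hex u (x • u) fun h => hx1 (eq_one_of_regular N hNc hx h.symm)
  have : z⁻¹ * x = 1 := eq_one_of_regular N hNc (mul_mem (inv_mem (hin z hz)) hx) (c := u)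
    (by rw [mul_smul, ← hzu, inv_smul_smul])
  rwa [← inv_mul_eq_one.1 this]

theorem RegularKernel.card {p : ℕ} {N : Subgroup G} (R : RegularKernel Ω p N) [Nonempty Ω] :
    Nat.card N = Nat.card Ω := by
  obtain ⟨c⟩ := (inferInstance : Nonempty Ω)
  refine Nat.card_congr (Equiv.ofBijective (fun x : N => (x : G) • c) ⟨fun x y h => ?_, fun d => ?_⟩)
  · refine Subtype.ext (inv_mul_eq_one.1 (R.free _ (mul_mem (inv_mem x.2) y.2) c ?_))
    change (x : G) • c = (y : G) • c at h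
    rw [mul_smul, ← h, inv_smul_smul]
  · obtain ⟨x, hx, h⟩ := R.trans c d; exact ⟨⟨x, hx⟩, h⟩

theorem RegularKernel.card_pow {p : ℕ} {N : Subgroup G} (R : RegularKernel Ω p N) [Nonempty Ω] :
    ∃ k, Nat.card Ω = p ^ k := by
  haveI := Fact.mk R.prime
  have hN : IsPGroup p ↥N := fun x => ⟨1, Subtype.ext (by simpa using R.pow x x.2)⟩
  obtain ⟨k, hk⟩ := IsPGroup.iff_card.1 hN
  exact ⟨k, R.card ▸ hk⟩

/-- The sharply doubly transitive case. -/
theorem exists_kernel_sharp [FaithfulSMul G Ω] (h2 : IsMultiplyPretransitive G Ω 2) (hn : 2 ≤ Nat.card Ω)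
    (hfix : ∀ x : G, ∀ c d : Ω, c ≠ d → x • c = c → x • d = d → x = 1) :
    ∃ (p : ℕ) (N : Subgroup G), RegularKernel Ω p N ∧ ∀ x : G, x ∈ N ↔ x = 1 ∨ ∀ c : Ω, x • c ≠ c := by
  classical
  have := Fintype.ofFinite Ω
  rw [Nat.card_eq_fintype_card] at hn
  obtain ⟨p, j, K, hp, -, -, hKn, hKc, hKp, -, hKm, hKt, hKf, -⟩ :=
    CfsgLib.Perm.SharplyTwo.exists_kernel h2 hn hfix
  refine ⟨p, K, ⟨hp, hKn, fun x hx y hy => congrArg Subtype.val (hKc.is_comm.comm ⟨x, hx⟩ ⟨y, hy⟩), hKp,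
    fun c d => ?_, fun x hx c h => ?_⟩, hKm⟩
  · haveI := hKt
    obtain ⟨⟨x, hx⟩, h⟩ := exists_smul_eq K c d; exact ⟨x, hx, h⟩
  · have : (⟨x, hx⟩ : K) ∈ stabilizer K c := h
    rw [hKf c, Subgroup.mem_bot] at this
    exact congrArg Subtype.val this

/-- An involution with one fixed point, isolated by the two-point stabilisers: a regular normal subgroup of
odd exponent. -/
theorem exists_kernel_odd [FaithfulSMul G Ω] {a b : Ω} {u : G} (D : InvData G Ω a b u)
    (hstab : ∀ x ∈ (pairStab a b : Subgroup G), x = 1 ∨ x = u) (hodd : Odd (Nat.card Ω))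
    (hone : Nat.card {x : G // orderOf x = 2 ∧ ¬ IsConj u x ∧ x • a = b} = 1) :
    ∃ (p : ℕ) (N : Subgroup G), RegularKernel Ω p N := by
  classical
  obtain ⟨⟨f, hf, hfn, -⟩⟩ := (Nat.card_eq_one_iff_unique.1 hone).2
  obtain ⟨c, hc⟩ : ∃ c : Ω, f • c = c := by
    have h := parity_fixCard (Ω := Ω) (mul_self_of_orderOf hf)
    rw [Nat.odd_iff.1 hodd] at h
    have : Nonempty {c : Ω // f • c = c} := (Nat.card_pos_iff.1 (by unfold fixCard at h; omega)).1
    exact ⟨this.some.1, this.some.2⟩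
  have huniq : ∀ x : G, orderOf x = 2 → ¬ IsConj u x → x • c = c → x = f := by
    intro x hx hxn hxc
    have h1 : Nat.card {x : G // orderOf x = 2 ∧ ¬ IsConj u x ∧ x • c = c} = 1 := by
      rw [D.nonconj_count hodd c, hone]
    haveI := (Nat.card_eq_one_iff_unique.1 h1).1
    exact congrArg Subtype.val (Subsingleton.elim
      (⟨x, hx, hxn, hxc⟩ : {x : G // orderOf x = 2 ∧ ¬ IsConj u x ∧ x • c = c}) ⟨f, hf, hfn, hc⟩)
  have hiso : Cfsg.IsIsolatedInvolution f := by
    refine ⟨hf, fun g hcm => huniq _ ((orderOf_conj_eq g f).trans hf)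
      (fun e => hfn (e.trans (isConj_iff.2 ⟨g, rfl⟩).symm)) ?_⟩
    exact D.unique_fix hf hfn (by rw [← mul_smul, hcm.eq, mul_smul, hc]) hc
  set W := Cfsg.oddCore G with hW
  haveI hWn : W.Normal := by rw [hW]; unfold Cfsg.oddCore; infer_instance
  have hWodd : Odd (Nat.card W) := ZStar.odd_card_oddCore G
  have hWne : W ≠ ⊥ := by
    intro h
    have htop := CfsgLib.Classical.SwapPair.sup_oddCore_eq_top_of_isolated hiso
    rw [← hW, h, sup_bot_eq] at htop
    refine D.ne ?_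
    have hall : ∀ d : Ω, f • d = d := by
      intro d
      haveI : IsPretransitive G Ω := isPretransitive_of_is_two_pretransitive (h2 := D.two)
      obtain ⟨g, rfl⟩ := exists_smul_eq G c d
      have hg : g ∈ Subgroup.centralizer ({f} : Set G) := htop ▸ Subgroup.mem_top g
      rw [← mul_smul, ← Subgroup.mem_centralizer_singleton_iff.1 hg, mul_smul, hc]
    have : f = 1 := eq_of_smul_eq_smul fun d : Ω => by rw [hall, one_smul]
    simp [this] at hf
  haveI := isPretransitive_of_normal_ne_bot D.two W hWne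
  have := Fintype.ofFinite Ω
  have h2' : 2 ≤ Fintype.card Ω := Fintype.one_lt_card_iff.2 ⟨a, b, D.ne⟩
  have hsharp : ∀ x : W, ∀ d e : Ω, d ≠ e → x • d = d → x • e = e → x = 1 := by
    rintro ⟨x, hx⟩ d e hde hd he
    obtain ⟨g, hg1, hg2⟩ := exists_smul_pair D.two D.ne hde
    change g • a = d at hg1
    change g • b = e at hg2
    have hm : g⁻¹ * x * g ∈ (pairStab a b : Subgroup G) := by
      rw [← conj_mem_pairStab_iff g, show g * (g⁻¹ * x * g) * g⁻¹ = x by group, hg1, hg2]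
      exact mem_pairStab.2 ⟨hd, he⟩
    rcases hstab _ hm with h | h
    · exact Subtype.ext (conj_eq_one_iff.1 (show g⁻¹ * x * (g⁻¹)⁻¹ = 1 by rwa [inv_inv]))
    · exfalso
      have h2 : orderOf x ∣ Nat.card W := Subgroup.orderOf_dvd_natCard W hx
      have h3 := orderOf_conj_eq g⁻¹ x
      rw [inv_inv, h, D.ordJ] at h3
      rw [← h3] at h2
      exact (Nat.not_even_iff_odd.2 hWodd) (even_iff_two_dvd.2 h2)
  obtain ⟨K, -, hKm, hKc⟩ := CfsgLib.Perm.SharplyTwo.exists_fpf_kernel a h2' hsharp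
  let N : Subgroup G := K.map W.subtype
  have hmem : ∀ x : G, x ∈ N ↔ x ∈ W ∧ (x = 1 ∨ ∀ y : Ω, x • y ≠ y) := by
    intro x
    constructor
    · rintro ⟨⟨y, hy⟩, hyK, rfl⟩
      exact ⟨hy, ((hKm _).1 hyK).imp (fun h => congrArg Subtype.val h) fun h => h⟩
    · rintro ⟨hx, h⟩
      exact ⟨⟨x, hx⟩, (hKm _).2 (h.imp (fun e => Subtype.ext e) fun e => e), rfl⟩
  haveI hNn : N.Normal := ⟨fun x hx g => (hmem _).2 ⟨hWn.conj_mem x ((hmem x).1 hx).1 g,
    ((hmem x).1 hx).2.imp (fun e => by rw [e]; group) fun e y hy => e (g⁻¹ • y) (by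
      rwa [mul_smul, mul_smul, ← eq_inv_smul_iff] at hy)⟩⟩
  have hNfree : ∀ x ∈ N, ∀ y : Ω, x • y = y → x = 1 := fun x hx y h =>
    ((hmem x).1 hx).2.resolve_right fun e => e y h
  have hNcard : Nat.card N = Nat.card Ω := by
    rw [← Nat.card_congr (K.equivMapOfInjective W.subtype W.subtype_injective).toEquiv, hKc,
      Nat.card_eq_fintype_card]
  have htr : ∀ d e : Ω, ∃ x ∈ N, x • d = e := by
    intro d e
    have hb : Function.Bijective (fun x : N => (x : G) • d) :=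
      (Nat.bijective_iff_injective_and_card _).2 ⟨fun x y h => Subtype.ext (inv_mul_eq_one.1 (hNfree _
        (mul_mem (inv_mem x.2) y.2) d (by
          change (x : G) • d = (y : G) • d at h
          rw [mul_smul, ← h, inv_smul_smul]))), hNcard⟩
    obtain ⟨⟨x, hx⟩, h⟩ := hb.2 e
    exact ⟨x, hx, h⟩
  -- the involution inverts the kernel
  have hfc : ∀ x ∈ N, f * x = x * f → x = 1 := fun x hx h =>
    hNfree x hx c (D.unique_fix hf hfn (by rw [← mul_smul, h, mul_smul, hc]) hc)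
  have hinj : Function.Injective (fun x : N => (x : G)⁻¹ * f * x) := by
    intro x y h
    change (x : G)⁻¹ * f * x = (y : G)⁻¹ * f * y at h
    refine Subtype.ext (mul_inv_eq_one.1 (hfc _ (mul_mem x.2 (inv_mem y.2)) ?_))
    calc f * ((x : G) * (y : G)⁻¹) = (x : G) * ((x : G)⁻¹ * f * x) * (y : G)⁻¹ := by group
      _ = _ := by rw [h]; group
  have hf2 := mul_self_of_orderOf hf
  have hfi := inv_of_orderOf hf
  let φ : N → N := fun x => ⟨f * (x : G)⁻¹ * f⁻¹ * x, mul_mem (hNn.conj_mem _ (inv_mem x.2) f) x.2⟩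
  have hφ : Function.Bijective φ := Finite.injective_iff_bijective.1 fun x y h => hinj (by
    have h1 : f * (x : G)⁻¹ * f⁻¹ * x = f * (y : G)⁻¹ * f⁻¹ * y := congrArg Subtype.val h
    rw [hfi, mul_assoc, mul_assoc, mul_assoc, mul_assoc] at h1
    change (x : G)⁻¹ * f * x = (y : G)⁻¹ * f * y
    rw [mul_assoc, mul_assoc]
    exact mul_left_cancel h1)
  have hinv : ∀ x ∈ N, f * x * f⁻¹ = x⁻¹ := by
    intro x hx
    obtain ⟨y, hy⟩ := hφ.2 ⟨x, hx⟩
    have e : f * (y : G)⁻¹ * f⁻¹ * y = x := congrArg Subtype.val hy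
    rw [← e, hfi]
    calc f * (f * (y : G)⁻¹ * f * y) * f = (f * f) * (y : G)⁻¹ * f * y * f := by group
      _ = (y : G)⁻¹ * f * y * f⁻¹ := by rw [hf2, one_mul, hfi]
      _ = (f * (y : G)⁻¹ * f * y)⁻¹ := by simp only [_root_.mul_inv_rev, inv_inv, hfi, mul_assoc]
  have hcomm : ∀ x ∈ N, ∀ y ∈ N, x * y = y * x := fun x hx y hy => inv_injective (by
    rw [← hinv _ (mul_mem hx hy), mul_inv_rev y x, ← hinv x hx, ← hinv y hy]; group)
  -- the exponent
  obtain ⟨x₀, hx₀, hx₀c⟩ : ∃ x ∈ N, x • a = b := htr a b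
  have hx1 : x₀ ≠ 1 := fun e => D.ne (by rw [← hx₀c, e, one_smul])
  set p := Nat.minFac (orderOf x₀)
  have hp : p.Prime := Nat.minFac_prime (fun e => hx1 (orderOf_eq_one_iff.1 e))
  set y₀ := x₀ ^ (orderOf x₀ / p)
  have hy₀ : orderOf y₀ = p := orderOf_pow_orderOf_div (orderOf_pos x₀).ne' (Nat.minFac_dvd _)
  have hy₀N : y₀ ∈ N := pow_mem hx₀ _
  have hy₀1 : y₀ ≠ 1 := fun e => by rw [e, orderOf_one] at hy₀; exact hp.one_lt.ne hy₀
  refine ⟨p, N, hp, hNn, hcomm, fun x hx => ?_, htr, hNfree⟩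
  rcases eq_or_ne x 1 with rfl | hx'
  · exact one_pow p
  obtain ⟨g, hg1, hg2⟩ := exists_smul_pair D.two (c := a) (d := x • a)
    (fun h => hy₀1 (hNfree _ hy₀N a h.symm)) (fun h => hx' (hNfree _ hx a h.symm))
  change g • a = a at hg1
  change g • y₀ • a = x • a at hg2
  have hgx : g * y₀ * g⁻¹ = x := by
    refine (inv_mul_eq_one.1 (hNfree _ (mul_mem (inv_mem hx) (hNn.conj_mem _ hy₀N g)) a ?_)).symm
    rw [mul_smul, mul_smul, mul_smul, show g⁻¹ • a = a by rw [inv_smul_eq_iff, hg1], hg2, inv_smul_smul]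
  rw [← hgx, conj_pow, show y₀ ^ p = 1 by rw [← hy₀]; exact pow_orderOf_eq_one _]
  group

end CfsgLib.KimuraFour
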