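import Cfsg.Agent.Lib.Perm.KimuraFour.Cases
import Cfsg.Agent.Lib.Perm.KimuraFour.Centralizer
import Cfsg.Agent.Lib.Perm.KimuraFour.Regular

/-!
# Even degree: generalities
-/

set_option autoImplicit false

namespace CfsgLib.KimuraFour

open MulAction

variable {G : Type*} [Group G] [Finite G] {Ω : Type*} [MulAction G Ω] [Finite Ω] {a b : Ω} {J : G}

local notation "Cent" J:max => Subgroup.centralizer (Singleton.singleton J : Set _)

namespace InvData

variable (D : InvData G Ω a b J)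

include D

/-- In even degree an involution with a fixed point is conjugate to `J`. -/
theorem isConj_of_fix (heven : Even (Nat.card Ω)) {x : G} (hx : orderOf x = 2) {c : Ω} (hc : x • c = c) :
    IsConj J x := by
  classical
  have h := parity_fixCard (Ω := Ω) (mul_self_of_orderOf hx)
  rw [Nat.even_iff.1 heven] at h
  have hnt : Nontrivial {c : Ω // x • c = c} := by
    rw [← Finite.one_lt_card_iff_nontrivial]
    have : 0 < Nat.card {c : Ω // x • c = c} := Nat.card_pos_iff.2 ⟨⟨⟨c, hc⟩⟩, inferInstance⟩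
    unfold fixCard at h
    omega
  obtain ⟨⟨d, hd⟩, hne⟩ := exists_ne (⟨c, hc⟩ : {c : Ω // x • c = c})
  exact D.isConj_of_twoFix hx ⟨c, d, fun e => hne (Subtype.ext e.symm), hc, hd⟩

theorem even_fixCard (heven : Even (Nat.card Ω)) : Even (fixCard Ω J) := by
  have h := parity_fixCard (Ω := Ω) (mul_self_of_orderOf D.ordJ)
  rw [Nat.even_iff] at heven ⊢
  omega

/-- A sharply doubly transitive induced group of even degree has translations of exponent two. -/
theorem even_induced (heven : Even (fixCard Ω J))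
    (hsharp : ∀ (x : ↥(inducedPerm Ω J)) (c d : ↥(fixPts Ω J)), c ≠ d → x • c = c → x • d = d → x = 1) :
    ∃ (k : ℕ) (N : Subgroup ↥(inducedPerm Ω J)), RegularKernel ↥(fixPts Ω J) 2 N ∧ 0 < k ∧
      fixCard Ω J = 2 ^ k ∧
      (∀ x : ↥(inducedPerm Ω J), x ∈ N ↔ x = 1 ∨ ∀ c : ↥(fixPts Ω J), x • c ≠ c) ∧
      ∀ x : ↥(inducedPerm Ω J), x * x = 1 → x ∈ N := by
  classical
  haveI : Nonempty ↥(fixPts Ω J) := ⟨D.fa⟩
  have := Fintype.ofFinite Ω
  obtain ⟨p, N, R, hmem⟩ := exists_kernel_sharp (G := ↥(inducedPerm Ω J)) D.two_induced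
    (by rw [card_fixPts]; exact D.two_le_fixCard) hsharp
  obtain ⟨k, hk⟩ := R.card_pow
  rw [card_fixPts] at hk
  have hk0 : k ≠ 0 := fun h => by
    have := D.two_le_fixCard; rw [hk, h, pow_zero] at this; omega
  have hp : p = 2 := by
    rw [hk, Nat.even_pow] at heven
    exact ((Nat.prime_dvd_prime_iff_eq Nat.prime_two R.prime).1 (even_iff_two_dvd.1 heven.1)).symm
  subst hp
  refine ⟨k, N, R, Nat.pos_of_ne_zero hk0, hk, hmem, fun x hx => (hmem x).2 ?_⟩
  rcases eq_or_ne x 1 with h | h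
  · exact Or.inl h
  refine Or.inr fun c hc => h ?_
  have h2 := parity_fixCard (Ω := ↥(fixPts Ω J)) hx
  rw [card_fixPts, Nat.even_iff.1 heven] at h2
  have hnt : Nontrivial {c : ↥(fixPts Ω J) // x • c = c} := by
    rw [← Finite.one_lt_card_iff_nontrivial]
    have : 0 < Nat.card {c : ↥(fixPts Ω J) // x • c = c} := Nat.card_pos_iff.2 ⟨⟨⟨c, hc⟩⟩, inferInstance⟩
    unfold fixCard at h2
    omega
  obtain ⟨⟨d, hd⟩, hne⟩ := exists_ne (⟨c, hc⟩ : {c : ↥(fixPts Ω J) // x • c = c})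
  exact hsharp x c d (fun e => hne (Subtype.ext e.symm)) hc hd

end InvData

/-- The preimage in `G` of a group of permutations of the fixed points of `J`. -/
def liftSub (J : G) (N : Subgroup ↥(inducedPerm Ω J)) : Subgroup G :=
  (N.comap (induce Ω J)).map (Cent J).subtype

theorem mem_liftSub {N : Subgroup ↥(inducedPerm Ω J)} {x : G} :
    x ∈ liftSub J N ↔ ∃ h : x ∈ Cent J, induce Ω J ⟨x, h⟩ ∈ N := by
  constructor
  · rintro ⟨y, hy, rfl⟩
    exact ⟨y.2, hy⟩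
  · rintro ⟨h, hN⟩
    exact ⟨⟨x, h⟩, hN, rfl⟩

theorem liftSub_le_cent (N : Subgroup ↥(inducedPerm Ω J)) : liftSub J N ≤ Cent J := Subgroup.map_subtype_le _

theorem card_liftSub (N : Subgroup ↥(inducedPerm Ω J)) :
    Nat.card ↥(liftSub J N) = Nat.card ↥(induce Ω J).ker * Nat.card ↥N := by
  rw [liftSub, Nat.card_congr (Subgroup.equivMapOfInjective _ _ (Cent J).subtype_injective).symm.toEquiv]
  have h1 := (N.comap (induce Ω J)).card_mul_index
  rw [Subgroup.index_comap_of_surjective _ (induce_surjective J), ← (induce Ω J).ker.card_mul_index,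
    Subgroup.index_ker, MonoidHom.range_eq_top.2 (induce_surjective J), Subgroup.card_top,
    ← N.card_mul_index, ← mul_assoc] at h1
  exact Nat.eq_of_mul_eq_mul_right (Nat.pos_of_ne_zero Subgroup.FiniteIndex.index_ne_zero) h1

theorem cent_le_normalizer_liftSub (N : Subgroup ↥(inducedPerm Ω J)) [hN : N.Normal] :
    Cent J ≤ Subgroup.normalizer (liftSub J N : Set G) := by
  have key : ∀ g ∈ Cent J, ∀ x ∈ liftSub J N, g * x * g⁻¹ ∈ liftSub J N := by
    intro g hg x hx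
    obtain ⟨h, hxN⟩ := mem_liftSub.1 hx
    refine mem_liftSub.2 ⟨mul_mem (mul_mem hg h) (inv_mem hg), ?_⟩
    rw [show (⟨g * x * g⁻¹, mul_mem (mul_mem hg h) (inv_mem hg)⟩ : ↥(Cent J)) =
      ⟨g, hg⟩ * ⟨x, h⟩ * ⟨g, hg⟩⁻¹ from Subtype.ext rfl, map_mul, map_mul, map_inv]
    exact hN.conj_mem _ hxN _
  intro g hg
  refine Subgroup.mem_normalizer_iff.2 fun x => ⟨key g hg x, fun hx => ?_⟩
  have := key g⁻¹ (inv_mem hg) _ hx
  rwa [show g⁻¹ * (g * x * g⁻¹) * g⁻¹⁻¹ = x by group] at this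

/-- Every element of the preimage of the translations is a conjugate of a swapping element up to the kernel. -/
theorem InvData.liftSub_form (D : InvData G Ω a b J) {N : Subgroup ↥(inducedPerm Ω J)}
    (R : RegularKernel ↥(fixPts Ω J) 2 N) {z : G} (hz : z ∈ liftSub J N) (hza : z • a = b) {x : G}
    (hx : x ∈ liftSub J N) :
    (∀ c : Ω, J • c = c → x • c = c) ∨ ∃ g ∈ Cent J, g • a = a ∧ ∃ k ∈ Cent J,
      (∀ c : Ω, J • c = c → k • c = c) ∧ x = g * z * g⁻¹ * k := by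
  haveI := R.normal
  obtain ⟨hxC, hxN⟩ := mem_liftSub.1 hx
  obtain ⟨hzC, hzN⟩ := mem_liftSub.1 hz
  by_cases hxa : x • a = a
  · left
    have h1 : induce Ω J ⟨x, hxC⟩ = 1 := R.free _ hxN D.fa (Subtype.ext hxa)
    exact (induce_eq_one_iff _).1 h1
  right
  obtain ⟨g, hg, hga, hgb⟩ := D.exists_centralizing D.smul_a D.smul_b D.smul_a (smul_mem_fix hxC D.smul_a) D.ne
    (Ne.symm hxa)
  have hy : g * z * g⁻¹ ∈ Cent J := mul_mem (mul_mem hg hzC) (inv_mem hg)
  refine ⟨g, hg, hga, (g * z * g⁻¹)⁻¹ * x, mul_mem (inv_mem hy) hxC, ?_, by group⟩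
  have hyN : induce Ω J ⟨g * z * g⁻¹, hy⟩ ∈ N := by
    rw [show (⟨g * z * g⁻¹, hy⟩ : ↥(Cent J)) = ⟨g, hg⟩ * ⟨z, hzC⟩ * ⟨g, hg⟩⁻¹ from Subtype.ext rfl, map_mul,
      map_mul, map_inv]
    exact R.normal.conj_mem _ hzN _
  have h2 : induce Ω J (⟨g * z * g⁻¹, hy⟩⁻¹ * ⟨x, hxC⟩) = 1 := by
    rw [map_mul, map_inv]
    refine R.free _ (mul_mem (inv_mem hyN) hxN) D.fa (Subtype.ext ?_)
    rw [← map_inv, ← map_mul]
    show ((g * z * g⁻¹)⁻¹ * x) • a = a
    rw [mul_smul, inv_smul_eq_iff, mul_smul, mul_smul, show g⁻¹ • a = a by rw [inv_smul_eq_iff, hga], hza, hgb]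
  exact (induce_eq_one_iff _).1 h2

namespace Setting

variable (S : Setting G Ω a b) (D : InvData G Ω a b J)

include S D

/-- The kernel of the induced map in case A. -/
theorem ker_iff_caseA (hA : CaseA a b J) {x : G} :
    (x ∈ Cent J ∧ ∀ c : Ω, J • c = c → x • c = c) ↔ x ∈ (pairStab a b ⊓ Cent J : Subgroup G) := by
  constructor
  · rintro ⟨h1, h2⟩
    exact ⟨mem_pairStab.2 ⟨h2 a D.smul_a, h2 b D.smul_b⟩, h1⟩
  · rintro ⟨h1, h2⟩
    exact ⟨h2, fun c hc => hA x h1 ((S.mem_cent_iff D h1).1 h2) c hc⟩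

theorem card_ker_caseA (hA : CaseA a b J) : Nat.card ↥(induce Ω J).ker = 4 := by
  rw [← S.card_inf_cent D]
  exact Nat.card_congr ⟨fun x => ⟨x.1.1, (S.ker_iff_caseA D hA).1 ⟨x.1.2, (induce_eq_one_iff x.1).1 x.2⟩⟩,
    fun x => ⟨⟨x.1, x.2.2⟩, MonoidHom.mem_ker.2
      ((induce_eq_one_iff _).2 ((S.ker_iff_caseA D hA).2 x.2).2)⟩, fun _ => rfl, fun _ => rfl⟩

/-- In case A the four-group is normal in the centraliser of `J`. -/
theorem conj_four_caseA (hA : CaseA a b J) {g w : G} (hg : g ∈ Cent J)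
    (hw : w ∈ (pairStab a b ⊓ Cent J : Subgroup G)) : g * w * g⁻¹ ∈ (pairStab a b ⊓ Cent J : Subgroup G) := by
  obtain ⟨h1, h2⟩ := (S.ker_iff_caseA D hA).2 hw
  refine (S.ker_iff_caseA D hA).1 ⟨mul_mem (mul_mem hg h1) (inv_mem hg), fun c hc => ?_⟩
  rw [mul_smul, mul_smul, h2 _ (smul_mem_fix (inv_mem hg) hc), smul_inv_smul]

/-- In case A a central swap makes the preimage of the translations elementary abelian. -/
theorem liftSub_caseA (hA : CaseA a b J) {N : Subgroup ↥(inducedPerm Ω J)}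
    (R : RegularKernel ↥(fixPts Ω J) 2 N) {z : G} (hz : CenSwap a b z) (hzN : z ∈ liftSub J N) :
    ∀ x ∈ liftSub J N, x * x = 1 ∧ ∀ w ∈ (pairStab a b ⊓ Cent J : Subgroup G), x * w = w * x := by
  have hV : ∀ u ∈ (pairStab a b ⊓ Cent J : Subgroup G), ∀ w ∈ (pairStab a b ⊓ Cent J : Subgroup G),
      u * u = 1 ∧ u * w = w * u := fun u hu w hw =>
    ⟨(S.mem_cent_iff D hu.1).1 hu.2, (S.inv_mul hu.1 ((S.mem_cent_iff D hu.1).1 hu.2) hw.1
      ((S.mem_cent_iff D hw.1).1 hw.2)).1⟩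
  intro x hx
  rcases D.liftSub_form R hzN hz.2.1 hx with h | ⟨g, hg, -, k, hk, hkfix, rfl⟩
  · have hxV := (S.ker_iff_caseA D hA).1 ⟨liftSub_le_cent N hx, h⟩
    exact ⟨(hV x hxV x hxV).1, fun w hw => (hV x hxV w hw).2⟩
  have hkV := (S.ker_iff_caseA D hA).1 ⟨hk, hkfix⟩
  have hyc : ∀ w ∈ (pairStab a b ⊓ Cent J : Subgroup G), g * z * g⁻¹ * w = w * (g * z * g⁻¹) := by
    intro w hw
    have hw' := S.conj_four_caseA D hA (inv_mem hg) hw
    calc g * z * g⁻¹ * w = g * (z * (g⁻¹ * w * g⁻¹⁻¹)) * g⁻¹ := by group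
      _ = _ := by rw [hz.2.2 _ hw'.1]; group
  have hy2 : g * z * g⁻¹ * (g * z * g⁻¹) = 1 := by
    rw [show g * z * g⁻¹ * (g * z * g⁻¹) = g * (z * z) * g⁻¹ by group, mul_self_of_orderOf hz.1]; group
  refine ⟨?_, fun w hw => ?_⟩
  · calc g * z * g⁻¹ * k * (g * z * g⁻¹ * k) = g * z * g⁻¹ * (k * (g * z * g⁻¹)) * k := by group
      _ = (g * z * g⁻¹ * (g * z * g⁻¹)) * (k * k) := by rw [← hyc k hkV]; group
      _ = 1 := by rw [hy2, (hV k hkV k hkV).1, one_mul]
  · exact ((show Commute (g * z * g⁻¹) w from hyc w hw).mul_left (show Commute k w from (hV k hkV w hw).2)).eq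

end Setting

end CfsgLib.KimuraFour
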