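import Cfsg.Agent.Lib.Perm.KimuraFour.TwoStab
import Cfsg.Agent.Lib.Perm.KimuraFour.Fusion

/-!
# Both swapping involutions conjugate: the Sylow subgroup of the induced group
-/

set_option autoImplicit false

namespace CfsgLib.KimuraFour

open MulAction

variable {G : Type*} [Group G] [Finite G] {Ω : Type*} [MulAction G Ω] [Finite Ω] {a b : Ω} {u : G}

local notation "Cent" J:max => Subgroup.centralizer (Singleton.singleton J : Set _)

namespace InvData

variable (D : InvData G Ω a b u) (hstab : ∀ x ∈ (pairStab a b : Subgroup G), x = 1 ∨ x = u)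
  {y : G} (hy : IsConj u y) (hya : y • a = b) (hyu : y * u = u * y) (hyc : IsConj u (y * u))
  (hswap : ∀ x, orderOf x = 2 → x • a = b → x = y ∨ x = y * u)

include D hstab hy hya hyu hyc hswap

theorem degree_two_conj (hne : y ≠ y * u) : Nat.card Ω = fixCard Ω u * (2 * fixCard Ω u - 1) := by
  have hyua : (y * u) • a = b := by rw [mul_smul, D.smul_a, hya]
  have hβ : InvData.beta a b u = 2 := by
    rw [InvData.beta, Nat.card_eq_two_iff]
    refine ⟨⟨y, hy, hya⟩, ⟨y * u, hyc, hyua⟩, fun h => hne (congrArg Subtype.val h), ?_⟩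
    ext x
    simp only [Set.mem_insert_iff, Set.mem_singleton_iff, Set.mem_univ, iff_true]
    exact (hswap x.1 (D.orderOf_of_conj x.2.1) x.2.2).imp (fun h => Subtype.ext h) fun h => Subtype.ext h
  have hf := D.formula
  rw [D.gamma_one hstab, hβ, one_mul] at hf
  have hle := fixCard_le (Ω := Ω) u
  have hj2 := D.two_le_fixCard
  obtain ⟨q, hq⟩ : ∃ q, fixCard Ω u = q + 2 := ⟨fixCard Ω u - 2, by omega⟩
  rw [hq, show q + 2 - 1 = q + 1 by omega] at hf
  rw [hq] at hle ⊢
  rw [show 2 * (q + 2) - 1 = 2 * q + 3 by omega]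
  have : Nat.card Ω = (q + 2) + 2 * ((q + 2) * (q + 1)) := by omega
  rw [this]; ring

variable [FaithfulSMul G Ω]

theorem all_conj {x : G} (hx : orderOf x = 2) : IsConj u x := by
  obtain ⟨c, hc⟩ : ∃ c : Ω, x • c ≠ c := by
    by_contra hcon
    push Not at hcon
    have : x = 1 := eq_of_smul_eq_smul fun c : Ω => by rw [hcon, one_smul]
    simp [this] at hx
  obtain ⟨g, hg1, hg2⟩ := exists_smul_pair D.two D.ne (Ne.symm hc)
  change g • a = c at hg1
  change g • b = x • c at hg2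
  have hxa : (g⁻¹ * x * g) • a = b := by rw [mul_smul, mul_smul, hg1, ← hg2, inv_smul_smul]
  rcases hswap _ (by simpa using (orderOf_conj_eq g⁻¹ x).trans hx) hxa with e | e
  · exact hy.trans (isConj_iff.2 ⟨g, by rw [← e]; group⟩)
  · exact hyc.trans (isConj_iff.2 ⟨g, by rw [← e]; group⟩)

/-- An elementary abelian Sylow subgroup and its normaliser. -/
theorem sylow_two (hne : y ≠ y * u) (heven : Even (Nat.card Ω)) :
    ∃ (m : ℕ) (T : Subgroup G), 0 < m ∧ fixCard Ω u = 2 ^ m ∧ Nat.card ↥T = 2 * 2 ^ m ∧ (∀ x ∈ T, x * x = 1) ∧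
      u ∈ T ∧ Nat.card ↥(Subgroup.normalizer (T : Set G)) =
        (2 * 2 ^ m - 1) * (2 ^ m * (2 ^ m - 1) * 2) := by
  classical
  have hu1 : u ≠ 1 := fun h => by simpa [h] using D.ordJ
  have hu2 := mul_self_of_orderOf D.ordJ
  have hy2 := mul_self_of_orderOf (D.orderOf_of_conj hy)
  haveI : Fact (Nat.Prime 2) := ⟨Nat.prime_two⟩
  haveI : Nonempty ↥(fixPts Ω u) := ⟨D.fa⟩
  obtain ⟨m, N, R, hm, hjm, -, hinv⟩ := D.even_induced (D.even_fixCard heven) (D.sharp_of_two hstab)
  haveI := R.normal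
  have hyC : y ∈ Cent u := Subgroup.mem_centralizer_singleton_iff.2 hyu
  have hyN : y ∈ liftSub u N := mem_liftSub.2 ⟨hyC, hinv _ (by
    rw [← map_mul, show (⟨y, hyC⟩ : ↥(Cent u)) * ⟨y, hyC⟩ = 1 from Subtype.ext hy2, map_one])⟩
  set T := liftSub u N with hT
  have hker : ∀ x : G, (∀ c : Ω, u • c = c → x • c = c) → x = 1 ∨ x = u := fun x hfix =>
    hstab x (mem_pairStab.2 ⟨hfix _ D.smul_a, hfix _ D.smul_b⟩)
  have hkerc : Nat.card ↥(induce Ω u).ker = 2 := by
    rw [Nat.card_eq_two_iff]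
    refine ⟨1, ⟨⟨u, Subgroup.mem_centralizer_singleton_iff.2 rfl⟩, (induce_eq_one_iff _).2 fun c hc => hc⟩,
      fun h => hu1 (congrArg (fun x : ↥(induce Ω u).ker => (x.1 : G)) h).symm, ?_⟩
    ext g
    simp only [Set.mem_insert_iff, Set.mem_singleton_iff, Set.mem_univ, iff_true]
    exact (hker g.1 ((induce_eq_one_iff g.1).1 g.2)).imp (fun e => Subtype.ext (Subtype.ext e))
      fun e => Subtype.ext (Subtype.ext e)
  have hexp : ∀ x ∈ T, x * x = 1 := by
    intro x hx
    rcases D.liftSub_form R hyN hya hx with h | ⟨g, hg, -, k, hk, hkfix, rfl⟩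
    · rcases hker x h with rfl | rfl
      · exact one_mul _
      · exact hu2
    · have hgy : g * y * g⁻¹ * (g * y * g⁻¹) = 1 := by
        rw [show g * y * g⁻¹ * (g * y * g⁻¹) = g * (y * y) * g⁻¹ by group, hy2]; group
      rcases hker k hkfix with rfl | rfl
      · rw [mul_one, hgy]
      · have hc : g * y * g⁻¹ * k = k * (g * y * g⁻¹) :=
          Subgroup.mem_centralizer_singleton_iff.1 (mul_mem (mul_mem hg hyC) (inv_mem hg))
        calc g * y * g⁻¹ * k * (g * y * g⁻¹ * k) = (g * y * g⁻¹) * (k * (g * y * g⁻¹)) * k := by group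
          _ = (g * y * g⁻¹ * (g * y * g⁻¹)) * (k * k) := by rw [← hc]; group
          _ = 1 := by rw [hgy, hu2, one_mul]
  have hTc : Nat.card ↥T = 2 * 2 ^ m := by rw [hT, card_liftSub, hkerc, R.card, card_fixPts, hjm]
  have hn := D.degree_two_conj hstab hy hya hyu hyc hswap hne
  rw [hjm] at hn
  have hG : Nat.card G = Nat.card Ω * (Nat.card Ω - 1) * 2 := by
    rw [card_eq_pairStab D.two D.ne, D.card_stab_two hstab]
  obtain ⟨P, hP⟩ := exists_sylow_eq (IsPGroup.of_card (n := m + 1) (by rw [hTc]; ring) : IsPGroup 2 ↥T) (by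
    intro hd
    have hN := Nat.even_iff.1 heven
    have hpos : 0 < Nat.card Ω := Nat.card_pos_iff.2 ⟨⟨a⟩, inferInstance⟩
    rw [hTc, hG, hn, show 2 ^ m * (2 * 2 ^ m - 1) * (2 ^ m * (2 * 2 ^ m - 1) - 1) * 2 =
      2 * (2 ^ m * ((2 * 2 ^ m - 1) * (2 ^ m * (2 * 2 ^ m - 1) - 1))) by ring,
      show 2 * (2 * 2 ^ m) = 2 * (2 ^ m * 2) by ring] at hd
    rw [hn] at hN hpos
    rcases (Nat.prime_two.dvd_mul).1
      (Nat.dvd_of_mul_dvd_mul_left (Nat.two_pow_pos m) (Nat.dvd_of_mul_dvd_mul_left (by norm_num) hd)) with h | h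
    · have := Nat.two_pow_pos m
      omega
    · omega)
  haveI : IsMulCommutative ↥(P : Subgroup G) := ⟨⟨fun x y => Subtype.ext
    (comm_of_exp_two hexp _ (hP ▸ x.2) _ (hP ▸ y.2))⟩⟩
  have huT : u ∈ T := mem_liftSub.2 ⟨Subgroup.mem_centralizer_singleton_iff.2 rfl, by
    rw [show induce Ω u ⟨u, Subgroup.mem_centralizer_singleton_iff.2 rfl⟩ = 1 from
      (induce_eq_one_iff _).2 fun c hc => hc]
    exact one_mem _⟩
  have hcount := card_orbit_mul (Subgroup.normalizer (T : Set G)) (fun x => x ∈ T ∧ x ≠ 1) ⟨huT, hu1⟩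
    (fun n hn' x hx => ⟨(Subgroup.mem_normalizer_iff.1 hn' x).1 hx.1, fun h => hx.2 (conj_eq_one_iff.1 h)⟩)
    fun x hx => by
      obtain ⟨g, hg⟩ := isConj_iff.1 (D.all_conj hstab hy hya hyu hyc hswap (orderOf_two_of (hexp x hx.1) hx.2))
      obtain ⟨n, hn', e⟩ := P.conj_eq_normalizer_conj_of_mem u g⁻¹ (hP.ge huT) (hP.ge (by
        rw [inv_inv, hg]; exact hx.1))
      refine ⟨n⁻¹, ?_, ?_⟩
      · rw [← hP]; exact inv_mem hn'
      · rw [inv_inv] at e ⊢
        rw [← hg, e]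
  have hcap : Nat.card ↥(pairStab a b ⊓ Cent u : Subgroup G) = 2 := by
    rw [← D.card_stab_two hstab, show (pairStab a b ⊓ Cent u : Subgroup G) =
      pairStab a b from inf_eq_left.2 fun x hx => by
        rcases hstab x hx with rfl | rfl
        · exact one_mem _
        · exact Subgroup.mem_centralizer_singleton_iff.2 rfl]
  have hle : Cent u ≤ Subgroup.normalizer (T : Set G) := cent_le_normalizer_liftSub N
  rw [inf_eq_right.2 hle, D.card_cent, hcap, hjm] at hcount
  refine ⟨m, T, hm, hjm, hTc, hexp, huT, ?_⟩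
  rw [hcount]
  congr 1
  have := Fintype.ofFinite G
  have hT2 := hTc
  rw [Nat.card_eq_fintype_card, Fintype.card_subtype] at hT2 ⊢
  rw [show (Finset.univ.filter fun x => x ∈ T ∧ x ≠ 1) = (Finset.univ.filter fun x => x ∈ T).erase 1 by
    ext x; simp [and_comm], Finset.card_erase_of_mem (by simp [one_mem]), hT2]

end InvData

end CfsgLib.KimuraFour
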