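import Cfsg.Agent.Lib.Perm.KimuraFour.Complement
import Cfsg.Agent.Lib.Perm.SimpleCount

/-!
# No subgroup of order `5040` normalises a group of order sixteen in the way needed
-/

set_option autoImplicit false

namespace CfsgLib.KimuraFour

variable {G : Type*} [Group G] [Finite G]

/-- An element normalising a cyclic group of order five or seven and of coprime order to its automorphism group
centralises it. -/
theorem commute_of_normalizes {g e : G} {q r : ℕ} (hq : q.Prime) (he : orderOf e = q) (hr : Nat.Coprime r (q - 1))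
    (hg : g ^ r = 1) (hn : g ∈ Subgroup.normalizer (Subgroup.zpowers e : Set G)) : g * e = e * g := by
  haveI := Fact.mk hq
  set φ := (Subgroup.zpowers e).normalizerMonoidHom
  have h1 : φ ⟨g, hn⟩ = 1 := by
    have hd1 : orderOf (φ ⟨g, hn⟩) ∣ r := orderOf_dvd_of_pow_eq_one (by
      rw [← map_pow, show (⟨g, hn⟩ : ↥(Subgroup.normalizer (Subgroup.zpowers e : Set G))) ^ r = 1 from
        Subtype.ext hg, map_one])
    have hd2 : orderOf (φ ⟨g, hn⟩) ∣ q - 1 := by
      refine (orderOf_dvd_natCard _).trans (dvd_of_eq ?_)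
      rw [Nat.card_congr (IsCyclic.mulAutMulEquiv ↥(Subgroup.zpowers e)).toEquiv, Nat.card_eq_fintype_card,
        ZMod.card_units_eq_totient, Nat.card_zpowers, he, Nat.totient_prime hq]
    exact orderOf_eq_one_iff.1 (Nat.eq_one_of_dvd_coprimes hr hd1 hd2)
  have h2 : (⟨g, hn⟩ : ↥(Subgroup.normalizer (Subgroup.zpowers e : Set G))) ∈ φ.ker := h1
  rw [Subgroup.normalizerMonoidHom_ker, Subgroup.mem_subgroupOf, Subgroup.mem_centralizer_iff] at h2
  exact (h2 e (Subgroup.mem_zpowers e)).symm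

/-- The configuration of degree 1036 is impossible. -/
theorem not_5040 {T N : Subgroup G} (hTN : T ≤ N) (hn : N ≤ Subgroup.normalizer (T : Set G))
    (hT : Nat.card ↥T = 16) (hN : Nat.card ↥N = 5040) (hexp : ∀ x ∈ T, x * x = 1)
    (hC5 : ∀ x ∈ T, x ≠ 1 → ∀ g ∈ N, g * x = x * g → orderOf g ≠ 5)
    (hC7 : ∀ f ∈ N, orderOf f = 7 → ∃ x ∈ T, f * x ≠ x * f) : False := by
  classical
  haveI : Fact (Nat.Prime 7) := ⟨by norm_num⟩
  haveI : Fact (Nat.Prime 5) := ⟨by norm_num⟩
  haveI : Fact (Nat.Prime 2) := ⟨Nat.prime_two⟩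
  obtain ⟨⟨f, hfN⟩, hf⟩ := exists_prime_orderOf_dvd_card' (G := ↥N) 7 (by rw [hN]; norm_num)
  obtain ⟨⟨e, heN⟩, he⟩ := exists_prime_orderOf_dvd_card' (G := ↥N) 5 (by rw [hN]; norm_num)
  rw [Subgroup.orderOf_mk] at hf he
  -- the fixed involution of an element of order seven
  have hfix : ∀ f ∈ N, orderOf f = 7 → ∃ x ∈ T, x ≠ 1 ∧ f * x = x * f ∧
      ∀ x' ∈ T, x' ≠ 1 → f * x' = x' * f → x' = x := by
    intro f hfN hf
    let σ : Equiv.Perm ↥T :=
      { toFun := fun x => ⟨f * x * f⁻¹, (Subgroup.mem_normalizer_iff.1 (hn hfN) x.1).1 x.2⟩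
        invFun := fun x => ⟨f⁻¹ * x * f, by
          have := (Subgroup.mem_normalizer_iff.1 (inv_mem (hn hfN)) x.1).1 x.2
          rwa [inv_inv] at this⟩
        left_inv := fun x => Subtype.ext (by show f⁻¹ * (f * x * f⁻¹) * f = (x : G); group)
        right_inv := fun x => Subtype.ext (by show f * (f⁻¹ * x * f) * f⁻¹ = (x : G); group) }
    have hσ : ∀ n : ℕ, ∀ x : ↥T, ((σ ^ n) x : G) = f ^ n * x * (f ^ n)⁻¹ := by
      intro n
      induction n with
      | zero => simp
      | succ n ih =>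
        intro x
        rw [pow_succ', Equiv.Perm.mul_apply]
        show f * ((σ ^ n) x : G) * f⁻¹ = _
        rw [ih x, pow_succ']; group
    have := Fintype.ofFinite ↥T
    have := Fintype.ofFinite G
    have h := Equiv.Perm.card_compl_support_modEq (p := 7) (n := 1) (σ := σ) (Equiv.ext fun x => Subtype.ext (by
      rw [pow_one, hσ, ← hf, pow_orderOf_eq_one]; simp))
    rw [← Nat.card_eq_fintype_card, hT] at h
    set F := T ⊓ Subgroup.centralizer ({f} : Set G) with hF
    have hFc : Nat.card ↥F = σ.supportᶜ.card := by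
      rw [Nat.card_eq_fintype_card, Fintype.card_subtype]
      refine Finset.card_bij (fun x hx => ⟨x, (Finset.mem_filter.1 hx).2.1⟩) (fun x hx => ?_)
        (fun x _ y _ h => congrArg Subtype.val h) (fun x hx => ⟨x.1, ?_, rfl⟩)
      · simp only [Finset.mem_compl, Equiv.Perm.mem_support, not_not]
        refine Subtype.ext ?_
        show f * x * f⁻¹ = x
        rw [← Subgroup.mem_centralizer_singleton_iff.1 (Finset.mem_filter.1 hx).2.2, mul_inv_cancel_right]
      · simp only [Finset.mem_compl, Equiv.Perm.mem_support, not_not] at hx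
        simp only [Finset.mem_filter, Finset.mem_univ, true_and]
        exact ⟨x.2, Subgroup.mem_centralizer_singleton_iff.2
          (mul_inv_eq_iff_eq_mul.1 (congrArg Subtype.val hx)).symm⟩
    rw [← hFc] at h
    have hd : Nat.card ↥F ∣ 2 ^ 4 := (Subgroup.card_dvd_of_le inf_le_left).trans (dvd_of_eq (by rw [hT]; rfl))
    obtain ⟨k, hk, hk'⟩ := (Nat.dvd_prime_pow Nat.prime_two).1 hd
    rw [hk', Nat.ModEq] at h
    interval_cases k
    · norm_num at h
    · rw [pow_one] at hk'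
      obtain ⟨p, q, hpq, huniv⟩ := Nat.card_eq_two_iff.1 hk'
      obtain ⟨⟨x, hxT, hxf⟩, hx1⟩ : ∃ x : ↥F, x ≠ 1 := by
        by_cases hp1 : p = 1
        · exact ⟨q, fun h => hpq (hp1.trans h.symm)⟩
        · exact ⟨p, hp1⟩
      refine ⟨x, hxT, fun h => hx1 (Subtype.ext h), (Subgroup.mem_centralizer_singleton_iff.1 hxf).symm,
        fun x' hx' hx'1 hc => ?_⟩
      by_contra hne
      have h3 : ({⟨x, hxT, hxf⟩, ⟨x', hx', Subgroup.mem_centralizer_singleton_iff.2 hc.symm⟩, 1} : Finset ↥F).card = 3 :=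
        Finset.card_eq_three.2 ⟨_, _, _, fun e => hne (congrArg Subtype.val e).symm,
          fun e => hx1 e, fun e => hx'1 (congrArg Subtype.val e), rfl⟩
      have := Fintype.ofFinite ↥F
      have hle := Finset.card_le_univ
        ({⟨x, hxT, hxf⟩, ⟨x', hx', Subgroup.mem_centralizer_singleton_iff.2 hc.symm⟩, 1} : Finset ↥F)
      rw [h3, ← Nat.card_eq_fintype_card, hk'] at hle
      omega
    · norm_num at h
    · norm_num at h
    · exfalso
      obtain ⟨x, hx, hne⟩ := hC7 f hfN hf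
      have hle : T ≤ F := (Subgroup.eq_of_le_of_card_ge (inf_le_left : F ≤ T) (by rw [hk', hT]; norm_num)).ge
      exact hne (Subgroup.mem_centralizer_singleton_iff.1 (hle hx).2).symm
  -- no element of order five normalises a group of order seven
  have h75 : ∀ f ∈ N, orderOf f = 7 → ∀ g ∈ N, g ∈ Subgroup.normalizer (Subgroup.zpowers f : Set G) → orderOf g ≠ 5 := by
    intro f hfN hf g hgN hgn hg
    obtain ⟨x, hxT, hx1, hfx, huniq⟩ := hfix f hfN hf
    have hgf : g * f = f * g := commute_of_normalizes (r := 5) (q := 7) (by norm_num) hf (by norm_num)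
      (hg ▸ pow_orderOf_eq_one g) hgn
    have hxg := huniq (g * x * g⁻¹) ((Subgroup.mem_normalizer_iff.1 (hn hgN) x).1 hxT)
      (fun h => hx1 (conj_eq_one_iff.1 h)) (by
        have hgi : f * g⁻¹ = g⁻¹ * f := (Commute.inv_left (show Commute g f from hgf)).symm.eq
        calc f * (g * x * g⁻¹) = (f * g) * x * g⁻¹ := by group
          _ = g * (f * x) * g⁻¹ := by rw [← hgf]; group
          _ = g * x * (f * g⁻¹) := by rw [hfx]; group
          _ = _ := by rw [hgi]; group)
    exact hC5 x hxT hx1 g hgN (mul_inv_eq_iff_eq_mul.1 hxg) hg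
  -- the normaliser of a group of order five
  set Q := Subgroup.zpowers e
  set NE := Subgroup.normalizer (Q : Set G) ⊓ N with hNE
  have hpsyl : ∀ (p : ℕ) [Fact p.Prime] (x y : G), x ∈ N → y ∈ N → orderOf x = p → (∃ k, y ^ p ^ k = 1) →
      y ∈ Subgroup.normalizer (Subgroup.zpowers x : Set G) → ¬ p * p ∣ 5040 → y ∈ Subgroup.zpowers x := by
    intro p _ x y hx hy hxo ⟨k, hk⟩ hyn hpp
    obtain ⟨j, -, hj⟩ := (Nat.dvd_prime_pow (Fact.out : p.Prime)).1 (orderOf_dvd_of_pow_eq_one hk)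
    have hY : IsPGroup p ↥(Subgroup.zpowers y) := IsPGroup.of_card (n := j) (by rw [Nat.card_zpowers, hj])
    have hX : IsPGroup p ↥(Subgroup.zpowers x) := IsPGroup.of_card (n := 1) (by rw [Nat.card_zpowers, hxo, pow_one])
    have hS := hY.to_sup_of_normal_right' hX (Subgroup.zpowers_le.2 hyn)
    obtain ⟨m, hm⟩ := IsPGroup.iff_card.1 hS
    have hd : Nat.card ↥(Subgroup.zpowers y ⊔ Subgroup.zpowers x : Subgroup G) ∣ 5040 := hN ▸
      Subgroup.card_dvd_of_le (sup_le (Subgroup.zpowers_le.2 hy) (Subgroup.zpowers_le.2 hx))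
    have hm1 : m ≤ 1 := by
      by_contra hc
      push Not at hc
      exact hpp ((pow_two p ▸ pow_dvd_pow p hc).trans (hm ▸ hd))
    have he := Subgroup.eq_of_le_of_card_ge (le_sup_right : Subgroup.zpowers x ≤ Subgroup.zpowers y ⊔ Subgroup.zpowers x)
      (by rw [hm, Nat.card_zpowers, hxo]; exact (Nat.pow_le_pow_right (Fact.out : p.Prime).pos hm1).trans_eq (pow_one p))
    rw [he]
    exact Subgroup.mem_sup_left (Subgroup.mem_zpowers y)
  have hodd : ¬ 2 ∣ Nat.card ↥NE := by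
    intro h
    obtain ⟨g', hg'⟩ := exists_prime_orderOf_dvd_card' 2 h
    obtain ⟨g, hgn, hgN, hg⟩ : ∃ g, g ∈ Subgroup.normalizer (Q : Set G) ∧ g ∈ N ∧ orderOf g = 2 :=
      ⟨(g' : G), g'.2.1, g'.2.2, by rw [Subgroup.orderOf_coe, hg']⟩
    have hgT : g ∈ T := by
      by_contra hgT
      have hS := (IsPGroup.of_card (n := 1) (by rw [Nat.card_zpowers, hg, pow_one]) :
        IsPGroup 2 ↥(Subgroup.zpowers g)).to_sup_of_normal_right'
          (IsPGroup.of_card (n := 4) (by rw [hT]; rfl) : IsPGroup 2 ↥T) (Subgroup.zpowers_le.2 (hn hgN))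
      obtain ⟨m, hm⟩ := IsPGroup.iff_card.1 hS
      have hd : Nat.card ↥(Subgroup.zpowers g ⊔ T : Subgroup G) ∣ 5040 :=
        hN ▸ Subgroup.card_dvd_of_le (sup_le (Subgroup.zpowers_le.2 hgN) hTN)
      have hm4 : m ≤ 4 := by
        by_contra hc
        push Not at hc
        have := (pow_dvd_pow 2 hc).trans (hm ▸ hd)
        norm_num at this
      have he := Subgroup.eq_of_le_of_card_ge (le_sup_right : T ≤ Subgroup.zpowers g ⊔ T)
        (by rw [hm, hT]; exact (Nat.pow_le_pow_right (by norm_num) hm4).trans_eq (by norm_num))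
      exact hgT (he.ge (Subgroup.mem_sup_left (Subgroup.mem_zpowers g)))
    have hg1 : g ≠ 1 := fun h => by simp [h] at hg
    have h1 : g * e * g⁻¹ * e⁻¹ ∈ Q :=
      mul_mem ((Subgroup.mem_normalizer_iff.1 hgn e).1 (Subgroup.mem_zpowers e)) (inv_mem (Subgroup.mem_zpowers e))
    have h2 : g * e * g⁻¹ * e⁻¹ ∈ T := by
      rw [show g * e * g⁻¹ * e⁻¹ = g * (e * g⁻¹ * e⁻¹) by group]
      exact mul_mem hgT ((Subgroup.mem_normalizer_iff.1 (hn heN) _).1 (inv_mem hgT))
    have h3 : g * e * g⁻¹ * e⁻¹ = 1 := orderOf_eq_one_iff.1 (Nat.eq_one_of_dvd_coprimes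
      (show (5 : ℕ).Coprime 16 by norm_num) (he ▸ orderOf_dvd_of_mem_zpowers h1)
      (hT ▸ Subgroup.orderOf_dvd_natCard T h2))
    exact hC5 g hgT hg1 e heN (mul_inv_eq_iff_eq_mul.1 (mul_inv_eq_one.1 h3)).symm he
  have hno7 : ¬ 7 ∣ Nat.card ↥NE := by
    intro h
    obtain ⟨g', hg'⟩ := exists_prime_orderOf_dvd_card' 7 h
    obtain ⟨g, hgn, hgN, hg⟩ : ∃ g, g ∈ Subgroup.normalizer (Q : Set G) ∧ g ∈ N ∧ orderOf g = 7 :=
      ⟨(g' : G), g'.2.1, g'.2.2, by rw [Subgroup.orderOf_coe, hg']⟩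
    have hc := commute_of_normalizes (r := 7) (q := 5) (by norm_num) he (by norm_num) (hg ▸ pow_orderOf_eq_one g) hgn
    refine h75 g hgN hg e heN (Subgroup.mem_normalizer_iff.2 fun z => ?_) he
    constructor
    · intro hz
      obtain ⟨i, rfl⟩ := Subgroup.mem_zpowers_iff.1 hz
      rw [(((show Commute g e from hc).symm).zpow_right i).eq, mul_inv_cancel_right]
      exact hz
    · intro hz
      obtain ⟨i, hi⟩ := Subgroup.mem_zpowers_iff.1 hz
      refine Subgroup.mem_zpowers_iff.2 ⟨i, ?_⟩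
      calc g ^ i = e⁻¹ * (g ^ i * e) := by
            rw [((show Commute g e from hc).zpow_left i).eq, inv_mul_cancel_left]
        _ = _ := by rw [hi]; group
  have hcentral : ∀ g ∈ N, g ∈ Subgroup.normalizer (Q : Set G) → g * e = e * g := by
    intro g hgN hgn
    refine commute_of_normalizes (r := Nat.card ↥NE) (q := 5) (by norm_num) he ?_ ?_ hgn
    · rw [show (5 - 1 : ℕ) = 2 ^ 2 by norm_num]
      exact ((Nat.prime_two.coprime_iff_not_dvd).2 hodd).symm.pow_right 2
    · exact congrArg Subtype.val (pow_card_eq_one' (x := (⟨g, hgn, hgN⟩ : ↥NE)))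
  obtain ⟨M, hMN, hMn, hMQ, hMin, hMo⟩ := exists_complement_in (q := 5) (C := N) (Q := Q)
    (Subgroup.zpowers_le.2 heN) (IsPGroup.of_card (n := 1) (by rw [Nat.card_zpowers, he, pow_one]))
    (fun x hx hk hxn => hpsyl 5 e x heN hx he hk hxn (by norm_num)) (fun x hx hxn w hw => by
      obtain ⟨i, rfl⟩ := Subgroup.mem_zpowers_iff.1 hw
      exact ((show Commute x e from hcentral x hx hxn).zpow_right i).eq)
  -- Frattini argument
  set M' := M.subgroupOf N with hM'
  haveI : M'.Normal := ⟨fun m hm g => hMn g g.2 m hm⟩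
  have hfM : (⟨f, hfN⟩ : ↥N) ∈ M' := hMin f hfN (by rw [hf]; norm_num)
  obtain ⟨P⟩ : Nonempty (Sylow 7 ↥M') := inferInstance
  have hPc : Nat.card ↥(P : Subgroup ↥M') = 7 := by
    have h7 : 7 ∣ Nat.card ↥M' := by
      have := Subgroup.orderOf_dvd_natCard M' hfM
      rwa [Subgroup.orderOf_mk, hf] at this
    obtain ⟨k, hk⟩ := IsPGroup.iff_card.1 P.isPGroup'
    have h1 := P.dvd_card_of_dvd_card h7
    have h2 : Nat.card ↥(P : Subgroup ↥M') ∣ 5040 :=
      hN ▸ (Subgroup.card_subgroup_dvd_card _).trans (Subgroup.card_subgroup_dvd_card M')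
    rw [hk] at h1 h2 ⊢
    rcases k with _ | _ | k
    · norm_num at h1
    · norm_num
    · have := (pow_dvd_pow 7 (show 2 ≤ k + 2 by omega)).trans h2
      norm_num at this
  have hfr := Sylow.normalizer_sup_eq_top P
  set P' := (P : Subgroup ↥M').map M'.subtype with hP'
  have hidx : M'.index ∣ Nat.card ↥(Subgroup.normalizer (P' : Set ↥N)) := by
    rw [← Subgroup.relIndex_top_right, ← hfr, Subgroup.relIndex_sup_right]
    exact Subgroup.relIndex_dvd_card _ _
  have h5 : 5 ∣ M'.index := by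
    have h := M'.card_mul_index
    rw [hN] at h
    refine ((Nat.Prime.dvd_mul (by norm_num)).1 (show 5 ∣ Nat.card ↥M' * M'.index by rw [h]; norm_num)).resolve_left
      fun h' => ?_
    obtain ⟨⟨x, hx⟩, hxo⟩ := exists_prime_orderOf_dvd_card' 5 h'
    exact hMo x hx (by rw [Subgroup.orderOf_mk] at hxo; rw [Subgroup.orderOf_coe, hxo])
  obtain ⟨⟨g, hg⟩, hgo⟩ := exists_prime_orderOf_dvd_card' (G := ↥(Subgroup.normalizer (P' : Set ↥N))) 5 (h5.trans hidx)
  rw [Subgroup.orderOf_mk] at hgo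
  obtain ⟨⟨y, hyP⟩, hy⟩ := exists_prime_orderOf_dvd_card' (G := ↥(P : Subgroup ↥M')) 7 (by rw [hPc])
  rw [Subgroup.orderOf_mk] at hy
  have hPz : P' = Subgroup.zpowers (y : ↥N) := by
    refine (Subgroup.eq_of_le_of_card_ge (Subgroup.zpowers_le.2 (Subgroup.mem_map.2 ⟨y, hyP, rfl⟩)) ?_).symm
    rw [Nat.card_congr ((P : Subgroup ↥M').equivMapOfInjective _ M'.subtype_injective).symm.toEquiv, hPc,
      Nat.card_zpowers, orderOf_injective M'.subtype M'.subtype_injective, hy]
  rw [hPz] at hg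
  refine h75 ((y : ↥N) : G) (y : ↥N).2 (by rw [Subgroup.orderOf_coe, Subgroup.orderOf_coe, hy]) (g : G) g.2 ?_
    (by rw [Subgroup.orderOf_coe, hgo])
  refine Subgroup.mem_normalizer_iff.2 fun z => ?_
  constructor
  · intro hz
    obtain ⟨i, rfl⟩ := Subgroup.mem_zpowers_iff.1 hz
    obtain ⟨k, hk⟩ := Subgroup.mem_zpowers_iff.1 ((Subgroup.mem_normalizer_iff.1 hg _).1
      (zpow_mem (Subgroup.mem_zpowers (y : ↥N)) i))
    exact Subgroup.mem_zpowers_iff.2 ⟨k, by simpa using congrArg Subtype.val hk⟩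
  · intro hz
    obtain ⟨k, hk⟩ := Subgroup.mem_zpowers_iff.1 hz
    have hzN : z = ((g⁻¹ * ((y : ↥N) ^ k) * g : ↥N) : G) := by
      have : ((g⁻¹ * ((y : ↥N) ^ k) * g : ↥N) : G) = (g : G)⁻¹ * (((y : ↥N) : G) ^ k) * g := by simp
      rw [this, hk]; group
    have hm := (Subgroup.mem_normalizer_iff.1 (inv_mem hg) _).1 (zpow_mem (Subgroup.mem_zpowers (y : ↥N)) k)
    rw [inv_inv] at hm
    obtain ⟨i, hi⟩ := Subgroup.mem_zpowers_iff.1 hm
    exact Subgroup.mem_zpowers_iff.2 ⟨i, by rw [hzN, ← hi]; simp⟩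

end CfsgLib.KimuraFour
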