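import Cfsg.Agent.Lib.Perm.KimuraFour.BData
import Cfsg.Agent.Lib.Perm.KimuraFour.FourX
import Cfsg.Agent.Lib.Perm.KimuraFour.Order5040
import Cfsg.Agent.Lib.Perm.KimuraFour.Complement
import Cfsg.Agent.Lib.Perm.SimpleCount

/-!
# Even degree, `3 n = i (4 i - 1)`: no such group
-/

set_option autoImplicit false

namespace CfsgLib.KimuraFour

open MulAction

variable {G : Type*} [Group G] [Finite G] {Ω : Type*} [MulAction G Ω] [Finite Ω] {a b : Ω} {J : G}

local notation "Cent" J:max => Subgroup.centralizer (Singleton.singleton J : Set _)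

namespace Setting

variable (S : Setting G Ω a b) (D : InvData G Ω a b J) {z : G} (hz : CenSwap a b z) (h1 : IsConj J z)
  (h2 : IsConj J (z * J)) (hn : 3 * Nat.card Ω = fixCard Ω J * (4 * fixCard Ω J - 1)) (heven : Even (Nat.card Ω))

include S D hz h1 h2

/-- All involutions are conjugate to `J`. -/
theorem isConj_four {x : G} (hx : orderOf x = 2) : IsConj J x := by
  haveI := S.faithful
  obtain ⟨c, hc⟩ : ∃ c : Ω, x • c ≠ c := by
    by_contra hcon
    push Not at hcon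
    have : x = 1 := eq_of_smul_eq_smul fun c : Ω => by rw [hcon, one_smul]
    simp [this] at hx
  obtain ⟨g, hg1, hg2⟩ := exists_smul_pair S.two S.ne (Ne.symm hc)
  change g • a = c at hg1
  change g • b = x • c at hg2
  have hx' : orderOf (g⁻¹ * x * g) = 2 := by simpa using (orderOf_conj_eq g⁻¹ x).trans hx
  have key : IsConj J (g⁻¹ * x * g) := by
    rcases S.swap_cases hz hx' (by rw [mul_smul, mul_smul, hg1, ← hg2, inv_smul_smul]) with e | ⟨v, hv, hv2, e⟩
    · rw [e]; exact h1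
    · rw [e]
      exact h2.trans (S.censwap_mul_conj hz D.memJ D.ordJ hv hv2)
  exact key.trans (isConj_iff.2 ⟨g, by group⟩)

include hn

omit hz h1 h2 in
theorem card_G_four : 3 * Nat.card G = 4 * fixCard Ω J * (fixCard Ω J - 1) *
    ((4 * fixCard Ω J - 1) * (4 * fixCard Ω J + 3)) := by
  have hi := D.two_le_fixCard
  have hle := fixCard_le (Ω := Ω) J
  rw [card_eq_pairStab S.two S.ne, S.card_H]
  obtain ⟨q, hq⟩ : ∃ q, fixCard Ω J = q + 2 := ⟨fixCard Ω J - 2, by omega⟩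
  obtain ⟨n, hn'⟩ : ∃ n, Nat.card Ω = n + 1 := ⟨Nat.card Ω - 1, by omega⟩
  rw [hn', hq, show 4 * (q + 2) - 1 = 4 * q + 7 by omega] at hn
  rw [hn', hq, show n + 1 - 1 = n by omega, show 4 * (q + 2) - 1 = 4 * q + 7 by omega,
    show q + 2 - 1 = q + 1 by omega]
  have h3n : 3 * n = (q + 1) * (4 * q + 11) := by ring_nf at hn ⊢; omega
  calc 3 * ((n + 1) * n * 12) = 4 * (3 * (n + 1)) * (3 * n) := by ring
    _ = _ := by rw [hn, h3n]; ring

include heven

omit hz h1 h2 in
theorem two_part_four {k : ℕ} (he : 8 * 2 ^ k ∣ Nat.card G) : 2 ^ (k + 1) ∣ fixCard Ω J := by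
  have hi := D.two_le_fixCard
  obtain ⟨h, hh⟩ := even_iff_two_dvd.1 (D.even_fixCard heven)
  set i := fixCard Ω J with hidef
  have hodd : Odd ((i - 1) * ((4 * i - 1) * (4 * i + 3))) :=
    Nat.odd_mul.2 ⟨Nat.odd_iff.2 (by omega), Nat.odd_mul.2 ⟨Nat.odd_iff.2 (by omega), Nat.odd_iff.2 (by omega)⟩⟩
  have h3 : 3 * (8 * 2 ^ k) ∣ 3 * Nat.card G := mul_dvd_mul_left 3 he
  rw [S.card_G_four D hn, ← hidef, show 3 * (8 * 2 ^ k) = 4 * (2 ^ (k + 1) * 3) by ring,
    show 4 * i * (i - 1) * ((4 * i - 1) * (4 * i + 3)) = 4 * (i * ((i - 1) * ((4 * i - 1) * (4 * i + 3)))) by ring]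
    at h3
  exact ((Nat.prime_two.coprime_iff_not_dvd.2 hodd.not_two_dvd_nat).pow_left (k + 1)).dvd_of_dvd_mul_right
    ((dvd_mul_right _ 3).trans (Nat.dvd_of_mul_dvd_mul_left (show 0 < 4 by norm_num) h3))

/-- No such group in case A. -/
theorem not_four_even_caseA (hA : CaseA a b J) : False := by
  classical
  haveI := S.faithful
  haveI : Fact (Nat.Prime 2) := ⟨Nat.prime_two⟩
  obtain ⟨k, N, R, hk0, hk, -, hinv⟩ := D.even_induced (D.even_fixCard heven) (S.sharp_of_caseA D hA)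
  haveI := R.normal
  haveI : Nonempty ↥(fixPts Ω J) := ⟨D.fa⟩
  have hzC : z ∈ Cent J := Subgroup.mem_centralizer_singleton_iff.2 (hz.2.2 J D.memJ)
  have hzN : z ∈ liftSub J N := mem_liftSub.2 ⟨hzC, hinv _ (by
    rw [← map_mul, show (⟨z, hzC⟩ : ↥(Cent J)) * ⟨z, hzC⟩ = 1 from Subtype.ext (mul_self_of_orderOf hz.1), map_one])⟩
  set T := liftSub J N with hT
  have hexp : ∀ x ∈ T, x * x = 1 := fun x hx => (S.liftSub_caseA D hA R hz hzN x hx).1
  have hTc : Nat.card ↥T = 4 * 2 ^ k := by rw [hT, card_liftSub, S.card_ker_caseA D hA, R.card, card_fixPts, hk]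
  have hTp : IsPGroup 2 ↥T := IsPGroup.of_card (n := k + 2) (by rw [hTc]; ring)
  obtain ⟨P, hP⟩ := exists_sylow_eq hTp (by
    rw [hTc, ← mul_assoc, show 2 * 4 = 8 from rfl]
    intro hd
    have h4 := S.two_part_four D hn heven hd
    rw [hk] at h4
    have := (Nat.pow_dvd_pow_iff_le_right (show 1 < 2 by norm_num)).1 h4
    omega)
  haveI : IsMulCommutative ↥(P : Subgroup G) := ⟨⟨fun x y => Subtype.ext
    (comm_of_exp_two hexp _ (hP ▸ x.2) _ (hP ▸ y.2))⟩⟩
  have hJT : J ∈ T := mem_liftSub.2 ⟨Subgroup.mem_centralizer_singleton_iff.2 rfl, by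
    rw [show induce Ω J ⟨J, Subgroup.mem_centralizer_singleton_iff.2 rfl⟩ = 1 from
      (induce_eq_one_iff _).2 fun c hc => hc]
    exact one_mem _⟩
  have hJ1 : J ≠ 1 := fun h => by simpa [h] using D.ordJ
  have hcount := card_orbit_mul (Subgroup.normalizer (T : Set G)) (fun x => x ∈ T ∧ x ≠ 1) ⟨hJT, hJ1⟩
    (fun n hn' x hx => ⟨(Subgroup.mem_normalizer_iff.1 hn' x).1 hx.1, fun h => hx.2 (conj_eq_one_iff.1 h)⟩)
    fun x hx => by
      obtain ⟨g, hg⟩ := isConj_iff.1 (S.isConj_four D hz h1 h2 (orderOf_two_of (hexp x hx.1) hx.2))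
      obtain ⟨n, hn', e⟩ := P.conj_eq_normalizer_conj_of_mem J g⁻¹ (hP.ge hJT) (hP.ge (by
        rw [inv_inv, hg]; exact hx.1))
      refine ⟨n⁻¹, ?_, ?_⟩
      · rw [← hP]; exact inv_mem hn'
      · rw [inv_inv] at e ⊢
        rw [← hg, e]
  have hle : Cent J ≤ Subgroup.normalizer (T : Set G) := cent_le_normalizer_liftSub N
  have hP' : Nat.card {x : G // x ∈ T ∧ x ≠ 1} + 1 = Nat.card ↥T := by
    have := Fintype.ofFinite G
    rw [Nat.card_eq_fintype_card, Fintype.card_subtype, Nat.card_eq_fintype_card, Fintype.card_subtype,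
      show (Finset.univ.filter fun x => x ∈ T ∧ x ≠ 1) = (Finset.univ.filter fun x => x ∈ T).erase 1 by
        ext x; simp [and_comm], Finset.card_erase_of_mem (by simp [one_mem])]
    have : 0 < (Finset.univ.filter fun x => x ∈ T).card := Finset.card_pos.2 ⟨1, by simp [one_mem]⟩
    omega
  rw [inf_eq_right.2 hle, S.card_cent_four D] at hcount
  set i := fixCard Ω J with hi
  have hi2 : 2 ≤ i := by rw [hi]; exact D.two_le_fixCard
  rw [hTc, ← hk] at hP'
  have hd := mul_dvd_mul_left 3 (Subgroup.card_subgroup_dvd_card (Subgroup.normalizer (T : Set G)))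
  rw [hcount, show Nat.card {x : G // x ∈ T ∧ x ≠ 1} = 4 * i - 1 by omega, S.card_G_four D hn, ← hi,
    show 3 * ((4 * i - 1) * (4 * (i * (i - 1)))) = (4 * i * (i - 1) * (4 * i - 1)) * 3 by ring,
    show 4 * i * (i - 1) * ((4 * i - 1) * (4 * i + 3)) = (4 * i * (i - 1) * (4 * i - 1)) * (4 * i + 3) by ring] at hd
  have h4 := Nat.dvd_of_mul_dvd_mul_left (show 0 < 4 * i * (i - 1) * (4 * i - 1) from
    Nat.mul_pos (Nat.mul_pos (by omega) (by omega)) (by omega)) hd
  have h5 : 3 ∣ 4 * i := (Nat.dvd_add_left (dvd_refl 3)).1 h4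
  rw [hk, show 4 = 2 ^ 2 by norm_num, ← pow_add] at h5
  have := Nat.prime_three.dvd_of_dvd_pow h5
  norm_num at this

variable {v : ↥(Cent J)} (B : BData D v) (hzC : z ∈ Cent J)

include B

/-- One swapping image conjugate, one not. -/
theorem not_four_one (hboth : ¬ (IsConj (induce Ω J v) (induce Ω J ⟨z, hzC⟩) ∧
      IsConj (induce Ω J v) (induce Ω J ⟨z, hzC⟩ * induce Ω J v))) : False := by
  classical
  haveI := S.faithful
  haveI : Fact (Nat.Prime 2) := ⟨Nat.prime_two⟩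
  haveI : Nonempty ↥(fixPts Ω J) := ⟨D.fa⟩
  obtain ⟨hy2, hya, hyu, hyua, hyu2, hswap⟩ := B.swap_facts S hz hzC
  have D' := B.inv
  have hstab := B.stab
  have hlift := fun g => B.lift_swap S hz hzC g
  set u := induce Ω J v with hu
  set y := induce Ω J ⟨z, hzC⟩ with hy
  have hevenF : Even (Nat.card ↥(fixPts Ω J)) := by rw [card_fixPts]; exact D.even_fixCard heven
  obtain ⟨x₀, hx₀, hx₀a⟩ := D'.exists_conj_swap
  have hx₀2 := D'.orderOf_of_conj hx₀
  have hone : ∀ x y', IsConj u x → x • D.fa = D.fb → IsConj u y' → y' • D.fa = D.fb → x = y' := by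
    intro x y' hx hxa hy' hya'
    rcases hswap x (D'.orderOf_of_conj hx) hxa with e | e <;>
      rcases hswap y' (D'.orderOf_of_conj hy') hya' with e' | e'
    · rw [e, e']
    · exact absurd ⟨e ▸ hx, e' ▸ hy'⟩ hboth
    · exact absurd ⟨e' ▸ hy', e ▸ hx⟩ hboth
    · rw [e, e']
  obtain ⟨w, hw2, hwn, hwa, hwcases⟩ : ∃ w, orderOf w = 2 ∧ ¬ IsConj u w ∧ w • D.fa = D.fb ∧ (w = y ∨ w = y * u) := by
    by_cases h : IsConj u y
    · exact ⟨y * u, hyu2, fun h' => hboth ⟨h, h'⟩, hyua, Or.inr rfl⟩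
    · exact ⟨y, hy2, h, hya, Or.inl rfl⟩
  have hother : ∀ x y', orderOf x = 2 → ¬ IsConj u x → x • D.fa = D.fb → orderOf y' = 2 → ¬ IsConj u y' →
      y' • D.fa = D.fb → x = y' := by
    intro x y' hx hxn hxa hy' hyn hya'
    rcases hswap x₀ hx₀2 hx₀a with e₀ | e₀ <;> rcases hswap x hx hxa with e | e <;>
      rcases hswap y' hy' hya' with e' | e'
    all_goals first
      | exact e.trans e'.symm
      | exact absurd ((congrArg (IsConj u) (e.trans e₀.symm)).mpr hx₀) hxn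
      | exact absurd ((congrArg (IsConj u) (e'.trans e₀.symm)).mpr hx₀) hyn
  obtain ⟨m, N, R, hm, -, hi, hN⟩ := D'.translations_of_two hstab hevenF hone hother hw2 hwn hwa
  haveI := R.normal
  rw [card_fixPts] at hi
  set W := liftSub J N with hW
  have hnz : ∀ g : ↥(Cent J), induce Ω J g ∈ N → induce Ω J g ≠ 1 → (g : G) * g = 1 := by
    intro g hg hg1
    obtain ⟨ho, hnc⟩ := hN _ hg hg1
    have hne : D.fa ≠ induce Ω J g • D.fa := fun e => hg1 (R.free _ hg _ e.symm)
    obtain ⟨x, hx1, hx2⟩ := exists_smul_pair D'.two hne D'.ne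
    change x • D.fa = D.fa at hx1
    change x • induce Ω J g • D.fa = D.fb at hx2
    obtain ⟨x', rfl⟩ := induce_surjective J x
    have he : induce Ω J (x' * g * x'⁻¹) = y ∨ induce Ω J (x' * g * x'⁻¹) = y * u := by
      rw [map_mul, map_mul, map_inv]
      refine hswap _ ((orderOf_conj_eq _ _).trans ho) ?_
      rw [mul_smul, mul_smul, show (induce Ω J x')⁻¹ • D.fa = D.fa by rw [inv_smul_eq_iff, hx1], hx2]
    obtain ⟨-, -, -, -, h⟩ := hlift _ he
    calc (g : G) * g = (x' : G)⁻¹ * (((x' * g * x'⁻¹ : ↥(Cent J)) : G) * ((x' * g * x'⁻¹ : ↥(Cent J)) : G)) * x' := by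
          show _ = (x' : G)⁻¹ * ((x' : G) * g * (x' : G)⁻¹ * ((x' : G) * g * (x' : G)⁻¹)) * x'
          group
      _ = 1 := by rw [h]; group
  have hJ2 := mul_self_of_orderOf D.ordJ
  have hexp : ∀ x ∈ W, x * x = 1 := by
    intro x hx
    obtain ⟨hxC, hxN⟩ := mem_liftSub.1 hx
    rcases eq_or_ne (induce Ω J ⟨x, hxC⟩) 1 with e | e
    · rcases B.ker _ e with h | h
      · rw [show x = 1 from h, one_mul]
      · rw [show x = J from h, hJ2]
    · exact hnz ⟨x, hxC⟩ hxN e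
  have hcomm := comm_of_exp_two hexp
  have hWc : Nat.card ↥W = 2 * (2 ^ m * 2 ^ m) := by rw [hW, card_liftSub, B.card_ker, R.card, card_fixPts, hi]
  have hJW : J ∈ W := mem_liftSub.2 ⟨Subgroup.mem_centralizer_singleton_iff.2 rfl, by
    rw [show induce Ω J ⟨J, Subgroup.mem_centralizer_singleton_iff.2 rfl⟩ = 1 from
      (induce_eq_one_iff _).2 fun c hc => hc]
    exact one_mem _⟩
  have hvv := mul_self_of_orderOf B.ord
  have hvi := inv_of_orderOf B.ord
  have hvn : (v : G) ∈ Subgroup.normalizer (W : Set G) := cent_le_normalizer_liftSub N v.2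
  have hvW : ∀ x ∈ W, (v : G) * x * v ∈ W := fun x hx => by
    have := (Subgroup.mem_normalizer_iff.1 hvn x).1 hx
    rwa [hvi] at this
  -- the squares avoid `J`
  have hnoJ : ∀ x ∈ W, x * ((v : G) * x * v) ≠ J := by
    intro x hx he
    obtain ⟨hxC, hxN⟩ := mem_liftSub.1 hx
    have hxv : (v : G) * x * v = x * J := by
      calc (v : G) * x * v = (x * x) * ((v : G) * x * v) := by rw [hexp x hx, one_mul]
        _ = x * J := by rw [mul_assoc, he]
    rcases eq_or_ne (induce Ω J ⟨x, hxC⟩) 1 with e | e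
    · rcases B.ker _ e with h | h
      · rw [show x = 1 from h, mul_one, hvv, one_mul] at hxv
        simpa [← hxv] using D.ordJ
      · rw [show x = J from h, B.comm_J, mul_assoc, hvv, hJ2, mul_one] at hxv
        simpa [hxv] using D.ordJ
    · have hd : x • a ≠ a := fun h => e (R.free _ hxN D.fa (Subtype.ext h))
      have hxo : orderOf x = 2 := orderOf_two_of (hexp x hx) fun h => hd (by rw [h, one_smul])
      have hva : (v : G) • a = a := (mem_pairStab.1 B.memH).1
      have hvd : (v : G) • x • a = x • a := by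
        calc (v : G) • x • a = ((v : G) * x * v) • a := by rw [mul_smul, mul_smul, hva]
          _ = x • a := by rw [hxv, mul_smul, D.smul_a]
      have hc := S.swap_commute hz (Ne.symm hd) hxo rfl hvv hva hvd
      rw [show (v : G) * x * v = x by rw [← hc, mul_assoc, hvv, mul_one]] at hxv
      have : J = 1 := (mul_left_cancel (a := x) (by rw [mul_one]; exact hxv.symm))
      simpa [this] using D.ordJ
  set Z := Subgroup.zpowers (v : G) with hZ
  set T := Z ⊔ W with hT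
  have hZn : Z ≤ Subgroup.normalizer (W : Set G) := Subgroup.zpowers_le.2 hvn
  have hWp : IsPGroup 2 ↥W := IsPGroup.of_card (n := m + m + 1) (by rw [hWc]; ring)
  have hTp : IsPGroup 2 ↥T := (IsPGroup.of_card (n := 1) (by rw [Nat.card_zpowers, B.ord, pow_one]) :
    IsPGroup 2 ↥Z).to_sup_of_normal_right' hWp hZn
  have hvnW : (v : G) ∉ W := fun h => by
    obtain ⟨hvC, hvN⟩ := mem_liftSub.1 h
    exact B.one_ne (R.free _ hvN D.fa (Subtype.ext (mem_pairStab.1 B.memH).1))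
  obtain ⟨P, hP⟩ := exists_sylow_eq hTp (by
    intro hd
    obtain ⟨t, ht⟩ := IsPGroup.iff_card.1 hTp
    have hlt : Nat.card ↥W < Nat.card ↥T := lt_of_le_of_ne
      (Nat.le_of_dvd Nat.card_pos (Subgroup.card_dvd_of_le le_sup_right)) fun h => hvnW
        ((Subgroup.eq_of_le_of_card_ge (le_sup_right : W ≤ T) h.ge).symm ▸
          (le_sup_left : Z ≤ T) (Subgroup.mem_zpowers _))
    rw [hWc, ht, ← pow_add, ← pow_succ'] at hlt
    have hlt' := (Nat.pow_lt_pow_iff_right (show 1 < 2 by norm_num)).1 hlt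
    have h4 := S.two_part_four D hn heven (k := m + m) ((by
      rw [ht, show 8 * 2 ^ (m + m) = 2 ^ (m + m + 2 + 1) by ring, ← pow_succ']
      exact pow_dvd_pow 2 (by omega) : 8 * 2 ^ (m + m) ∣ 2 * Nat.card ↥T).trans hd)
    rw [hi, ← pow_add] at h4
    have := (Nat.pow_dvd_pow_iff_le_right (show 1 < 2 by norm_num)).1 h4
    omega)
  have hform : ∀ t ∈ T, ∃ x ∈ W, t = x ∨ t = x * v := by
    intro t ht
    have ht' : t ∈ W ⊔ Z := by rw [sup_comm]; exact ht
    have hset := Subgroup.coe_mul_of_right_le_normalizer_left W Z hZn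
    rw [← SetLike.mem_coe, hset, Set.mem_mul] at ht'
    obtain ⟨x, hx, y', hy', rfl⟩ := ht'
    refine ⟨x, hx, ?_⟩
    rw [SetLike.mem_coe, hZ, ← mem_powers_iff_mem_zpowers] at hy'
    obtain ⟨k, rfl⟩ := hy'
    rcases Nat.even_or_odd k with ⟨q, rfl⟩ | ⟨q, rfl⟩
    · left; show x * (v : G) ^ (q + q) = x; rw [← two_mul, pow_mul, pow_two, hvv, one_pow, mul_one]
    · right; show x * (v : G) ^ (2 * q + 1) = x * v
      rw [pow_succ, pow_mul, pow_two, hvv, one_pow, one_mul]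
  have hsq : ∀ t ∈ T, ∃ x ∈ W, t * t = x * ((v : G) * x * v) := by
    intro t ht
    obtain ⟨x, hx, rfl | rfl⟩ := hform t ht
    · exact ⟨1, one_mem _, by rw [hexp _ hx, mul_one, one_mul, hvv]⟩
    · exact ⟨x, hx, by group⟩
  obtain ⟨x, hx, hxne⟩ : ∃ x ∈ W, x * ((v : G) * x * v) ≠ 1 := by
    by_contra hcon
    push Not at hcon
    refine B.one_ne ((induce_eq_one_iff v).2 fun c hc => ?_)
    obtain ⟨q, hq, hqc⟩ := R.trans D.fa ⟨c, hc⟩
    obtain ⟨q', rfl⟩ := induce_surjective J q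
    have hq'c : (q' : G) • a = c := congrArg Subtype.val hqc
    have hq'W : (q' : G) ∈ W := mem_liftSub.2 ⟨q'.2, hq⟩
    have h1 := hcon _ hq'W
    have h2 : (v : G) * (q' : G) * v = q' := by
      calc (v : G) * (q' : G) * v = ((q' : G) * q') * ((v : G) * q' * v) := by rw [hexp _ hq'W, one_mul]
        _ = q' := by rw [mul_assoc (q' : G), h1, mul_one]
    have h3 : (v : G) * q' = q' * v := by
      conv_rhs => rw [← h2, mul_assoc, hvv, mul_one]
    rw [← hq'c, ← mul_smul, h3, mul_smul, (mem_pairStab.1 B.memH).1]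
  set d := x * ((v : G) * x * v) with hd
  have hdW : d ∈ W := mul_mem hx (hvW x hx)
  have hdv : (v : G) * d = d * v := by
    have h1 := hcomm x hx _ (hvW x hx)
    calc (v : G) * d = ((v : G) * x * v) * x * v := by rw [hd]; group
      _ = d * v := by rw [← h1, ← hd]
  have hJv := B.comm_J
  have hcen : ∀ g : G, g ∈ W → g * v = v * g → g ∈ Subgroup.centralizer (T : Set G) := by
    intro g hg hgv
    refine Subgroup.mem_centralizer_iff.2 fun t ht => ?_
    obtain ⟨x', hx', rfl | rfl⟩ := hform t ht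
    · exact hcomm _ hx' g hg
    · rw [mul_assoc, ← hgv, ← mul_assoc, hcomm _ hx' g hg, mul_assoc]
  have hPs : (P : Set G) = (T : Set G) := congrArg SetLike.coe hP
  obtain ⟨g, hg⟩ := isConj_iff.1 (S.isConj_four D hz h1 h2 (orderOf_two_of (hexp d hdW) hxne))
  obtain ⟨n, hn', e⟩ := P.conj_eq_normalizer_conj_of_mem_centralizer J g⁻¹
    (by rw [hPs]; exact hcen J hJW hJv.symm) (by rw [inv_inv, hg, hPs]; exact hcen d hdW hdv.symm)
  rw [inv_inv, hg] at e
  have hn'' : n ∈ Subgroup.normalizer (T : Set G) := hPs ▸ hn'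
  have hxvT : x * (v : G) ∈ T :=
    mul_mem ((le_sup_right : W ≤ T) hx) ((le_sup_left : Z ≤ T) (Subgroup.mem_zpowers _))
  obtain ⟨x', hx', he'⟩ := hsq _ ((Subgroup.mem_normalizer_iff.1 hn'' _).1 hxvT)
  refine hnoJ x' hx' ?_
  rw [← he']
  calc n * (x * v) * n⁻¹ * (n * (x * v) * n⁻¹) = n * d * n⁻¹ := by rw [hd]; group
    _ = J := by rw [e]; group

/-- Both swapping images conjugate. -/
theorem not_four_two (hc1 : IsConj (induce Ω J v) (induce Ω J ⟨z, hzC⟩))
    (hc2 : IsConj (induce Ω J v) (induce Ω J ⟨z, hzC⟩ * induce Ω J v)) : False := by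
  classical
  haveI := S.faithful
  haveI : Fact (Nat.Prime 2) := ⟨Nat.prime_two⟩
  obtain ⟨-, hya, hyu, -, -, hswap⟩ := B.swap_facts S hz hzC
  have D' := B.inv
  have hevenF : Even (Nat.card ↥(fixPts Ω J)) := by rw [card_fixPts]; exact D.even_fixCard heven
  have hne : induce Ω J ⟨z, hzC⟩ ≠ induce Ω J ⟨z, hzC⟩ * induce Ω J v := fun h => B.one_ne (by simpa using h.symm)
  obtain ⟨m, T', hm, hjm, hT'c, hexp', huT', hN'⟩ := D'.sylow_two B.stab hc1 hya hyu hc2 hswap hne hevenF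
  have hdeg := D'.degree_two_conj B.stab hc1 hya hyu hc2 hswap hne
  rw [card_fixPts, hjm] at hdeg
  have hall : ∀ g : ↥(Cent J), induce Ω J g ∈ T' → (g : G) * g = 1 := by
    intro g hg
    rcases eq_or_ne (induce Ω J g) 1 with e | e
    · rcases B.ker _ e with h | h
      · rw [h, one_mul]
      · rw [h, mul_self_of_orderOf D.ordJ]
    · exact B.sq_of_conj S g (D'.all_conj B.stab hc1 hya hyu hc2 hswap (orderOf_two_of (hexp' _ hg) e))
  set j := 2 ^ m with hjdef
  have hj2le : 2 ≤ j := by rw [hjdef]; exact (Nat.le_of_eq (pow_one 2).symm).trans (Nat.pow_le_pow_right (by norm_num) hm)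
  set T := liftSub J T' with hT
  have hexp : ∀ x ∈ T, x * x = 1 := fun x hx => by
    obtain ⟨hxC, hxT⟩ := mem_liftSub.1 hx
    exact hall ⟨x, hxC⟩ hxT
  have hTc : Nat.card ↥T = 4 * j := by rw [hT, card_liftSub, B.card_ker, hT'c]; ring
  obtain ⟨P, hP⟩ := exists_sylow_eq (IsPGroup.of_card (n := m + 2) (by rw [hTc, hjdef]; ring) : IsPGroup 2 ↥T) (by
    rw [hTc, ← mul_assoc, show 2 * 4 = 8 from rfl, hjdef]
    intro hd
    have h4 := S.two_part_four D hn heven hd
    rw [hdeg, pow_succ, ← hjdef] at h4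
    have := Nat.dvd_of_mul_dvd_mul_left (show 0 < j by omega) h4
    omega)
  haveI : IsMulCommutative ↥(P : Subgroup G) := ⟨⟨fun x y => Subtype.ext
    (comm_of_exp_two hexp _ (hP ▸ x.2) _ (hP ▸ y.2))⟩⟩
  have hJT : J ∈ T := mem_liftSub.2 ⟨Subgroup.mem_centralizer_singleton_iff.2 rfl, by
    rw [show induce Ω J ⟨J, Subgroup.mem_centralizer_singleton_iff.2 rfl⟩ = 1 from
      (induce_eq_one_iff _).2 fun c hc => hc]
    exact one_mem _⟩
  have hJ1 : J ≠ 1 := fun h => by simpa [h] using D.ordJ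
  set NT := Subgroup.normalizer (T : Set G) with hNT
  have hcount := card_orbit_mul NT (fun x => x ∈ T ∧ x ≠ 1) ⟨hJT, hJ1⟩
    (fun n hn' x hx => ⟨(Subgroup.mem_normalizer_iff.1 hn' x).1 hx.1, fun h => hx.2 (conj_eq_one_iff.1 h)⟩)
    fun x hx => by
      obtain ⟨g, hg⟩ := isConj_iff.1 (S.isConj_four D hz h1 h2 (orderOf_two_of (hexp x hx.1) hx.2))
      obtain ⟨n, hn', e⟩ := P.conj_eq_normalizer_conj_of_mem J g⁻¹ (hP.ge hJT) (hP.ge (by
        rw [inv_inv, hg]; exact hx.1))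
      refine ⟨n⁻¹, ?_, ?_⟩
      · show n⁻¹ ∈ Subgroup.normalizer (T : Set G)
        rw [← hP]; exact inv_mem hn'
      · rw [inv_inv] at e ⊢
        rw [← hg, e]
  have hmemT : ∀ g : ↥(Cent J), (g : G) ∈ T ↔ induce Ω J g ∈ T' := fun g =>
    ⟨fun h => by obtain ⟨h', he⟩ := mem_liftSub.1 h; exact he, fun h => mem_liftSub.2 ⟨g.2, h⟩⟩
  have hK : NT ⊓ Cent J = liftSub J (Subgroup.normalizer (T' : Set ↥(inducedPerm Ω J))) := by
    ext g
    constructor
    · rintro ⟨hgN, hgC⟩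
      refine mem_liftSub.2 ⟨hgC, Subgroup.mem_normalizer_iff.2 fun q => ?_⟩
      obtain ⟨q', rfl⟩ := induce_surjective J q
      rw [← map_inv, ← map_mul, ← map_mul, ← hmemT, ← hmemT]
      exact Subgroup.mem_normalizer_iff.1 hgN q'
    · intro hg
      obtain ⟨hgC, hgN⟩ := mem_liftSub.1 hg
      refine ⟨Subgroup.mem_normalizer_iff.2 fun q => ⟨fun hq => ?_, fun hq => ?_⟩, hgC⟩
      · have hqC := liftSub_le_cent _ hq
        have h := (Subgroup.mem_normalizer_iff.1 hgN _).1 ((hmemT ⟨q, hqC⟩).1 hq)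
        rw [← map_inv, ← map_mul, ← map_mul, ← hmemT] at h
        exact h
      · have hqC : q ∈ Cent J := by
          have := mul_mem (mul_mem (inv_mem hgC) (liftSub_le_cent _ hq)) hgC
          rwa [show g⁻¹ * (g * q * g⁻¹) * g = q by group] at this
        refine (hmemT ⟨q, hqC⟩).2 ((Subgroup.mem_normalizer_iff.1 hgN _).2 ?_)
        rw [← map_inv, ← map_mul, ← map_mul, ← hmemT]
        exact hq
  rw [hK, card_liftSub, B.card_ker, hN'] at hcount
  have hoc : Nat.card {x // x ∈ T ∧ x ≠ 1} = 4 * j - 1 := by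
    have := Fintype.ofFinite G
    have hT2 := hTc
    rw [Nat.card_eq_fintype_card, Fintype.card_subtype] at hT2 ⊢
    rw [show (Finset.univ.filter fun x => x ∈ T ∧ x ≠ 1) = (Finset.univ.filter fun x => x ∈ T).erase 1 by
      ext x; simp [and_comm], Finset.card_erase_of_mem (by simp [one_mem]), hT2]
  rw [hoc] at hcount
  have hd := mul_dvd_mul_left 3 (Subgroup.card_subgroup_dvd_card NT)
  rw [hcount, S.card_G_four D hn, hdeg] at hd
  have hi1 : j * (2 * j - 1) - 1 = (2 * j + 1) * (j - 1) := by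
    obtain ⟨q, hq⟩ : ∃ q, j = q + 2 := ⟨j - 2, by omega⟩
    rw [hq, show 2 * (q + 2) - 1 = 2 * q + 3 by omega, show q + 2 - 1 = q + 1 by omega]
    have : (q + 2) * (2 * q + 3) = (2 * (q + 2) + 1) * (q + 1) + 1 := by ring
    omega
  rw [hi1, show 4 * (j * (2 * j - 1)) = 4 * j * (2 * j - 1) by ring,
    show 3 * ((4 * j - 1) * (2 * ((2 * j - 1) * (j * (j - 1) * 2)))) =
      (4 * j * (2 * j - 1) * (j - 1)) * (3 * (4 * j - 1)) by ring,
    show 4 * j * (2 * j - 1) * ((2 * j + 1) * (j - 1)) *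
        ((4 * j * (2 * j - 1) - 1) * (4 * j * (2 * j - 1) + 3)) =
      (4 * j * (2 * j - 1) * (j - 1)) * ((2 * j + 1) * ((4 * j * (2 * j - 1) - 1) * (4 * j * (2 * j - 1) + 3))) by ring]
    at hd
  have hd2 := (dvd_mul_left (4 * j - 1) 3).trans (Nat.dvd_of_mul_dvd_mul_left
    (Nat.mul_pos (Nat.mul_pos (by omega) (by omega)) (by omega)) hd)
  have h45 : 4 * j - 1 ∣ 45 := by
    have e1 : 1 ≤ 4 * j := by omega
    have e2 : 1 ≤ 2 * j := by omega
    have e3 : 1 ≤ 4 * j * (2 * j - 1) := Nat.mul_pos (by omega) (by omega)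
    have hdZ := Int.natCast_dvd_natCast.2 hd2
    push_cast [e1, e2, e3] at hdZ
    have h := (dvd_mul_right ((4 : ℤ) * j - 1)
      ((4 * (j : ℤ) - 1) ^ 4 + 3 * (4 * (j : ℤ) - 1) ^ 3 + 2 * (4 * (j : ℤ) - 1) ^ 2 + 6 * (4 * (j : ℤ) - 1) - 15)).sub
      (hdZ.mul_left 8)
    refine Int.natCast_dvd_natCast.1 ?_
    push_cast [e1]
    have e45 : (45 : ℤ) = (4 * (j : ℤ) - 1) * ((4 * (j : ℤ) - 1) ^ 4 + 3 * (4 * (j : ℤ) - 1) ^ 3 +
        2 * (4 * (j : ℤ) - 1) ^ 2 + 6 * (4 * (j : ℤ) - 1) - 15) -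
        8 * ((2 * (j : ℤ) + 1) * ((4 * (j : ℤ) * (2 * (j : ℤ) - 1) - 1) * (4 * (j : ℤ) * (2 * (j : ℤ) - 1) + 3))) := by
      ring
    rw [e45]
    exact h
  have hle := Nat.le_of_dvd (by norm_num) h45
  have hm4 : m < 4 := by
    by_contra hcon
    push Not at hcon
    have := Nat.pow_le_pow_right (show 0 < 2 by norm_num) hcon
    rw [← hjdef] at this
    norm_num at this
    omega
  obtain rfl : m = 2 := by
    interval_cases m
    · rw [hjdef] at h45; norm_num at h45
    · rfl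
    · rw [hjdef] at h45; norm_num at h45
  have hj4 : j = 4 := by rw [hjdef]; rfl
  rw [hj4] at hcount hTc hdeg hjm hT'c
  have hi28 : fixCard Ω J = 28 := by rw [hdeg]
  have hC5 : ∀ x ∈ T, x ≠ 1 → ∀ g ∈ NT, g * x = x * g → orderOf g ≠ 5 := by
    intro x hx hx1 g _ hg h5
    obtain ⟨h, hh⟩ := isConj_iff.1 (S.isConj_four D hz h1 h2 (orderOf_two_of (hexp x hx) hx1))
    have hm : h⁻¹ * g * h ∈ Cent J := Subgroup.mem_centralizer_singleton_iff.2 (by
      calc h⁻¹ * g * h * J = h⁻¹ * (g * (h * J * h⁻¹)) * h := by group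
        _ = h⁻¹ * (x * g) * h := by rw [hh, hg]
        _ = _ := by rw [← hh]; group)
    have hd := Subgroup.orderOf_dvd_natCard _ hm
    rw [S.card_cent_four D, hi28, show orderOf (h⁻¹ * g * h) = 5 by simpa using (orderOf_conj_eq h⁻¹ g).trans h5] at hd
    norm_num at hd
  refine not_5040 (T := T) (N := NT) Subgroup.le_normalizer le_rfl hTc hcount hexp hC5 fun f _ hf => ?_
  by_contra hall'
  push Not at hall'
  have hfJ := hall' J hJT
  have hvT : (v : G) ∈ T := (hmemT v).2 huT'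
  set f' : ↥(Cent J) := ⟨f, Subgroup.mem_centralizer_singleton_iff.2 hfJ⟩
  have hfc : induce Ω J f' ∈ Cent (induce Ω J v) := Subgroup.mem_centralizer_singleton_iff.2 (by
    rw [← map_mul, ← map_mul, show f' * v = v * f' from Subtype.ext (hall' _ hvT)])
  have h24 : Nat.card ↥(Cent (induce Ω J v)) = 24 := by
    rw [D'.card_cent, hjm, show Nat.card ↥(pairStab D.fa D.fb ⊓ Cent (induce Ω J v) :
      Subgroup ↥(inducedPerm Ω J)) = 2 by
      rw [← D'.card_stab_two B.stab, show (pairStab D.fa D.fb ⊓ Cent (induce Ω J v) : Subgroup ↥(inducedPerm Ω J)) =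
        pairStab D.fa D.fb from inf_eq_left.2 fun x hx => by
          rcases B.stab x hx with rfl | rfl
          · exact one_mem _
          · exact Subgroup.mem_centralizer_singleton_iff.2 rfl]]
  have hd24 := Subgroup.orderOf_dvd_natCard _ hfc
  rw [h24] at hd24
  have hd7 : orderOf (induce Ω J f') ∣ 7 :=
    (orderOf_map_dvd _ f').trans (dvd_of_eq ((Subgroup.orderOf_mk f _).trans hf))
  have h1' : induce Ω J f' = 1 := orderOf_eq_one_iff.1
    (Nat.eq_one_of_dvd_coprimes (show (24 : ℕ).Coprime 7 by norm_num) hd24 hd7)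
  rcases B.ker _ h1' with h | h
  · rw [show f = 1 from h, orderOf_one] at hf; norm_num at hf
  · rw [show f = J from h, D.ordJ] at hf; norm_num at hf

omit B in
/-- No such group. -/
theorem not_four_even : False := by
  by_cases hA : CaseA a b J
  · exact S.not_four_even_caseA D hz h1 h2 hn heven hA
  · obtain ⟨v, B⟩ := S.exists_bData D hA
    have hzC : z ∈ Cent J := Subgroup.mem_centralizer_singleton_iff.2 (hz.2.2 J D.memJ)
    by_cases hb : IsConj (induce Ω J v) (induce Ω J ⟨z, hzC⟩) ∧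
        IsConj (induce Ω J v) (induce Ω J ⟨z, hzC⟩ * induce Ω J v)
    · exact S.not_four_two D hz h1 h2 hn heven B hzC hb.1 hb.2
    · exact S.not_four_one D hz h1 h2 hn heven B hzC hb

end Setting

end CfsgLib.KimuraFour
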