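import Cfsg.Agent.Lib.Perm.KimuraFour.BData

/-!
# Even degree, `3 n = i (i + 2)`: no such group
-/

set_option autoImplicit false

namespace CfsgLib.KimuraFour

open MulAction

variable {G : Type*} [Group G] [Finite G] {Ω : Type*} [MulAction G Ω] [Finite Ω] {a b : Ω} {J : G}

local notation "Cent" J:max => Subgroup.centralizer (Singleton.singleton J : Set _)

namespace Setting

variable (S : Setting G Ω a b) (D : InvData G Ω a b J) {z : G} (hz : CenSwap a b z) (h1 : IsConj J z)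
  (h2 : ¬ IsConj J (z * J))

include S D hz h2

/-- The products of the central swap with the involutions of the stabiliser are not conjugate to `J`. -/
theorem not_conj_mul_one {w : G} (hw : w ∈ (pairStab a b : Subgroup G)) (hw2 : orderOf w = 2) :
    ¬ IsConj J (z * w) :=
  fun e => h2 (e.trans (S.censwap_mul_conj hz hw hw2 D.memJ D.ordJ))

/-- In case B no swap of the induced group would be conjugate to the image of `v`. -/
theorem not_one_caseB (hB : ¬ CaseA a b J) : False := by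
  obtain ⟨v, B⟩ := S.exists_bData D hB
  have hzC : z ∈ Cent J := Subgroup.mem_centralizer_singleton_iff.2 (hz.2.2 J D.memJ)
  obtain ⟨-, -, -, -, -, hswap⟩ := B.swap_facts S hz hzC
  obtain ⟨x, hx, hxa⟩ := B.inv.exists_conj_swap
  rcases hswap x (B.inv.orderOf_of_conj hx) hxa with rfl | rfl
  · refine h2 (B.isConj_of_conj S (⟨z, hzC⟩ * ⟨J, Subgroup.mem_centralizer_singleton_iff.2 rfl⟩) ?_)
    rw [map_mul, show induce Ω J ⟨J, Subgroup.mem_centralizer_singleton_iff.2 rfl⟩ = 1 from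
      (induce_eq_one_iff _).2 fun c hc => hc, mul_one]
    exact hx
  · refine S.not_conj_mul_one D hz h2 B.memH B.ord (B.isConj_of_conj S (⟨z, hzC⟩ * v) ?_)
    rw [map_mul]
    exact hx

variable (hn : 3 * Nat.card Ω = fixCard Ω J * (fixCard Ω J + 2)) (heven : Even (Nat.card Ω))

include h1 hn heven

/-- In case A the normaliser of the preimage of the translations has no possible order. -/
theorem not_one_caseA (hA : CaseA a b J) : False := by
  classical
  haveI := S.faithful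
  haveI : Fact (Nat.Prime 2) := ⟨Nat.prime_two⟩
  obtain ⟨k, N, R, hk0, hk, -, hinv⟩ := D.even_induced (D.even_fixCard heven) (S.sharp_of_caseA D hA)
  haveI := R.normal
  haveI : Nonempty ↥(fixPts Ω J) := ⟨D.fa⟩
  have hk2 : 2 ≤ k := by
    by_contra hcon
    obtain rfl : k = 1 := by omega
    rw [hk] at hn
    norm_num at hn
    omega
  have hzC : z ∈ Cent J := Subgroup.mem_centralizer_singleton_iff.2 (hz.2.2 J D.memJ)
  have hzN : z ∈ liftSub J N := mem_liftSub.2 ⟨hzC, hinv _ (by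
    rw [← map_mul, show (⟨z, hzC⟩ : ↥(Cent J)) * ⟨z, hzC⟩ = 1 from Subtype.ext (mul_self_of_orderOf hz.1), map_one])⟩
  set T := liftSub J N with hT
  set V : Subgroup G := pairStab a b ⊓ Cent J with hV
  have hT2 := S.liftSub_caseA D hA R hz hzN
  have hJV : J ∈ V := ⟨D.memJ, Subgroup.mem_centralizer_singleton_iff.2 rfl⟩
  have hVmem : ∀ {w : G}, w ∈ (pairStab a b : Subgroup G) → w * w = 1 → w ∈ V := fun hw hw2 =>
    ⟨hw, (S.mem_cent_iff D hw).2 hw2⟩
  have hVsq : ∀ {w : G}, w ∈ V → w * w = 1 := fun hw => (S.mem_cent_iff D hw.1).1 hw.2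
  have hmemT : ∀ x : G, x ∈ T ↔ x * x = 1 ∧ ∀ w ∈ V, x * w = w * x := by
    refine fun x => ⟨hT2 x, fun ⟨hx2, hxV⟩ => ?_⟩
    have hxC : x ∈ Cent J := Subgroup.mem_centralizer_singleton_iff.2 (hxV J hJV)
    exact mem_liftSub.2 ⟨hxC, hinv _ (by
      rw [← map_mul, show (⟨x, hxC⟩ : ↥(Cent J)) * ⟨x, hxC⟩ = 1 from Subtype.ext hx2, map_one])⟩
  have hVT : V ≤ T := fun w hw => (hmemT w).2 ⟨hVsq hw, fun u hu =>
    (S.inv_mul hw.1 (hVsq hw) hu.1 (hVsq hu)).1⟩
  set NT := Subgroup.normalizer (T : Set G) with hNT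
  have hCN : Cent J ≤ NT := cent_le_normalizer_liftSub N
  have hHN : (pairStab a b : Subgroup G) ≤ NT := by
    have key : ∀ g ∈ (pairStab a b : Subgroup G), ∀ x ∈ T, g * x * g⁻¹ ∈ T := by
      intro g hg x hx
      obtain ⟨hx2, hxV⟩ := (hmemT x).1 hx
      refine (hmemT _).2 ⟨by rw [show g * x * g⁻¹ * (g * x * g⁻¹) = g * (x * x) * g⁻¹ by group, hx2]; group,
        fun w hw => ?_⟩
      have hw' : g⁻¹ * w * g ∈ V := hVmem (mul_mem (mul_mem (inv_mem hg) hw.1) hg) (by
        rw [show g⁻¹ * w * g * (g⁻¹ * w * g) = g⁻¹ * (w * w) * g by group, hVsq hw]; group)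
      calc g * x * g⁻¹ * w = g * (x * (g⁻¹ * w * g)) * g⁻¹ := by group
        _ = g * ((g⁻¹ * w * g) * x) * g⁻¹ := by rw [hxV _ hw']
        _ = _ := by group
    intro g hg
    refine Subgroup.mem_normalizer_iff.2 fun x => ⟨key g hg x, fun hx => ?_⟩
    have := key g⁻¹ (inv_mem hg) _ hx
    rwa [show g⁻¹ * (g * x * g⁻¹) * g⁻¹⁻¹ = x by group] at this
  -- the conjugates of `J` in `T` outside the four-group
  have hout : ∀ x ∈ T, IsConj J x → x ∉ V →
      ∃ g ∈ Cent J, g • a = a ∧ x = g * z * g⁻¹ ∧ ∀ w ∈ V, w ≠ 1 → ¬ IsConj J (x * w) := by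
    intro x hx hxc hxV
    rcases D.liftSub_form R hzN hz.2.1 hx with h | ⟨g, hg, hga, k', hk', hkfix, hxe⟩
    · exact absurd ((S.ker_iff_caseA D hA).1 ⟨liftSub_le_cent N hx, h⟩) hxV
    have hkV := (S.ker_iff_caseA D hA).1 ⟨hk', hkfix⟩
    have hne : ∀ w ∈ V, w ≠ 1 → ¬ IsConj J (g * z * g⁻¹ * w) := by
      intro w hw hw1 hc
      have hw' := S.conj_four_caseA D hA (inv_mem hg) hw
      rw [inv_inv] at hw'
      refine S.not_conj_mul_one D hz h2 hw'.1 (orderOf_two_of (hVsq hw') fun e => hw1 ?_)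
        (hc.trans (isConj_iff.2 ⟨g⁻¹, by group⟩))
      calc w = g * (g⁻¹ * w * g) * g⁻¹ := by group
        _ = 1 := by rw [e]; group
    have hk1 : k' = 1 := by
      by_contra hk1
      exact hne k' hkV hk1 (hxe ▸ hxc)
    rw [hk1, mul_one] at hxe
    exact ⟨g, hg, hga, hxe, hxe ▸ hne⟩
  have hcard : Nat.card {x : G // x ∈ T ∧ IsConj J x ∧ x ∉ V} + 1 = 2 ^ k := by
    have := Fintype.ofFinite Ω
    have h1' : ∀ x : {x : G // x ∈ T ∧ IsConj J x ∧ x ∉ V}, J • (x.1 • a) = x.1 • a ∧ x.1 • a ≠ a := by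
      rintro ⟨x, hxT, hxc, hxV⟩
      refine ⟨smul_mem_fix (liftSub_le_cent N hxT) D.smul_a, fun e => ?_⟩
      obtain ⟨g, -, hga, he, -⟩ := hout x hxT hxc hxV
      change x • a = a at e
      rw [he, mul_smul, mul_smul, show g⁻¹ • a = a by rw [inv_smul_eq_iff, hga], hz.2.1] at e
      exact S.ne.symm ((MulAction.injective g) (e.trans hga.symm))
    have e : {x : G // x ∈ T ∧ IsConj J x ∧ x ∉ V} ≃ {c : Ω // J • c = c ∧ c ≠ a} := by
      refine Equiv.ofBijective (fun x => ⟨x.1 • a, h1' x⟩) ⟨?_, ?_⟩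
      · rintro ⟨x, hxT, hxc, hxV⟩ ⟨y, hyT, hyc, hyV⟩ h
        have hxy : x • a = y • a := congrArg Subtype.val h
        obtain ⟨g, -, -, -, hnc⟩ := hout x hxT hxc hxV
        have hxy' : (x⁻¹ * y) • a = a := by rw [mul_smul, ← hxy, inv_smul_smul]
        have hm : x⁻¹ * y ∈ T := mul_mem (inv_mem hxT) hyT
        obtain ⟨hmC, hmN⟩ := mem_liftSub.1 hm
        have h1 : induce Ω J ⟨x⁻¹ * y, hmC⟩ = 1 := R.free _ hmN D.fa (Subtype.ext hxy')
        have hV' := (S.ker_iff_caseA D hA).1 ⟨hmC, (induce_eq_one_iff _).1 h1⟩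
        apply Subtype.ext
        show x = y
        by_contra hne
        exact hnc _ hV' (fun e => hne (inv_mul_eq_one.1 e)) (by rw [mul_inv_cancel_left]; exact hyc)
      · rintro ⟨c, hc, hca⟩
        obtain ⟨g, hg, hga, hgb⟩ := D.exists_centralizing D.smul_a D.smul_b D.smul_a hc S.ne (Ne.symm hca)
        have he : (g * z * g⁻¹) • a = c := by
          rw [mul_smul, mul_smul, show g⁻¹ • a = a by rw [inv_smul_eq_iff, hga], hz.2.1, hgb]
        exact ⟨⟨g * z * g⁻¹, (Subgroup.mem_normalizer_iff.1 (hCN hg) z).1 hzN, InvData.conjClass_equivariant h1,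
          fun hV' => hca (by rw [← he]; exact (mem_pairStab.1 hV'.1).1)⟩, Subtype.ext he⟩
    rw [Nat.card_congr e, ← hk, fixCard]
    rw [Nat.card_eq_fintype_card, Nat.card_eq_fintype_card, Fintype.card_subtype, Fintype.card_subtype,
      show (Finset.univ.filter fun c => J • c = c ∧ c ≠ a) = (Finset.univ.filter fun c => J • c = c).erase a by
        ext; simp [and_comm],
      Finset.card_erase_add_one (by simp [D.smul_a])]
  have hV3 : Nat.card {x : G // x ∈ V ∧ x ≠ 1} = 3 := by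
    have := Fintype.ofFinite G
    have h4 := S.card_inf_cent D
    rw [← hV, Nat.card_eq_fintype_card, Fintype.card_subtype] at h4
    rw [Nat.card_eq_fintype_card, Fintype.card_subtype,
      show (Finset.univ.filter fun x => x ∈ V ∧ x ≠ 1) = (Finset.univ.filter fun x => x ∈ V).erase 1 by
        ext; simp [and_comm], Finset.card_erase_of_mem (Finset.mem_filter.2 ⟨Finset.mem_univ _, one_mem _⟩), h4]
  -- the orbit of `J`
  set P : G → Prop := fun x => ∃ n ∈ NT, n * J * n⁻¹ = x with hP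
  have hcount := card_orbit_mul NT P ⟨1, one_mem _, by group⟩
    (fun n hn' x ⟨m, hm, e⟩ => ⟨n * m, mul_mem hn' hm, by rw [← e]; group⟩) fun x hx => hx
  rw [inf_eq_right.2 hCN, S.card_cent_four D, hk] at hcount
  have hPT : ∀ x, P x → x ∈ T ∧ IsConj J x := fun x ⟨n, hn', e⟩ =>
    ⟨e ▸ (Subgroup.mem_normalizer_iff.1 hn' J).1 (hVT hJV), isConj_iff.2 ⟨n, e⟩⟩
  have hVP : ∀ x : G, x ∈ V → x ≠ 1 → P x := fun x hx hx1 => by
    obtain ⟨h, hh, e⟩ := S.inv_conj D.memJ D.ordJ hx.1 (orderOf_two_of (hVsq hx) hx1)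
    exact ⟨h, hHN hh, e⟩
  have hG : Nat.card G = 4 * (2 ^ k * (2 ^ k + 2)) * (Nat.card Ω - 1) := by
    rw [card_eq_pairStab S.two S.ne, S.card_H]
    rw [hk] at hn
    rw [← hn]
    ring
  have hd := Subgroup.card_subgroup_dvd_card NT
  have h3n : 3 * (Nat.card Ω - 1) = (2 ^ k - 1) * (2 ^ k + 3) := by
    rw [hk] at hn
    obtain ⟨q, hq⟩ : ∃ q, 2 ^ k = q + 1 := ⟨2 ^ k - 1, by have := Nat.one_le_two_pow (n := k); omega⟩
    rw [hq] at hn ⊢
    rw [Nat.add_sub_cancel]
    have : (q + 1) * (q + 1 + 2) = q * (q + 1 + 3) + 3 := by ring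
    omega
  by_cases hall : ∀ x, P x → x ∈ V
  · have hc : Nat.card {x : G // P x} = 3 := by
      rw [← hV3]
      exact Nat.card_congr (Equiv.subtypeEquivRight fun x =>
        ⟨fun h => ⟨hall x h, fun e => by simpa [e] using D.orderOf_of_conj (hPT x h).2⟩, fun h => hVP x h.1 h.2⟩)
    rw [hc] at hcount
    have hTc : Nat.card ↥T = 2 ^ (k + 2) := by
      rw [hT, card_liftSub, S.card_ker_caseA D hA, R.card, card_fixPts, hk]; ring
    have h8 : 2 ^ (k + 3) ∣ Nat.card G := by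
      have e2 : 2 ∣ 2 ^ k + 2 := Nat.dvd_add (dvd_pow_self 2 (by omega)) dvd_rfl
      obtain ⟨q, hq⟩ := e2
      exact ⟨q * (Nat.card Ω - 1), by rw [hG, hq]; ring⟩
    have h9 := Sylow.prime_pow_dvd_card_normalizer h8 hTc
    rw [← hNT, hcount, show 3 * (4 * (2 ^ k * (2 ^ k - 1))) = 2 ^ (k + 2) * (3 * (2 ^ k - 1)) by ring,
      show 2 ^ (k + 3) = 2 ^ (k + 2) * 2 by ring] at h9
    have h10 := Nat.dvd_of_mul_dvd_mul_left (by positivity) h9
    have he : 2 ∣ 2 ^ k := dvd_pow_self 2 (by omega)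
    have := Nat.one_le_two_pow (n := k)
    omega
  · push Not at hall
    obtain ⟨y, hyP, hyV⟩ := hall
    have hc : Nat.card {x : G // P x} = 2 ^ k + 2 := by
      have e : {x : G // P x} ≃ {x : G // (x ∈ T ∧ IsConj J x ∧ x ∉ V) ∨ (x ∈ V ∧ x ≠ 1)} := by
        refine Equiv.subtypeEquivRight fun x => ⟨fun h => ?_, fun h => ?_⟩
        · by_cases hxV : x ∈ V
          · exact Or.inr ⟨hxV, fun e => by simpa [e] using D.orderOf_of_conj (hPT x h).2⟩
          · exact Or.inl ⟨(hPT x h).1, (hPT x h).2, hxV⟩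
        · rcases h with ⟨hxT, hxc, hxV⟩ | h
          · obtain ⟨m, hm, hme⟩ := hyP
            obtain ⟨g, hg, -, he, -⟩ := hout x hxT hxc hxV
            obtain ⟨g', hg', -, he', -⟩ :=
              hout y (hPT y ⟨m, hm, hme⟩).1 (hPT y ⟨m, hm, hme⟩).2 hyV
            refine ⟨g * g'⁻¹ * m, mul_mem (mul_mem (hCN hg) (inv_mem (hCN hg'))) hm, ?_⟩
            calc g * g'⁻¹ * m * J * (g * g'⁻¹ * m)⁻¹ = g * g'⁻¹ * (m * J * m⁻¹) * g' * g⁻¹ := by group
              _ = x := by rw [hme, he', he]; group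
          · exact hVP x h.1 h.2
      rw [Nat.card_congr e, Nat.card_congr (subtypeOrEquiv _ _ (by
        rw [Pi.disjoint_iff]
        intro x
        simp only [Prop.disjoint_iff]
        rintro ⟨h, h'⟩
        exact h.2.2 h'.1)), Nat.card_sum, hV3]
      omega
    rw [hc] at hcount
    rw [hcount, hG, show (2 ^ k + 2) * (4 * (2 ^ k * (2 ^ k - 1))) = 4 * (2 ^ k * (2 ^ k + 2)) * (2 ^ k - 1) by ring]
      at hd
    obtain ⟨t, ht⟩ := Nat.dvd_of_mul_dvd_mul_left (by positivity) hd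
    rw [ht, show 3 * ((2 ^ k - 1) * t) = (2 ^ k - 1) * (3 * t) by ring] at h3n
    have h4 : 4 ≤ 2 ^ k := (Nat.pow_le_pow_right (show 0 < 2 by norm_num) hk2)
    have h5 := Nat.eq_of_mul_eq_mul_left (show 0 < 2 ^ k - 1 by omega) h3n
    have h6 : 3 ∣ 2 ^ k := ⟨t - 1, by omega⟩
    have := Nat.prime_three.dvd_of_dvd_pow h6
    norm_num at this

/-- No group in case one. -/
theorem not_one_even : False := by
  by_cases hA : CaseA a b J
  · exact S.not_one_caseA D hz h1 h2 hn heven hA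
  · exact S.not_one_caseB D hz h2 hA

end Setting

end CfsgLib.KimuraFour
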