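import Cfsg.Agent.Lib.Perm.KimuraFour.Basic
import Mathlib.GroupTheory.Sylow
import Mathlib.FieldTheory.Finite.Basic

/-!
# Normalisers of subgroups of prime order
-/

set_option autoImplicit false

namespace CfsgLib.KimuraFour

variable {G : Type*} [Group G] [Finite G] {p : ℕ} {w : G}

theorem exists_zpow_of_mem_normalizer {x : G} (hx : x ∈ Subgroup.normalizer (Subgroup.zpowers w : Set G)) :
    ∃ s : ℤ, x * w * x⁻¹ = w ^ s := by
  obtain ⟨s, hs⟩ := Subgroup.mem_zpowers_iff.1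
    ((Subgroup.mem_normalizer_iff.1 hx w).1 (Subgroup.mem_zpowers w))
  exact ⟨s, hs.symm⟩

/-- An element normalising a subgroup of prime order `p`, of order prime to `p - 1`, centralises it. -/
theorem commute_of_coprime_pred (hp : p.Prime) (hw : orderOf w = p) {x : G}
    (hx : x ∈ Subgroup.normalizer (Subgroup.zpowers w : Set G)) (hcop : (orderOf x).Coprime (p - 1)) :
    x * w = w * x := by
  haveI := Fact.mk hp
  obtain ⟨s, hs⟩ := exists_zpow_of_mem_normalizer hx
  have key : ∀ n : ℕ, x ^ n * w * (x ^ n)⁻¹ = w ^ (s ^ n) := by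
    intro n
    induction n with
    | zero => simp
    | succ n ih =>
      calc x ^ (n + 1) * w * (x ^ (n + 1))⁻¹ = x ^ n * (x * w * x⁻¹) * (x ^ n)⁻¹ := by rw [pow_succ]; group
        _ = x ^ n * w ^ s * (x ^ n)⁻¹ := by rw [hs]
        _ = (x ^ n * w * (x ^ n)⁻¹) ^ s := conj_zpow.symm
        _ = _ := by rw [ih, ← zpow_mul, pow_succ]
  have h1 := key (orderOf x)
  rw [pow_orderOf_eq_one, one_mul, inv_one, mul_one] at h1
  have h2 : (p : ℤ) ∣ s ^ orderOf x - 1 := by
    rw [← hw]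
    refine orderOf_dvd_iff_zpow_eq_one.2 ?_
    rw [zpow_sub_one, ← h1, mul_inv_cancel]
  have h3 : ((s : ZMod p)) ^ orderOf x = 1 := by
    have h4 := (ZMod.intCast_zmod_eq_zero_iff_dvd (s ^ orderOf x - 1) p).2 h2
    push_cast at h4
    exact sub_eq_zero.1 h4
  have hs0 : (s : ZMod p) ≠ 0 := fun h => by
    rw [h, zero_pow (orderOf_pos x).ne'] at h3
    exact zero_ne_one h3
  have h5 := orderOf_dvd_of_pow_eq_one h3
  have h6 := orderOf_dvd_of_pow_eq_one (ZMod.pow_card_sub_one_eq_one hs0)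
  have h7 : (s : ZMod p) = 1 := orderOf_eq_one_iff.1 (Nat.eq_one_of_dvd_coprimes hcop h5 h6)
  have h8 : (p : ℤ) ∣ s - 1 := (ZMod.intCast_zmod_eq_zero_iff_dvd (s - 1) p).1 (by push_cast; rw [h7, sub_self])
  rw [← hw] at h8
  have h9 : w ^ (s - 1) = 1 := orderOf_dvd_iff_zpow_eq_one.1 h8
  rw [zpow_sub_one, mul_inv_eq_one] at h9
  exact mul_inv_eq_iff_eq_mul.1 (hs.trans h9)

/-- A four-group normalising a subgroup of prime order has an involution centralising it. -/
theorem exists_involution_commute (hp : p.Prime) (hw : orderOf w = p) {W : Subgroup G} (hW : Nat.card ↥W = 4)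
    (hexp : ∀ u ∈ W, u * u = 1) (hn : W ≤ Subgroup.normalizer (Subgroup.zpowers w : Set G)) :
    ∃ u ∈ W, orderOf u = 2 ∧ u * w = w * u := by
  classical
  have hcase : ∀ u ∈ W, u * w * u⁻¹ = w ∨ u * w * u⁻¹ = w⁻¹ := by
    intro u hu
    obtain ⟨s, hs⟩ := exists_zpow_of_mem_normalizer (hn hu)
    have h2 : w ^ (s * s) = w := by
      calc w ^ (s * s) = (u * w * u⁻¹) ^ s := by rw [hs, zpow_mul]
        _ = u * (u * w * u⁻¹) * u⁻¹ := by rw [conj_zpow, hs]
        _ = (u * u) * w * (u * u)⁻¹ := by group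
        _ = w := by rw [hexp u hu]; group
    have h : ((p : ℤ)) ∣ (s - 1) * (s + 1) := by
      rw [← hw]
      refine orderOf_dvd_iff_zpow_eq_one.2 ?_
      rw [show (s - 1) * (s + 1) = s * s + -1 by ring, zpow_add, h2, zpow_neg_one, mul_inv_cancel]
    rcases (Nat.prime_iff_prime_int.1 hp).dvd_or_dvd h with h | h
    · left
      have h1 : w ^ (s - 1) = 1 := orderOf_dvd_iff_zpow_eq_one.1 (by rw [hw]; exact h)
      rw [zpow_sub_one, mul_inv_eq_one] at h1
      rw [hs, h1]
    · right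
      have h1 : w ^ (s + 1) = 1 := orderOf_dvd_iff_zpow_eq_one.1 (by rw [hw]; exact h)
      rw [zpow_add_one] at h1
      rw [hs, eq_inv_of_mul_eq_one_left h1]
  have := Fintype.ofFinite G
  have h4 : (Finset.univ.filter fun u => u ∈ W).card = 4 := by
    rw [← hW, Nat.card_eq_fintype_card, Fintype.card_subtype]
  have h3 : ((Finset.univ.filter fun u => u ∈ W).erase 1).card = 3 := by
    rw [Finset.card_erase_of_mem (Finset.mem_filter.2 ⟨Finset.mem_univ _, one_mem _⟩), h4]
  obtain ⟨x, hx, y, hy, hxy⟩ := Finset.one_lt_card.1 (show 1 < ((Finset.univ.filter fun u => u ∈ W).erase 1).card by omega)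
  simp only [Finset.mem_erase, Finset.mem_filter, Finset.mem_univ, true_and] at hx hy
  have hord : ∀ u ∈ W, u ≠ 1 → orderOf u = 2 := fun u hu h1 => orderOf_two_of (hexp u hu) h1
  rcases hcase x hx.2 with e | e
  · exact ⟨x, hx.2, hord x hx.2 hx.1, mul_inv_eq_iff_eq_mul.1 e⟩
  rcases hcase y hy.2 with e' | e'
  · exact ⟨y, hy.2, hord y hy.2 hy.1, mul_inv_eq_iff_eq_mul.1 e'⟩
  refine ⟨x * y, mul_mem hx.2 hy.2, hord _ (mul_mem hx.2 hy.2) fun h => hxy ?_, mul_inv_eq_iff_eq_mul.1 ?_⟩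
  · rw [eq_inv_of_mul_eq_one_left h, inv_eq_of_mul_eq_one_right (hexp y hy.2)]
  · calc x * y * w * (x * y)⁻¹ = x * (y * w * y⁻¹) * x⁻¹ := by group
      _ = (x * w * x⁻¹)⁻¹ := by rw [e']; group
      _ = w := by rw [e, inv_inv]

/-- The Sylow count of a prime dividing the order once. -/
theorem prime_normalizer_data [Fact p.Prime] {o : ℕ} (hG : Nat.card G = p * o) (ho : ¬ p ∣ o) :
    ∃ (w : G) (n : ℕ), orderOf w = p ∧ n % p = 1 ∧
      Nat.card ↥(Subgroup.normalizer (Subgroup.zpowers w : Set G)) * n = Nat.card G ∧ n ∣ o ∧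
      n = Nat.card (Sylow p G) ∧ ∀ x : G, orderOf x = p → ∃ g : G, g * x * g⁻¹ ∈ Subgroup.zpowers w := by
  have hp : p.Prime := Fact.out
  obtain ⟨w, hw⟩ := exists_prime_orderOf_dvd_card' (G := G) p (hG ▸ dvd_mul_right p o)
  obtain ⟨P, hP⟩ := (IsPGroup.of_card (p := p) (n := 1) (G := ↥(Subgroup.zpowers w))
    (by rw [Nat.card_zpowers, hw, pow_one])).exists_le_sylow
  have hPc : Nat.card ↥(P : Subgroup G) = p := by
    rw [P.card_eq_multiplicity, hG, Nat.factorization_mul hp.ne_zero (show o ≠ 0 from fun h => ho (by rw [h]; exact dvd_zero p)),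
      Finsupp.add_apply, hp.factorization_self, Nat.factorization_eq_zero_of_not_dvd ho, add_zero, pow_one]
  have hPw : (P : Subgroup G) = Subgroup.zpowers w :=
    (Subgroup.eq_of_le_of_card_ge hP (by rw [hPc, Nat.card_zpowers, hw])).symm
  refine ⟨w, Nat.card (Sylow p G), hw, ?_, ?_, ?_, rfl, fun x hx => ?_⟩
  · have h := card_sylow_modEq_one p G
    rw [Nat.ModEq, Nat.one_mod_eq_one.2 hp.ne_one] at h
    exact h
  · rw [← hPw, Sylow.card_eq_index_normalizer P]
    exact Subgroup.card_mul_index _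
  · have h1 : p ∣ Nat.card ↥(Subgroup.normalizer (Subgroup.zpowers w : Set G)) := by
      have := Subgroup.card_dvd_of_le (Subgroup.le_normalizer (H := Subgroup.zpowers w))
      rwa [Nat.card_zpowers, hw] at this
    obtain ⟨t, ht⟩ := h1
    have h2 := Subgroup.card_mul_index (Subgroup.normalizer (Subgroup.zpowers w : Set G))
    rw [ht, hG, show (Subgroup.normalizer (Subgroup.zpowers w : Set G)).index = Nat.card (Sylow p G) by
      rw [← hPw]; exact (Sylow.card_eq_index_normalizer P).symm, mul_assoc] at h2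
    exact ⟨t, by rw [← Nat.eq_of_mul_eq_mul_left hp.pos h2]; ring⟩
  · obtain ⟨Q, hQ⟩ := (IsPGroup.of_card (p := p) (n := 1) (G := ↥(Subgroup.zpowers x))
      (by rw [Nat.card_zpowers, hx, pow_one])).exists_le_sylow
    obtain ⟨g, hg⟩ := MulAction.exists_smul_eq G Q P
    refine ⟨g, ?_⟩
    rw [← hPw, ← hg, Sylow.coe_subgroup_smul]
    exact ⟨x, hQ (Subgroup.mem_zpowers x), rfl⟩

end CfsgLib.KimuraFour
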