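import Cfsg.Agent.Lib.Perm.KimuraFour.ThreeInverted
import Cfsg.Agent.Lib.Perm.KimuraFour.PrimeNormalizer

/-!
# Degree `q ^ 2`, the small values of `q`
-/

set_option autoImplicit false

namespace CfsgLib.KimuraFour

open MulAction

variable {G : Type*} [Group G] [Finite G] {Ω : Type*} [MulAction G Ω] [Finite Ω] {a b : Ω} {J : G}
  {N : Subgroup G} {k : ℕ}

local notation "Cent" J:max => Subgroup.centralizer (Singleton.singleton J : Set _)

namespace ThreeData

variable (T : ThreeData G Ω a b J N k)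

include T

/-- The square of an element of exponent four fixing `a` is trivial. -/
theorem sq_of_pow_four {x : G} (hx : x ∈ stabilizer G a) (h : x ^ 4 = 1) : x * x = 1 := by
  by_contra hne
  obtain ⟨L, hL⟩ := T.exists_lData
  obtain ⟨g, hga, hg⟩ := T.exists_conj (mul_mem hx hx)
    (orderOf_two_of (by rw [← h, pow_succ, pow_succ, pow_two]; group) hne)
  have hyy : g⁻¹ * x * g * (g⁻¹ * x * g) = J := by
    calc g⁻¹ * x * g * (g⁻¹ * x * g) = g⁻¹ * (x * x) * g := by group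
      _ = J := by rw [← hg]; group
  have hyC : g⁻¹ * x * g ∈ centPt a J := ⟨Subgroup.mul_mem _ (Subgroup.mul_mem _ (Subgroup.inv_mem _ hga) hx) hga,
    Subgroup.mem_centralizer_singleton_iff.2 (by rw [← hyy]; group)⟩
  obtain ⟨w, hw, l, hl, e⟩ := T.decomp' hL hyC
  have hm : J ∈ L := by
    rw [← hyy, e]
    have hw2 : w * w = 1 := (T.setting.mem_cent_iff T.invData hw.1).1 hw.2
    have h1 := hL.norm w (T.four_le hw) l hl
    rw [inv_eq_of_mul_eq_one_right hw2] at h1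
    rw [show w * l * (w * l) = w * l * w * l by group]
    exact mul_mem h1 hl
  exact T.odd_mem hL hm (T.invData.ordJ ▸ dvd_rfl)

/-- A subgroup of the point stabiliser of order divisible by four contains a four-group. -/
theorem exists_four {S : Subgroup ↥(stabilizer G a)} (h : 4 ∣ Nat.card ↥S) :
    ∃ W : Subgroup ↥(stabilizer G a), W ≤ S ∧ Nat.card ↥W = 4 ∧ ∀ u ∈ W, u * u = 1 := by
  haveI : Fact (Nat.Prime 2) := ⟨Nat.prime_two⟩
  obtain ⟨R, hR⟩ := Sylow.exists_subgroup_card_pow_prime 2 (n := 2) (G := ↥S) (by simpa using h)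
  have hc : Nat.card ↥(R.map S.subtype) = 4 := by
    rw [← Nat.card_congr (R.equivMapOfInjective _ S.subtype_injective).toEquiv, hR]; rfl
  refine ⟨R.map S.subtype, Subgroup.map_subtype_le _, hc, fun u hu => Subtype.ext (T.sq_of_pow_four u.2 ?_)⟩
  have h1 : (⟨u, hu⟩ : ↥(R.map S.subtype)) ^ Nat.card ↥(R.map S.subtype) = 1 := pow_card_eq_one'
  rw [hc] at h1
  exact congrArg (fun y : ↥(R.map S.subtype) => ((y : ↥(stabilizer G a)) : G)) h1

/-- No involution fixing `a` commutes with an element of a large prime order. -/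
theorem no_commute {p : ℕ} (hp : p.Prime) (hp2 : p ≠ 2) (hd : ¬ p ∣ 2 ^ k - 1) {u w : ↥(stabilizer G a)}
    (hu : orderOf u = 2) (hw : orderOf w = p) (huw : u * w = w * u) : False := by
  rw [← Subgroup.orderOf_coe] at hu hw
  have huw' : (u : G) * w = (w : G) * u := congrArg Subtype.val huw
  obtain ⟨g, hga, hg⟩ := T.exists_conj u.2 hu
  have hm : g⁻¹ * (w : G) * g ∈ centPt a J :=
    ⟨Subgroup.mul_mem _ (Subgroup.mul_mem _ (Subgroup.inv_mem _ hga) w.2) hga,
      Subgroup.mem_centralizer_singleton_iff.2 (by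
        calc g⁻¹ * (w : G) * g * J = g⁻¹ * ((w : G) * (g * J * g⁻¹)) * g := by group
          _ = g⁻¹ * ((u : G) * w) * g := by rw [hg, huw']
          _ = _ := by rw [← hg]; group)⟩
  have h1 := Subgroup.orderOf_dvd_natCard _ hm
  rw [T.card_centPt, show orderOf (g⁻¹ * (w : G) * g) = p by simpa using (orderOf_conj_eq g⁻¹ (w : G)).trans hw] at h1
  rcases hp.dvd_mul.1 h1 with h | h
  · exact hp2 ((Nat.prime_dvd_prime_iff_eq hp Nat.prime_two).1 (hp.dvd_of_dvd_pow (show p ∣ 2 ^ 2 from h)))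
  · exact hd h

/-- A subgroup of prime order normalised by four-groups gives a contradiction. -/
theorem not_four_dvd_normalizer {p : ℕ} (hp : p.Prime) (hp2 : p ≠ 2) (hd : ¬ p ∣ 2 ^ k - 1)
    {w : ↥(stabilizer G a)} (hw : orderOf w = p) :
    ¬ 4 ∣ Nat.card ↥(Subgroup.normalizer (Subgroup.zpowers w : Set ↥(stabilizer G a))) := by
  intro h
  obtain ⟨W, hW, hW4, hW2⟩ := T.exists_four h
  obtain ⟨u, -, hu, huw⟩ := exists_involution_commute hp hw hW4 hW2 hW
  exact T.no_commute hp hp2 hd hu hw huw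

/-- `q = 2` is impossible. -/
theorem not_two (hk : k = 1) : False := by
  haveI := T.setting.faithful
  have h := Nat.card_le_card_of_injective (MulAction.toPermHom G Ω) MulAction.toPerm_injective
  rw [T.card_G, Nat.card_perm, T.deg, hk] at h
  norm_num [Nat.factorial] at h

/-- `q = 64` is impossible. -/
theorem not_sixty_four (hk : k = 6) : False := by
  classical
  obtain ⟨L, hL⟩ := T.exists_lData
  haveI : Fact (Nat.Prime 7) := ⟨by norm_num⟩
  haveI : Fact (Nat.Prime 13) := ⟨by norm_num⟩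
  have hLc : Nat.card ↥L = 63 := by rw [hL.card, hk]; rfl
  obtain ⟨ρ', hρ'⟩ := exists_prime_orderOf_dvd_card' (G := ↥L) 7 (hLc ▸ by norm_num)
  set H := stabilizer G a with hH
  have hHc : Nat.card ↥H = 49140 := by rw [hH, T.card_stab, hk]; rfl
  set ρ : ↥H := ⟨(ρ' : G), (hL.le ρ'.2).1⟩ with hρ
  have hρo : orderOf ρ = 7 := by rw [hρ, Subgroup.orderOf_mk, Subgroup.orderOf_coe, hρ']
  obtain ⟨w₀, n, hw₀, hn7, hcount, -, hsy, hall⟩ := prime_normalizer_data (p := 7) (o := 7020) hHc (by norm_num)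
  obtain ⟨g, hg⟩ := hall ρ hρo
  have hcentρ : ∀ x : ↥H, (x : G) ∈ centPt a J → x ∈ Subgroup.normalizer (Subgroup.zpowers ρ : Set ↥H) := by
    intro x hx
    obtain ⟨s, hs⟩ := T.conj_rho hL (by norm_num : Nat.Prime 7) ρ'.2
      (show orderOf (ρ' : G) = 7 by rw [Subgroup.orderOf_coe, hρ']) hx
    refine Subgroup.mem_normalizer_fintype fun y hy => ?_
    obtain ⟨i, rfl⟩ := Subgroup.mem_zpowers_iff.1 hy
    rw [← conj_zpow, show x * ρ * x⁻¹ = ρ ^ s from Subtype.ext hs, ← zpow_mul]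
    exact Subgroup.zpow_mem _ (Subgroup.mem_zpowers ρ) _
  -- the normaliser of `ρ` has the same order as that of `w₀`
  have hzeq : Subgroup.zpowers (g * ρ * g⁻¹) = Subgroup.zpowers w₀ := Subgroup.eq_of_le_of_card_ge
    (Subgroup.zpowers_le.2 hg) (by rw [Nat.card_zpowers, Nat.card_zpowers, hw₀, orderOf_conj_eq, hρo])
  have hcard : Nat.card ↥(Subgroup.normalizer (Subgroup.zpowers ρ : Set ↥H)) =
      Nat.card ↥(Subgroup.normalizer (Subgroup.zpowers w₀ : Set ↥H)) := by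
    have h1 := Subgroup.map_equiv_normalizer_eq (Subgroup.zpowers ρ) (MulAut.conj g)
    rw [MonoidHom.map_zpowers, show (MulAut.conj g).toMonoidHom ρ = g * ρ * g⁻¹ from rfl, hzeq] at h1
    rw [← h1]
    exact Nat.card_congr (Subgroup.equivMapOfInjective _ _ (MulAut.conj g).injective).toEquiv
  have h252 : 252 ∣ Nat.card ↥(Subgroup.normalizer (Subgroup.zpowers ρ : Set ↥H)) := by
    have h1 : Nat.card ↥((centPt a J).subgroupOf H) = 252 := by
      rw [Nat.card_congr (Subgroup.subgroupOfEquivOfLe inf_le_left).toEquiv, T.card_centPt, hk]; rfl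
    rw [← h1]
    exact Subgroup.card_dvd_of_le fun x hx => hcentρ x hx
  rw [hcard] at h252
  have hn195 : n ∣ 195 := by
    obtain ⟨t, ht⟩ := h252
    rw [ht, hHc] at hcount
    exact ⟨t, Nat.eq_of_mul_eq_mul_left (show 0 < 252 by norm_num) (by norm_num; linarith)⟩
  have hn : n = 1 ∨ n = 15 := by
    have key : ∀ m ∈ Nat.divisors 195, m % 7 = 1 → m = 1 ∨ m = 15 := by decide +kernel
    exact key n (Nat.mem_divisors.2 ⟨hn195, by norm_num⟩) hn7
  have h13 : 13 ∣ Nat.card ↥(Subgroup.normalizer (Subgroup.zpowers ρ : Set ↥H)) := by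
    rw [hcard]
    rw [hHc] at hcount
    rcases hn with rfl | rfl <;> omega
  obtain ⟨w, hw⟩ := exists_prime_orderOf_dvd_card' (G := ↥(Subgroup.normalizer (Subgroup.zpowers ρ : Set ↥H))) 13 h13
  have hwo : orderOf (w : ↥H) = 13 := by rw [Subgroup.orderOf_coe, hw]
  have hwρ : (w : ↥H) * ρ = ρ * w :=
    commute_of_coprime_pred (by norm_num : Nat.Prime 7) hρo w.2 (by rw [hwo]; norm_num)
  obtain ⟨w₁, n', hw₁, hn13, hcount', -, -, hall'⟩ :=
    prime_normalizer_data (p := 13) (o := 3780) hHc (by norm_num)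
  obtain ⟨g', hg'⟩ := hall' w hwo
  have hzeq' : Subgroup.zpowers (g' * (w : ↥H) * g'⁻¹) = Subgroup.zpowers w₁ := Subgroup.eq_of_le_of_card_ge
    (Subgroup.zpowers_le.2 hg') (by rw [Nat.card_zpowers, Nat.card_zpowers, hw₁, orderOf_conj_eq, hwo])
  have hρN : g' * ρ * g'⁻¹ ∈ Subgroup.normalizer (Subgroup.zpowers w₁ : Set ↥H) := by
    rw [← hzeq']
    refine Subgroup.mem_normalizer_fintype fun y hy => ?_
    obtain ⟨i, rfl⟩ := Subgroup.mem_zpowers_iff.1 hy
    have e : g' * ρ * g'⁻¹ * (g' * (w : ↥H) * g'⁻¹) * (g' * ρ * g'⁻¹)⁻¹ = g' * (w : ↥H) * g'⁻¹ := by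
      calc _ = g' * (ρ * (w : ↥H) * ρ⁻¹) * g'⁻¹ := by group
        _ = _ := by rw [← hwρ, mul_inv_cancel_right]
    rw [← conj_zpow, e]
    exact Subgroup.zpow_mem _ (Subgroup.mem_zpowers _) _
  have h7 : 7 ∣ Nat.card ↥(Subgroup.normalizer (Subgroup.zpowers w₁ : Set ↥H)) := by
    rw [← hρo, ← orderOf_conj_eq g' ρ]
    exact Subgroup.orderOf_dvd_natCard _ hρN
  have h13' : 13 ∣ Nat.card ↥(Subgroup.normalizer (Subgroup.zpowers w₁ : Set ↥H)) := by
    rw [← hw₁]
    exact Subgroup.orderOf_dvd_natCard _ (Subgroup.le_normalizer (Subgroup.mem_zpowers w₁))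
  have h91 : 7 * 13 ∣ Nat.card ↥(Subgroup.normalizer (Subgroup.zpowers w₁ : Set ↥H)) :=
    Nat.Coprime.mul_dvd_of_dvd_of_dvd (by norm_num) h7 h13'
  have hn540 : n' ∣ 540 := by
    obtain ⟨t, ht⟩ := h91
    rw [ht, hHc] at hcount'
    exact ⟨t, Nat.eq_of_mul_eq_mul_left (show 0 < 91 by norm_num) (by norm_num; linarith)⟩
  have hn' : n' = 1 ∨ n' = 27 := by
    have key : ∀ m ∈ Nat.divisors 540, m % 13 = 1 → m = 1 ∨ m = 27 := by decide +kernel
    exact key n' (Nat.mem_divisors.2 ⟨hn540, by norm_num⟩) hn13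
  refine T.not_four_dvd_normalizer (p := 13) (by norm_num) (by norm_num) (by rw [hk]; norm_num) hw₁ ?_
  rw [hHc] at hcount'
  have key : ∀ c : ℕ, c * n' = 49140 → 4 ∣ c := fun c hc => by rcases hn' with rfl | rfl <;> omega
  exact key _ hcount'

variable {v : ↥(Cent J)} (B : BData T.invData v)

include B

/-- `q = 16` with a moving four-group is impossible. -/
theorem not_sixteen (hk : k = 4) {ρ : G} (hρ : ρ ∈ centPt a J) (hρo : orderOf ρ = 5)
    (hC : Nat.card ↥(centPt a ρ) ∣ 30) : False := by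
  classical
  haveI : Fact (Nat.Prime 17) := ⟨by norm_num⟩
  haveI : Fact (Nat.Prime 5) := ⟨by norm_num⟩
  set H := stabilizer G a with hH
  have hHc : Nat.card ↥H = 3060 := by rw [hH, T.card_stab, hk]; rfl
  obtain ⟨w, n, hw, hn17, hcount, hno, -, -⟩ := prime_normalizer_data (p := 17) (o := 180) hHc (by norm_num)
  have hn : n = 1 ∨ n = 18 := by
    have key : ∀ m ∈ Nat.divisors 180, m % 17 = 1 → m = 1 ∨ m = 18 := by decide +kernel
    exact key n (Nat.mem_divisors.2 ⟨hno, by norm_num⟩) hn17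
  rw [hHc] at hcount
  rcases hn with rfl | rfl
  · refine T.not_four_dvd_normalizer (p := 17) (by norm_num) (by norm_num) (by rw [hk]; norm_num) hw ?_
    have key : ∀ c : ℕ, c * 1 = 3060 → 4 ∣ c := fun c hc => by omega
    exact key _ hcount
  · obtain ⟨u, hu⟩ := exists_prime_orderOf_dvd_card'
      (G := ↥(Subgroup.normalizer (Subgroup.zpowers w : Set ↥H))) 5 (by omega)
    have huo : orderOf (u : ↥H) = 5 := by rw [Subgroup.orderOf_coe, hu]
    have huw : (u : ↥H) * w = w * u := commute_of_coprime_pred (by norm_num) hw u.2 (by rw [huo]; norm_num)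
    obtain ⟨w₅, -, hw₅, -, -, -, -, hall⟩ := prime_normalizer_data (p := 5) (o := 612) hHc (by norm_num)
    obtain ⟨g, hg⟩ := hall u huo
    obtain ⟨g', hg'⟩ := hall ⟨ρ, hρ.1⟩ (by rw [Subgroup.orderOf_mk, hρo])
    have heq : Subgroup.zpowers (g * (u : ↥H) * g⁻¹) = Subgroup.zpowers (g' * ⟨ρ, hρ.1⟩ * g'⁻¹) :=
      (Subgroup.eq_of_le_of_card_ge (Subgroup.zpowers_le.2 hg)
        (by rw [Nat.card_zpowers, Nat.card_zpowers, hw₅, orderOf_conj_eq, huo])).trans
      (Subgroup.eq_of_le_of_card_ge (Subgroup.zpowers_le.2 hg')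
        (by rw [Nat.card_zpowers, Nat.card_zpowers, hw₅, orderOf_conj_eq, Subgroup.orderOf_mk, hρo])).symm
    obtain ⟨i, hi⟩ := Subgroup.mem_zpowers_iff.1 (heq.symm ▸ Subgroup.mem_zpowers (g' * (⟨ρ, hρ.1⟩ : ↥H) * g'⁻¹))
    set x : ↥H := g'⁻¹ * (g * w * g⁻¹) * g' with hx
    have hc : x * ⟨ρ, hρ.1⟩ = ⟨ρ, hρ.1⟩ * x := by
      have h1 : Commute (g * w * g⁻¹) ((g * (u : ↥H) * g⁻¹) ^ i) := by
        refine Commute.zpow_right ?_ i
        show g * w * g⁻¹ * (g * (u : ↥H) * g⁻¹) = g * (u : ↥H) * g⁻¹ * (g * w * g⁻¹)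
        calc g * w * g⁻¹ * (g * (u : ↥H) * g⁻¹) = g * (w * (u : ↥H)) * g⁻¹ := by group
          _ = _ := by rw [← huw]; group
      rw [hi] at h1
      calc x * ⟨ρ, hρ.1⟩ = g'⁻¹ * ((g * w * g⁻¹) * (g' * ⟨ρ, hρ.1⟩ * g'⁻¹)) * g' := by rw [hx]; group
        _ = _ := by rw [h1.eq, hx]; group
    have hxo : orderOf (x : G) = 17 := by
      rw [Subgroup.orderOf_coe, hx]
      simpa using (orderOf_conj_eq g'⁻¹ (g * w * g⁻¹)).trans ((orderOf_conj_eq g w).trans hw)
    have h17 : 17 ∣ 30 := by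
      have h1 := Subgroup.orderOf_dvd_natCard (centPt a ρ)
        ⟨x.2, Subgroup.mem_centralizer_singleton_iff.2 (congrArg Subtype.val hc)⟩
      rw [hxo] at h1
      exact h1.trans hC
    norm_num at h17

end ThreeData

end CfsgLib.KimuraFour
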