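import Cfsg.Agent.Lib.Perm.KimuraFour.ThreeGenB
import Cfsg.Agent.Lib.Perm.KimuraFour.ThreeSmall

/-!
# Degree sixteen: a central element of order three; the four-group fixes the fixed points of `J`
-/

set_option autoImplicit false

namespace CfsgLib.KimuraFour

open MulAction

variable {G : Type*} [Group G] [Finite G] {Ω : Type*} [MulAction G Ω] [Finite Ω] {a b : Ω} {J : G}
  {N : Subgroup G} {k : ℕ}

local notation "Cent" J:max => Subgroup.centralizer (Singleton.singleton J : Set _)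

/-- An element of order five normalising a group of order four centralises it. -/
theorem commute_of_five {X : Type*} [Group X] [Finite X] {W : Subgroup X} (hW : Nat.card ↥W = 4) {g : X}
    (hg : orderOf g = 5) (hn : g ∈ Subgroup.normalizer (W : Set X)) {u : X} (hu : u ∈ W) : g * u = u * g := by
  classical
  let f : ↥(Subgroup.normalizer (W : Set X)) →* Equiv.Perm ↥W :=
    (MulEquiv.toEquiv_injective : Function.Injective (MulEquiv.toEquiv (M := ↥W) (N := ↥W))) |> fun _ =>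
    { toFun := fun x => (MulAut.conjNormal (G := ↥(Subgroup.normalizer (W : Set X)))
          (H := W.subgroupOf (Subgroup.normalizer (W : Set X))) x).toEquiv |> fun e =>
            ((Subgroup.subgroupOfEquivOfLe Subgroup.le_normalizer).toEquiv.symm.trans e).trans
              (Subgroup.subgroupOfEquivOfLe Subgroup.le_normalizer).toEquiv
      map_one' := by ext; simp
      map_mul' := fun x y => by ext; simp }
  have hd : orderOf (f ⟨g, hn⟩) ∣ 5 := (orderOf_map_dvd f _).trans (by rw [Subgroup.orderOf_mk, hg])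
  have hd' : orderOf (f ⟨g, hn⟩) ∣ 24 := by
    have := orderOf_dvd_natCard (f ⟨g, hn⟩)
    rw [Nat.card_perm, hW] at this
    exact this
  have h1 : f ⟨g, hn⟩ = 1 := orderOf_eq_one_iff.1 (Nat.eq_one_of_dvd_coprimes (by norm_num : Nat.Coprime 5 24) hd hd')
  have h2 : g * u * g⁻¹ = u := by
    have h3 := congrArg (fun σ : Equiv.Perm ↥W => ((σ ⟨u, hu⟩ : ↥W) : X)) h1
    simpa [f, MulAut.conjNormal_apply] using h3
  exact mul_inv_eq_iff_eq_mul.1 h2

namespace ThreeData

variable (T : ThreeData G Ω a b J N k)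

include T

theorem exists_central_of_six_sylow (hk : k = 2) {w : ↥(stabilizer G a)} (hw : orderOf w = 5)
    (hN : Nat.card ↥(Subgroup.normalizer (Subgroup.zpowers w : Set ↥(stabilizer G a))) = 30)
    (hsix : Nat.card (Sylow 5 ↥(stabilizer G a)) = 6) :
    ∃ y : ↥(stabilizer G a), orderOf y = 3 ∧ ∀ x, x * y = y * x := by
  classical
  haveI : Fact (Nat.Prime 5) := ⟨by norm_num⟩
  haveI : Fact (Nat.Prime 3) := ⟨Nat.prime_three⟩
  haveI : Fact (Nat.Prime 2) := ⟨Nat.prime_two⟩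
  have hHc : Nat.card ↥(stabilizer G a) = 180 := by rw [T.card_stab, hk]; rfl
  have hPc : ∀ P : Sylow 5 ↥(stabilizer G a), Nat.card ↥(P : Subgroup ↥(stabilizer G a)) = 5 := fun P => by
    rw [P.card_eq_multiplicity, hHc, show (180 : ℕ) = 5 * 36 from rfl,
      Nat.factorization_mul (by norm_num) (by norm_num), Finsupp.add_apply,
      (by norm_num : Nat.Prime 5).factorization_self, Nat.factorization_eq_zero_of_not_dvd (by norm_num : ¬ 5 ∣ 36), add_zero, pow_one]
  have hmem : ∀ (P : Sylow 5 ↥(stabilizer G a)) (x : ↥(stabilizer G a)), orderOf x = 5 → x • P = P → (P : Subgroup ↥(stabilizer G a)) = Subgroup.zpowers x := by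
    intro P x hx hP
    have hn := Sylow.smul_eq_iff_mem_normalizer.1 hP
    have hp := (IsPGroup.of_card (p := 5) (n := 1) (G := ↥(Subgroup.zpowers x))
      (by rw [Nat.card_zpowers, hx, pow_one])).to_sup_of_normal_right' P.isPGroup' (Subgroup.zpowers_le.2 hn)
    have h1 := P.is_maximal' hp le_sup_right
    exact (Subgroup.eq_of_le_of_card_ge ((le_sup_left : Subgroup.zpowers x ≤ _).trans h1.le)
      (by rw [hPc, Nat.card_zpowers, hx])).symm
  obtain ⟨P₀, hP₀⟩ : ∃ P : Sylow 5 ↥(stabilizer G a), (P : Subgroup ↥(stabilizer G a)) = Subgroup.zpowers w := by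
    obtain ⟨P, hP⟩ := (IsPGroup.of_card (p := 5) (n := 1) (G := ↥(Subgroup.zpowers w))
      (by rw [Nat.card_zpowers, hw, pow_one])).exists_le_sylow
    exact ⟨P, (Subgroup.eq_of_le_of_card_ge hP (by rw [hPc, Nat.card_zpowers, hw])).symm⟩
  have hP₀s : (P₀ : Set ↥(stabilizer G a)) = (Subgroup.zpowers w : Set ↥(stabilizer G a)) :=
    congrArg SetLike.coe hP₀
  have honly : ∀ P : Sylow 5 ↥(stabilizer G a), w • P = P → P = P₀ := fun P hP => Sylow.ext ((hmem P w hw hP).trans hP₀.symm)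
  -- an element of order three normalising every Sylow subgroup
  obtain ⟨y', hy'⟩ := exists_prime_orderOf_dvd_card'
    (G := ↥(Subgroup.normalizer (Subgroup.zpowers w : Set ↥(stabilizer G a)))) 3 (hN ▸ by norm_num)
  set y : ↥(stabilizer G a) := (y' : ↥(stabilizer G a)) with hy
  have hyo : orderOf y = 3 := by rw [hy, Subgroup.orderOf_coe, hy']
  have hyw : y * w = w * y := commute_of_coprime_pred (by norm_num) hw y'.2 (by rw [hyo]; norm_num)
  have hyP₀ : y • P₀ = P₀ := Sylow.smul_eq_iff_mem_normalizer.2 (by rw [hP₀s]; exact y'.2)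
  have hyall : ∀ P : Sylow 5 ↥(stabilizer G a), y • P = P := by
    have := Fintype.ofFinite (Sylow 5 ↥(stabilizer G a))
    have h3 := Equiv.Perm.card_compl_support_modEq (p := 3) (n := 1)
      (σ := (MulAction.toPerm y : Equiv.Perm (Sylow 5 ↥(stabilizer G a)))) (by
        rw [pow_one, show (MulAction.toPerm y : Equiv.Perm (Sylow 5 ↥(stabilizer G a))) = MulAction.toPermHom ↥(stabilizer G a) _ y from rfl,
          ← map_pow, ← hyo, pow_orderOf_eq_one, map_one])
    rw [← Nat.card_eq_fintype_card, hsix] at h3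
    have hP₀m : P₀ ∈ (MulAction.toPerm y : Equiv.Perm (Sylow 5 ↥(stabilizer G a))).supportᶜ :=
      Finset.mem_compl.2 (Equiv.Perm.notMem_support.2 hyP₀)
    obtain ⟨P₁, hP₁m, hP₁⟩ := Finset.exists_mem_ne (s := (MulAction.toPerm y : Equiv.Perm (Sylow 5 ↥(stabilizer G a))).supportᶜ)
      (by
        have h0 : 0 < (MulAction.toPerm y : Equiv.Perm (Sylow 5 ↥(stabilizer G a))).supportᶜ.card := Finset.card_pos.2 ⟨P₀, hP₀m⟩
        rw [Nat.ModEq] at h3
        omega) P₀
    have hyP₁ : y • P₁ = P₁ := Equiv.Perm.notMem_support.1 (Finset.mem_compl.1 hP₁m)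
    let f : Option (Fin 5) → Sylow 5 ↥(stabilizer G a) := fun o => o.elim P₀ fun i => w ^ (i : ℕ) • P₁
    have hfix1 : ∀ i : ℕ, ¬ 5 ∣ i → w ^ i • P₁ ≠ P₁ := by
      intro i hi he
      refine hP₁ (honly P₁ ?_)
      have hcop : (orderOf w).Coprime i := by
        rw [hw]; exact (Nat.Prime.coprime_iff_not_dvd (by norm_num)).2 hi
      obtain ⟨j, hj'⟩ := exists_pow_eq_self_of_coprime (n := i) hcop.symm
      rw [← hj']
      exact Sylow.smul_eq_iff_mem_normalizer.2 (pow_mem (Sylow.smul_eq_iff_mem_normalizer.1 he) j)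
    have hw0 : w • P₀ = P₀ := Sylow.smul_eq_iff_mem_normalizer.2
      (Subgroup.le_normalizer (show w ∈ (P₀ : Subgroup ↥(stabilizer G a)) by rw [hP₀]; exact Subgroup.mem_zpowers w))
    have hwpow0 : ∀ i : ℕ, w ^ i • P₀ = P₀ := fun i =>
      Sylow.smul_eq_iff_mem_normalizer.2 (pow_mem (Sylow.smul_eq_iff_mem_normalizer.1 hw0) i)
    have hlt : ∀ i j : Fin 5, (i : ℕ) < j → w ^ (i : ℕ) • P₁ ≠ w ^ (j : ℕ) • P₁ := by
      intro i j hij he
      refine hfix1 ((j : ℕ) - i) (fun h => ?_) (smul_left_cancel (w ^ (i : ℕ)) ?_)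
      · have := Nat.le_of_dvd (by omega) h
        omega
      · rw [← mul_smul, ← pow_add, Nat.add_sub_cancel' hij.le, he]
    have hf : Function.Injective f := by
      rintro (_ | i) (_ | j) he
      · rfl
      · exfalso
        refine hP₁ (smul_left_cancel (w ^ (j : ℕ)) ?_)
        show f (some j) = w ^ (j : ℕ) • P₀
        rw [← he, hwpow0]; rfl
      · exfalso
        refine hP₁ (smul_left_cancel (w ^ (i : ℕ)) ?_)
        show f (some i) = w ^ (i : ℕ) • P₀
        rw [he, hwpow0]; rfl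
      · rcases lt_trichotomy (i : ℕ) j with h | h | h
        · exact absurd he (hlt i j h)
        · exact congrArg some (Fin.ext h)
        · exact absurd he.symm (hlt j i h)
    intro P
    obtain ⟨o, rfl⟩ := ((Nat.bijective_iff_injective_and_card f).2 ⟨hf, by rw [hsix]; simp⟩).2 P
    rcases o with _ | i
    · exact hyP₀
    · show y • w ^ (i : ℕ) • P₁ = w ^ (i : ℕ) • P₁
      rw [← mul_smul, ((show Commute y w from hyw).pow_right (i : ℕ)).eq, mul_smul, hyP₁]
  set K := (MulAction.toPermHom ↥(stabilizer G a) (Sylow 5 ↥(stabilizer G a))).ker with hK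
  have hKmem : ∀ x : ↥(stabilizer G a), x ∈ K ↔ ∀ P : Sylow 5 ↥(stabilizer G a), x • P = P := fun x => by
    rw [hK, MonoidHom.mem_ker, Equiv.ext_iff]; rfl
  have hKle : K ≤ Subgroup.normalizer (Subgroup.zpowers w : Set ↥(stabilizer G a)) := fun x hx => by
    have := Sylow.smul_eq_iff_mem_normalizer.1 ((hKmem x).1 hx P₀)
    rwa [hP₀s] at this
  have hK5 : ¬ 5 ∣ Nat.card ↥K := by
    intro h
    obtain ⟨x, hx⟩ := exists_prime_orderOf_dvd_card' (G := ↥K) 5 h
    have hxo : orderOf (x : ↥(stabilizer G a)) = 5 := by rw [Subgroup.orderOf_coe, hx]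
    have hall : ∀ P : Sylow 5 ↥(stabilizer G a), P = P₀ := fun P => Sylow.ext
      ((hmem P x hxo ((hKmem _).1 x.2 P)).trans (hmem P₀ x hxo ((hKmem _).1 x.2 P₀)).symm)
    have : Subsingleton (Sylow 5 ↥(stabilizer G a)) := ⟨fun P Q => (hall P).trans (hall Q).symm⟩
    have := Finite.card_le_one_iff_subsingleton.2 this
    omega
  have hK6 : Nat.card ↥K ∣ 6 := by
    have h := Subgroup.card_dvd_of_le hKle
    rw [hN, show 30 = 5 * 6 from rfl] at h
    exact ((Nat.Prime.coprime_iff_not_dvd (by norm_num)).2 hK5).symm.dvd_of_dvd_mul_left h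
  have hK2 : ¬ 2 ∣ Nat.card ↥K := by
    intro h
    obtain ⟨x, hx⟩ := exists_prime_orderOf_dvd_card' (G := ↥K) 2 h
    have hxo : orderOf ((x : ↥(stabilizer G a)) : G) = 2 := by rw [Subgroup.orderOf_coe, Subgroup.orderOf_coe, hx]
    obtain ⟨g, hga, hg⟩ := T.exists_conj (x : ↥(stabilizer G a)).2 hxo
    have hinc : ∀ z : G, ∀ hz : z ∈ (stabilizer G a) ∧ orderOf z = 2, (⟨z, hz.1⟩ : ↥(stabilizer G a)) ∈ K := by
      intro z hz
      obtain ⟨g', hga', hg'⟩ := T.exists_conj hz.1 hz.2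
      have hn : K.Normal := MonoidHom.normal_ker _
      have h1 := hn.conj_mem _ x.2 (⟨g', hga'⟩ * ⟨g, hga⟩⁻¹)
      rwa [show (⟨g', hga'⟩ * ⟨g, hga⟩⁻¹ : ↥(stabilizer G a)) * (x : ↥(stabilizer G a)) * (⟨g', hga'⟩ * ⟨g, hga⟩⁻¹ : ↥(stabilizer G a))⁻¹ = ⟨z, hz.1⟩ from
        Subtype.ext (by
          show g' * g⁻¹ * ((x : ↥(stabilizer G a)) : G) * (g' * g⁻¹)⁻¹ = z
          rw [← hg, ← hg']; group)] at h1
    have h15 := Nat.card_le_card_of_injective
      (fun z : {z : G // z ∈ (stabilizer G a) ∧ orderOf z = 2} => (⟨⟨z.1, z.2.1⟩, hinc z.1 z.2⟩ : ↥K))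
      fun z z' h => Subtype.ext (congrArg (fun t : ↥K => ((t : ↥(stabilizer G a)) : G)) h :)
    rw [show Nat.card {z : G // z ∈ (stabilizer G a) ∧ orderOf z = 2} = 15 by rw [T.card_involutions, hk]; rfl] at h15
    have := Nat.le_of_dvd (by norm_num) hK6
    omega
  have hyK : y ∈ K := (hKmem y).2 hyall
  have hKeq : Subgroup.zpowers y = K := Subgroup.eq_of_le_of_card_ge (Subgroup.zpowers_le.2 hyK) (by
    rw [Nat.card_zpowers, hyo]
    exact Nat.le_of_dvd (by norm_num) (((Nat.prime_two.coprime_iff_not_dvd.2 hK2).symm).dvd_of_dvd_mul_left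
      (show Nat.card ↥K ∣ 2 * 3 from hK6)))
  obtain ⟨W, -, hW4, hW2⟩ := T.exists_four (S := ⊤) (by rw [Subgroup.card_top, hHc]; norm_num)
  haveI : K.Normal := MonoidHom.normal_ker _
  obtain ⟨u, -, hu, huy⟩ := exists_involution_commute Nat.prime_three hyo hW4 hW2
    (fun x _ => by rw [hKeq, Subgroup.normalizer_eq_top]; trivial)
  -- every involution centralises `y`
  have hall : ∀ z : ↥(stabilizer G a), orderOf z = 2 → z * y = y * z := by
    intro z hz
    obtain ⟨g, hga, hg⟩ := T.exists_conj u.2 (by rw [Subgroup.orderOf_coe, hu])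
    obtain ⟨g', hga', hg'⟩ := T.exists_conj z.2 (by rw [Subgroup.orderOf_coe, hz])
    set c : ↥(stabilizer G a) := ⟨g', hga'⟩ * ⟨g, hga⟩⁻¹ with hc
    have hcz : c * u * c⁻¹ = z := Subtype.ext (by
      show g' * g⁻¹ * (u : G) * (g' * g⁻¹)⁻¹ = z
      rw [← hg, ← hg']; group)
    obtain ⟨i, hi⟩ := Subgroup.mem_zpowers_iff.1 (show c⁻¹ * y * c⁻¹⁻¹ ∈ Subgroup.zpowers y by
      rw [hKeq]; exact (inferInstance : K.Normal).conj_mem y hyK c⁻¹)
    have h1 : u * (c⁻¹ * y * c⁻¹⁻¹) = (c⁻¹ * y * c⁻¹⁻¹) * u := by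
      rw [← hi]; exact ((show Commute u y from huy).zpow_right i).eq
    calc z * y = c * (u * (c⁻¹ * y * c⁻¹⁻¹)) * c⁻¹ := by rw [← hcz]; group
      _ = _ := by rw [h1, ← hcz]; group
  refine ⟨y, hyo, fun x => ?_⟩
  obtain ⟨e, o, ho2, hxo⟩ := Nat.exists_eq_pow_mul_and_not_dvd (orderOf_pos x).ne' 2 (by norm_num)
  have h180 : orderOf x ∣ 180 := hHc ▸ orderOf_dvd_natCard x
  have he : e ≤ 2 := by
    by_contra hcon
    have h8 := ((pow_dvd_pow 2 (show 3 ≤ e by omega)).trans (hxo ▸ dvd_mul_right (2 ^ e) o)).trans h180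
    norm_num at h8
  have hodd : ¬ 2 ∣ orderOf (x ^ 2 ^ e) := fun h => ho2 (h.trans (orderOf_dvd_of_pow_eq_one
    (by rw [← pow_mul, ← hxo, pow_orderOf_eq_one])))
  have c1 : Commute (x ^ 2 ^ e) y := commute_of_coprime_pred Nat.prime_three hyo
    (by rw [hKeq, Subgroup.normalizer_eq_top]; trivial) (Nat.prime_two.coprime_iff_not_dvd.2 hodd).symm
  have h4 : (x ^ o) ^ 4 = 1 := orderOf_dvd_iff_pow_eq_one.1 ((orderOf_dvd_of_pow_eq_one
    (show (x ^ o) ^ 2 ^ e = 1 by rw [← pow_mul, mul_comm, ← hxo, pow_orderOf_eq_one])).trans (pow_dvd_pow 2 he))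
  have h2 : x ^ o * x ^ o = 1 := Subtype.ext (T.sq_of_pow_four (x ^ o).2 (congrArg Subtype.val h4))
  have c2 : Commute (x ^ o) y := by
    rcases eq_or_ne (x ^ o) 1 with h | h
    · rw [h]; exact Commute.one_left y
    · exact hall _ (orderOf_two_of h2 h)
  obtain ⟨i, j, hij⟩ := Int.isCoprime_iff_gcd_eq_one.2
    (show Int.gcd ((2 ^ e : ℕ) : ℤ) (o : ℤ) = 1 by
      rw [Int.gcd_natCast_natCast]
      exact Nat.Coprime.pow_left e (Nat.prime_two.coprime_iff_not_dvd.2 ho2))
  have h3 : x = (x ^ 2 ^ e) ^ i * (x ^ o) ^ j := by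
    rw [← zpow_natCast, ← zpow_mul, ← zpow_natCast x o, ← zpow_mul, ← zpow_add, mul_comm ((2 ^ e : ℕ) : ℤ),
      mul_comm (o : ℤ), hij, zpow_one]
  rw [h3]
  exact ((c1.zpow_left i).mul_left (c2.zpow_left j)).eq

/-- With `q = 4` an element of order three is central in the stabiliser of `a`. -/
theorem exists_central_three (hk : k = 2) :
    ∃ y : ↥(stabilizer G a), orderOf y = 3 ∧ ∀ x, x * y = y * x := by
  classical
  haveI : Fact (Nat.Prime 5) := ⟨by norm_num⟩
  haveI : Fact (Nat.Prime 2) := ⟨Nat.prime_two⟩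
  set H := stabilizer G a with hH
  have hHc : Nat.card ↥H = 180 := by rw [hH, T.card_stab, hk]; rfl
  obtain ⟨w, n, hw, hn5, hcount, hno, hsy, -⟩ := prime_normalizer_data (p := 5) (o := 36) hHc (by norm_num)
  have hn : n = 1 ∨ n = 6 ∨ n = 36 := by
    have key : ∀ m ∈ Nat.divisors 36, m % 5 = 1 → m = 1 ∨ m = 6 ∨ m = 36 := by decide +kernel
    exact key n (Nat.mem_divisors.2 ⟨hno, by norm_num⟩) hn5
  rw [hHc] at hcount
  rcases hn with rfl | rfl | rfl
  · exfalso
    refine T.not_four_dvd_normalizer (p := 5) (by norm_num) (by norm_num) (by rw [hk]; norm_num) hw ?_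
    have key : ∀ c : ℕ, c * 1 = 180 → 4 ∣ c := fun c hc => by omega
    exact key _ hcount
  · exact T.exists_central_of_six_sylow hk hw (by linarith) hsy.symm
  have hN : Subgroup.normalizer (Subgroup.zpowers w : Set ↥H) = Subgroup.zpowers w :=
    (Subgroup.eq_of_le_of_card_ge Subgroup.le_normalizer (by rw [Nat.card_zpowers, hw]; linarith)).symm
  obtain ⟨M, -, hMn, -, hmem, hodd⟩ := exists_complement_in (q := 5) (C := (⊤ : Subgroup ↥H))
    (Q := Subgroup.zpowers w) le_top (IsPGroup.of_card (n := 1) (by rw [Nat.card_zpowers, hw, pow_one]))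
    (fun x _ _ hxn => by rwa [hN] at hxn) (fun x _ hxn y hy => by
      rw [hN] at hxn
      obtain ⟨i, rfl⟩ := Subgroup.mem_zpowers_iff.1 hxn
      obtain ⟨j, rfl⟩ := Subgroup.mem_zpowers_iff.1 hy
      exact ((Commute.refl w).zpow_zpow i j).eq)
  haveI : M.Normal := ⟨fun x hx g => hMn g trivial x hx⟩
  have hM5 : ¬ 5 ∣ Nat.card ↥M := fun h => by
    obtain ⟨x, hx⟩ := exists_prime_orderOf_dvd_card' (G := ↥M) 5 h
    exact hodd x x.2 (by rw [Subgroup.orderOf_coe, hx])
  have hM4 : 4 ∣ Nat.card ↥M := by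
    obtain ⟨R, hR⟩ := Sylow.exists_subgroup_card_pow_prime 2 (n := 2) (G := ↥H) (by rw [hHc]; norm_num)
    have hle : R ≤ M := fun x hx => hmem x trivial fun h5 => by
      have := h5.trans (Subgroup.orderOf_dvd_natCard _ hx)
      rw [hR] at this
      norm_num at this
    rw [show 4 = 2 ^ 2 from rfl, ← hR]
    exact Subgroup.card_dvd_of_le hle
  obtain ⟨P⟩ : Nonempty (Sylow 2 ↥M) := inferInstance
  have htop := Sylow.normalizer_sup_eq_top P
  set W : Subgroup ↥H := (P : Subgroup ↥M).map M.subtype with hW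
  have hW4 : Nat.card ↥W = 4 := by
    rw [hW, ← Nat.card_congr ((P : Subgroup ↥M).equivMapOfInjective _ M.subtype_injective).toEquiv]
    obtain ⟨e, he⟩ := IsPGroup.iff_card.1 P.isPGroup'
    have h1 : 2 ^ e ∣ 180 := by
      rw [← he, ← hHc]
      exact (Subgroup.card_subgroup_dvd_card _).trans (Subgroup.card_subgroup_dvd_card M)
    have h2 : 2 ^ 2 ∣ 2 ^ e := he ▸ P.pow_dvd_card_of_pow_dvd_card (show 2 ^ 2 ∣ Nat.card ↥M from hM4)
    have h3 : e ≤ 2 := by
      by_contra hcon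
      have := (pow_dvd_pow 2 (show 3 ≤ e by omega)).trans h1
      norm_num at this
    have h4 := (Nat.pow_dvd_pow_iff_le_right (show 1 < 2 by norm_num)).1 h2
    rw [he, show e = 2 by omega]; rfl
  have h5 : 5 ∣ Nat.card ↥(Subgroup.normalizer (W : Set ↥H)) := by
    have hle : Subgroup.normalizer (W : Set ↥H) ≤ Subgroup.normalizer (M : Set ↥H) := by
      rw [Subgroup.normalizer_eq_top (H := M)]; exact le_top
    have h := CfsgLib.Core.card_sup_mul_card_inf _ M hle
    rw [htop, Subgroup.card_top, hHc] at h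
    have h5 : 5 ∣ Nat.card ↥(Subgroup.normalizer (W : Set ↥H)) * Nat.card ↥M :=
      h ▸ dvd_mul_of_dvd_left (by norm_num) _
    exact ((Nat.Prime.coprime_iff_not_dvd (by norm_num)).2 hM5).dvd_of_dvd_mul_right h5
  obtain ⟨g, hg⟩ := exists_prime_orderOf_dvd_card' (G := ↥(Subgroup.normalizer (W : Set ↥H))) 5 h5
  have hgo : orderOf (g : ↥H) = 5 := by rw [Subgroup.orderOf_coe, hg]
  obtain ⟨u, hu, hu1⟩ : ∃ u ∈ W, u ≠ 1 := by
    by_contra hcon
    push Not at hcon
    rw [(Subgroup.eq_bot_iff_forall W).2 hcon, Subgroup.card_bot] at hW4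
    norm_num at hW4
  have hu2 : u * u = 1 := Subtype.ext (T.sq_of_pow_four u.2 (by
    have h1 : (⟨u, hu⟩ : ↥W) ^ Nat.card ↥W = 1 := pow_card_eq_one'
    rw [hW4] at h1
    exact congrArg (fun y : ↥W => ((y : ↥H) : G)) h1))
  exfalso
  exact T.no_commute (by norm_num : Nat.Prime 5) (by norm_num) (by rw [hk]; norm_num) (orderOf_two_of hu2 hu1) hgo
    (commute_of_five hW4 hgo g.2 hu).symm

variable {v : ↥(Cent J)} (B : BData T.invData v) {m : ℕ}

include B

/-- No group with `q = 4` in case B. -/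
theorem not_four_caseB (hj : fixCard ↥(fixPts Ω J) (induce Ω J v) = 2 ^ m) (hm : m = 1) (hk : k = 2) : False := by
  obtain ⟨y, hyo, hy⟩ := T.exists_central_three hk
  obtain ⟨L, hL⟩ := T.exists_lData
  have hc : ∀ z : G, z ∈ stabilizer G a → (y : G) * z = z * (y : G) := fun z hz =>
    (congrArg Subtype.val (hy ⟨z, hz⟩)).symm
  have hyL : (y : G) ∈ L := hL.mem _
    ⟨y.2, Subgroup.mem_centralizer_singleton_iff.2 (hc J T.invData.smul_a)⟩
    (by rw [Subgroup.orderOf_coe, hyo]; norm_num)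
  have h1 := Subgroup.orderOf_dvd_natCard (L ⊓ Cent (v : G))
    ⟨hyL, Subgroup.mem_centralizer_singleton_iff.2 (hc v B.memH.1)⟩
  have h2 := h1.trans (T.card_cent_v_dvd B hj hL)
  rw [Subgroup.orderOf_coe, hyo, hm] at h2
  norm_num at h2

end ThreeData

end CfsgLib.KimuraFour
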