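import Cfsg.Agent.Lib.Perm.KimuraFour.Fusion
import Cfsg.Agent.Lib.Perm.KimuraFour.Basic
import Cfsg.Agent.Lib.PGroups.BSW.Small

/-!
# A self-centralising four-group with one class of involutions
-/

set_option autoImplicit false

namespace CfsgLib.KimuraFour

open CfsgLib.PGroups.BSW

/-- With one class of involutions and an involution whose centraliser is a four-group there are three or fifteen
involutions. -/
theorem card_involutions_of_self_centralizing {Q : Type*} [Group Q] [Finite Q] {t s : Q} (ht : orderOf t = 2)
    (hs : orderOf s = 2) (hne : s ≠ t) (hts : s * t = t * s)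
    (hC : ∀ x, x * t = t * x → x = 1 ∨ x = t ∨ x = s ∨ x = t * s)
    (hconj : ∀ x y : Q, orderOf x = 2 → orderOf y = 2 → IsConj x y) :
    Nat.card {x : Q // orderOf x = 2} = 3 ∨ Nat.card {x : Q // orderOf x = 2} = 15 := by
  classical
  have := Fintype.ofFinite Q
  set K := Subgroup.zpowers t with hK
  have hKmem : ∀ x ∈ K, x = 1 ∨ x = t := by
    intro x hx
    rw [hK, Subgroup.mem_zpowers_iff] at hx
    obtain ⟨i, rfl⟩ := hx
    have ht2 : t ^ (2 : ℤ) = 1 := by rw [zpow_two]; exact mul_self_of_orderOf ht
    rcases Int.even_or_odd i with ⟨j, rfl⟩ | ⟨j, rfl⟩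
    · left; rw [← two_mul, zpow_mul, ht2, one_zpow]
    · right; rw [zpow_add, zpow_mul, ht2, one_zpow, one_mul, zpow_one]
  have hk : Nat.card ↥K = 2 := by rw [hK, Nat.card_zpowers, ht]
  have hsK : s ∉ K := fun h => by
    rcases hKmem s h with e | e
    · rw [e, orderOf_one] at hs; norm_num at hs
    · exact hne e
  have C : Config t s K :=
    { ht := ht
      comm := inferInstanceAs (IsMulCommutative ↥(Subgroup.zpowers t))
      le_cent := Subgroup.zpowers_le.2 (Subgroup.mem_centralizer_singleton_iff.2 rfl)
      htK := Subgroup.mem_zpowers t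
      hs := hs
      hsH := Subgroup.mem_centralizer_singleton_iff.2 hts
      hsK := hsK
      hH := by
        refine le_antisymm (sup_le (Subgroup.zpowers_le.2 (Subgroup.mem_centralizer_singleton_iff.2 rfl))
          (Subgroup.zpowers_le.2 (Subgroup.mem_centralizer_singleton_iff.2 hts))) fun x hx => ?_
        have h1 : t ∈ K ⊔ Subgroup.zpowers s := (le_sup_left : K ≤ _) (Subgroup.mem_zpowers t)
        have h2 : s ∈ K ⊔ Subgroup.zpowers s := (le_sup_right : Subgroup.zpowers s ≤ _) (Subgroup.mem_zpowers s)
        rcases hC x (Subgroup.mem_centralizer_singleton_iff.1 hx) with rfl | rfl | rfl | rfl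
        · exact one_mem _
        · exact h1
        · exact h2
        · exact mul_mem h1 h2
      hCK := inf_eq_left.2 (Subgroup.zpowers_le.2 (Subgroup.mem_centralizer_singleton_iff.2 hts.symm))
      hinv := fun x hx => by
        rcases hKmem x hx with rfl | rfl
        · group
        · rw [hts, mul_inv_cancel_right, inv_of_orderOf ht]
      hTI := fun g hg => by
        refine (Subgroup.eq_bot_iff_forall _).2 fun x hx => ?_
        obtain ⟨y, hy, e⟩ := hx.2
        rcases hKmem x hx.1 with rfl | rfl
        · rfl
        rcases hKmem y hy with rfl | rfl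
        · simpa using e.symm
        · exfalso
          refine hg (Subgroup.mem_centralizer_singleton_iff.2 ?_)
          exact mul_inv_eq_iff_eq_mul.1 e
      hconj := hconj }
  obtain ⟨n, q, l, F⟩ := C.facts_of_eq_two hk
  have h1 := F.hq
  have h2 := F.hl
  have h3 := F.hcard
  rw [hk] at h1 h2 h3
  have hG : Nat.card Q = 12 ∨ Nat.card Q = 60 := by
    rcases F.hn with rfl | rfl
    · obtain rfl : q = 5 := by omega
      obtain rfl : l = 3 := by omega
      omega
    · obtain rfl : q = 3 := by omega
      obtain rfl : l = 1 := by omega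
      omega
  have hcount := card_orbit_mul (⊤ : Subgroup Q) (fun x => orderOf x = 2) ht
    (fun g _ x hx => (orderOf_conj_eq g x).trans hx) fun x hx => by
      obtain ⟨g, hg⟩ := isConj_iff.1 (hconj t x ht hx)
      exact ⟨g, trivial, hg⟩
  rw [top_inf_eq, C.card_H, hk, Subgroup.card_top] at hcount
  omega

end CfsgLib.KimuraFour
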