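import Cfsg.Agent.Lib.Perm.KimuraFour.ThreeRho
import Cfsg.Agent.Lib.Perm.KimuraFour.SelfCentFour
import Cfsg.Agent.Lib.Core.Basic

/-!
# Degree `q ^ 2`, the four-group fixing the fixed points of `J`
-/

set_option autoImplicit false

namespace CfsgLib.KimuraFour

open MulAction

variable {G : Type*} [Group G] [Finite G] {Ω : Type*} [MulAction G Ω] [Finite Ω] {a b : Ω} {J : G}
  {N : Subgroup G} {k : ℕ}

local notation "Cent" J:max => Subgroup.centralizer (Singleton.singleton J : Set _)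

namespace ThreeData

variable (T : ThreeData G Ω a b J N k)

include T

theorem four_data : J ∈ (pairStab a b ⊓ Cent J : Subgroup G) ∧
    (∀ w ∈ (pairStab a b ⊓ Cent J : Subgroup G), w ∈ stabilizer G a ∧ w * w = 1) ∧
    ∀ u ∈ (pairStab a b ⊓ Cent J : Subgroup G), ∀ w ∈ (pairStab a b ⊓ Cent J : Subgroup G), u * w = w * u :=
  ⟨⟨T.invData.memJ, Subgroup.mem_centralizer_singleton_iff.2 rfl⟩,
    fun _ hw => ⟨hw.1.1, (T.setting.mem_cent_iff T.invData hw.1).1 hw.2⟩, fun _ hu _ hw =>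
    (T.setting.inv_mul hu.1 ((T.setting.mem_cent_iff T.invData hu.1).1 hu.2) hw.1
      ((T.setting.mem_cent_iff T.invData hw.1).1 hw.2)).1⟩

variable (hA : Setting.CaseA a b J)

include hA

theorem centPt_le_normalizer_four :
    centPt a J ≤ Subgroup.normalizer ((pairStab a b ⊓ Cent J : Subgroup G) : Set G) := fun _ hg =>
  Subgroup.mem_normalizer_fintype fun _ hw => T.setting.conj_four_caseA T.invData hA hg.2 hw

omit hA in
/-- An involution of the four-group other than `J`. -/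
theorem exists_other : ∃ u ∈ (pairStab a b ⊓ Cent J : Subgroup G), u ≠ 1 ∧ u ≠ J := by
  classical
  by_contra hcon
  push Not at hcon
  have h4 := T.setting.card_inf_cent T.invData
  have := Fintype.ofFinite G
  rw [Nat.card_eq_fintype_card, Fintype.card_subtype] at h4
  have := Finset.card_le_card (t := ({1, J} : Finset G))
    (s := Finset.univ.filter fun x => x ∈ (pairStab a b ⊓ Cent J : Subgroup G)) fun x hx => by
      simp only [Finset.mem_filter, Finset.mem_univ, true_and] at hx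
      simp only [Finset.mem_insert, Finset.mem_singleton]
      by_cases h : x = 1
      · exact Or.inl h
      · exact Or.inr (hcon x hx h)
  have := this.trans Finset.card_le_two
  omega

theorem centPt_comm_four {g : G} (hg : g ∈ centPt a J) :
    ∀ w ∈ (pairStab a b ⊓ Cent J : Subgroup G), g * w = w * g :=
  T.four_central hg (T.centPt_le_normalizer_four hA hg)

/-- The centraliser fixing `a` of an involution of the four-group is that of `J`. -/
theorem cent_four_eq {w : G} (hw : w ∈ (pairStab a b ⊓ Cent J : Subgroup G)) (hw1 : w ≠ 1) :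
    centPt a w = centPt a J := by
  obtain ⟨-, hsq, -⟩ := T.four_data
  obtain ⟨g, hga, hg⟩ := T.exists_conj (hsq w hw).1 (orderOf_two_of (hsq w hw).2 hw1)
  refine (Subgroup.eq_of_le_of_card_ge (show centPt a J ≤ centPt a w from fun x hx =>
    ⟨hx.1, Subgroup.mem_centralizer_singleton_iff.2 (T.centPt_comm_four hA hx w hw)⟩) (le_of_eq ?_)).symm
  refine (Nat.card_congr ?_).symm
  refine Equiv.subtypeEquiv (MulAut.conj g).toEquiv fun x => ?_
  show x ∈ centPt a J ↔ g * x * g⁻¹ ∈ centPt a w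
  refine and_congr ⟨fun h => Subgroup.mul_mem _ (Subgroup.mul_mem _ hga h) (Subgroup.inv_mem _ hga), fun h => ?_⟩ ?_
  · have := Subgroup.mul_mem _ (Subgroup.mul_mem _ (Subgroup.inv_mem _ hga) h) hga
    rwa [show g⁻¹ * (g * x * g⁻¹) * g = x by group] at this
  · show x ∈ Cent J ↔ g * x * g⁻¹ ∈ Cent w
    rw [Subgroup.mem_centralizer_singleton_iff, Subgroup.mem_centralizer_singleton_iff, ← hg,
      show g * x * g⁻¹ * (g * J * g⁻¹) = g * (x * J) * g⁻¹ by group,
      show g * J * g⁻¹ * (g * x * g⁻¹) = g * (J * x) * g⁻¹ by group, mul_left_inj, mul_right_inj]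

variable {L : Subgroup G} (hL : LData a J k L) {r : ℕ} {ρ : G} (hr : r.Prime)
  (hprim : ∀ e, 0 < e → e < k → ¬ r ∣ 2 ^ e - 1) (hρ : ρ ∈ L) (hρr : orderOf ρ = r)

include hL hr hprim hρ hρr

omit hr hprim hρ hρr in
/-- Elements of the centraliser of `J` commuting with `ρ`. -/
theorem decomp_rho {x : G} (hx : x ∈ centPt a J) (hxρ : x * ρ = ρ * x) :
    ∃ w ∈ (pairStab a b ⊓ Cent J : Subgroup G), ∃ l ∈ L, x = w * l ∧ l * ρ = ρ * l := by
  obtain ⟨w, hw, l, hl, e, hlx⟩ := T.decomp hL hx (T.centPt_le_normalizer_four hA hx)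
  refine ⟨w, hw, l, hl, e, ?_⟩
  obtain ⟨i, rfl⟩ := Subgroup.mem_zpowers_iff.1 hlx
  exact ((show Commute x ρ from hxρ).zpow_left i).eq

/-- When the four-group is central in its normaliser there are three involutions commuting with `ρ`. -/
theorem count_alpha (hcen : ∀ g ∈ centPt a ρ, g ∈ Subgroup.normalizer ((pairStab a b ⊓ Cent J : Subgroup G) : Set G) →
      ∀ w ∈ (pairStab a b ⊓ Cent J : Subgroup G), g * w = w * g) :
    Nat.card {x : G // x ∈ stabilizer G a ∧ orderOf x = 2 ∧ x * ρ = ρ * x} = 3 := by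
  classical
  haveI : Fact (Nat.Prime 2) := ⟨Nat.prime_two⟩
  obtain ⟨hJV, hsq, hVc⟩ := T.four_data
  set V : Subgroup G := pairStab a b ⊓ Cent J with hV
  set C := centPt a ρ with hC
  have hρC : ρ ∈ centPt a J := hL.le hρ
  have hVC : V ≤ C := fun w hw =>
    ⟨(hsq w hw).1, Subgroup.mem_centralizer_singleton_iff.2 (T.centPt_comm_four hA hρC w hw).symm⟩
  obtain ⟨M, hMC, hMn, -, hmem, hodd⟩ := exists_complement_in (q := 2) (C := C) (Q := V) hVC
    (IsPGroup.of_card (n := 2) (T.setting.card_inf_cent T.invData))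
    (fun x hx he hxn => T.four_le_of_pow ⟨hx.1, Subgroup.mem_centralizer_singleton_iff.2 (hcen x hx hxn J hJV)⟩ he hxn)
    hcen
  have hM2 : ¬ 2 ∣ Nat.card ↥M := fun h => by
    obtain ⟨x, hx⟩ := exists_prime_orderOf_dvd_card' (G := ↥M) 2 h
    exact hodd x x.2 (by rw [Subgroup.orderOf_coe, hx])
  have hMn' : V ≤ Subgroup.normalizer (M : Set G) := fun w hw =>
    Subgroup.mem_normalizer_fintype fun m hm => hMn w (hVC hw) m hm
  obtain ⟨u, huV, hu1, huJ⟩ := T.exists_other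
  set Y : Subgroup G := L ⊓ Cent ρ with hY
  have hfix : ∀ w ∈ V, w ≠ 1 → ∀ x ∈ M, x * w = w * x → x ∈ Y := fun w hw hw1 x hx hc => by
    have h1 : x ∈ centPt a w := ⟨(hMC hx).1, Subgroup.mem_centralizer_singleton_iff.2 hc⟩
    rw [T.cent_four_eq hA hw hw1] at h1
    exact ⟨hL.mem x h1 (hodd x hx), (hMC hx).2⟩
  have hMY : M ≤ Y := by
    refine le_of_four (Nat.odd_iff.2 (Nat.two_dvd_ne_zero.1 hM2)) T.invData.ordJ (orderOf_two_of (hsq u huV).2 hu1)
      (hVc J hJV u huV) (Ne.symm huJ) (hMn' hJV) (hMn' huV) (hfix J hJV fun e => by simpa [e] using T.invData.ordJ)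
      (hfix u huV hu1) (hfix (J * u) (mul_mem hJV huV) fun e => huJ ?_)
    rw [eq_inv_of_mul_eq_one_right e, inv_of_orderOf T.invData.ordJ]
  -- the centraliser is the product
  have hinf : V ⊓ M = ⊥ := (Subgroup.eq_bot_iff_forall _).2 fun x hx => by
    by_contra h1
    exact hodd x hx.2 (by rw [orderOf_two_of (hsq x hx.1).2 h1])
  have hCeq : V ⊔ M = C := by
    refine Subgroup.eq_of_le_of_card_ge (sup_le hVC hMC) ?_
    have hc := CfsgLib.Core.card_sup_mul_card_inf V M hMn'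
    rw [hinf, Subgroup.card_bot, mul_one, T.setting.card_inf_cent T.invData] at hc
    rw [hc]
    obtain ⟨e, o, ho, he⟩ := Nat.exists_eq_pow_mul_and_not_dvd (Nat.card_pos (α := ↥C)).ne' 2 (by norm_num)
    have h1 : o ∣ Nat.card ↥M := dvd_card_of_odd_mem hmem (he ▸ dvd_mul_left o (2 ^ e)) ho
    have h2 : 2 ^ e ∣ 4 := by
      have h3 : 2 ^ e ∣ 12 * (2 ^ k * 2 ^ k - 1) :=
        T.card_stab ▸ ((he ▸ dvd_mul_right (2 ^ e) o).trans (Subgroup.card_dvd_of_le inf_le_left))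
      have hodd' : ¬ 2 ∣ 3 * (2 ^ k * 2 ^ k - 1) := by
        intro h
        have h2 : 2 ∣ 2 ^ k * 2 ^ k := dvd_mul_of_dvd_left (dvd_pow_self 2 (by have := T.k_pos; omega)) _
        have : 1 ≤ 2 ^ k * 2 ^ k := Nat.one_le_iff_ne_zero.2 (by positivity)
        omega
      exact ((Nat.prime_two.coprime_iff_not_dvd.2 hodd').pow_left e).dvd_of_dvd_mul_right
        (by rw [← mul_assoc]; exact h3)
    rw [he]
    exact Nat.le_of_dvd (Nat.mul_pos (by norm_num) Nat.card_pos) (mul_dvd_mul h2 h1)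
  have key : ∀ x : G, (x ∈ stabilizer G a ∧ orderOf x = 2 ∧ x * ρ = ρ * x) ↔ (x ∈ V ∧ x ≠ 1) := by
    intro x
    refine ⟨fun ⟨hxa, hx2, hxρ⟩ => ?_, fun ⟨hx, hx1⟩ =>
      ⟨(hsq x hx).1, orderOf_two_of (hsq x hx).2 hx1, Subgroup.mem_centralizer_singleton_iff.1 (hVC hx).2⟩⟩
    refine ⟨?_, fun e => by simp [e] at hx2⟩
    have hxC : x ∈ C := ⟨hxa, Subgroup.mem_centralizer_singleton_iff.2 hxρ⟩
    rw [← hCeq, ← SetLike.mem_coe, Subgroup.coe_mul_of_left_le_normalizer_right V M hMn', Set.mem_mul] at hxC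
    obtain ⟨w, hw, m, hm, rfl⟩ := hxC
    have hm' := hMY hm
    have hwm : w * m = m * w := T.central_of_primitive hL hr hprim hρ hρr hm'.1
      (Subgroup.mem_centralizer_singleton_iff.1 hm'.2) (hsq w hw).1 (Subgroup.mem_centralizer_singleton_iff.1 (hVC hw).2)
    have h1 : m * m = 1 := by
      have h2 := mul_self_of_orderOf hx2
      rwa [show w * m * (w * m) = w * (m * w) * m by group, ← hwm, show w * (w * m) * m = (w * w) * (m * m) by group,
        (hsq w hw).2, one_mul] at h2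
    have hm1 : m = 1 := by
      by_contra hne
      exact hodd m hm (by rw [orderOf_two_of h1 hne])
    rw [hm1, mul_one]
    exact hw
  rw [Nat.card_congr (Equiv.subtypeEquivRight key)]
  have := Fintype.ofFinite G
  have h4 := T.setting.card_inf_cent T.invData
  rw [← hV, Nat.card_eq_fintype_card, Fintype.card_subtype] at h4
  rw [Nat.card_eq_fintype_card, Fintype.card_subtype,
    show (Finset.univ.filter fun x => x ∈ V ∧ x ≠ 1) = (Finset.univ.filter fun x => x ∈ V).erase 1 by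
      ext; simp [and_comm], Finset.card_erase_of_mem (Finset.mem_filter.2 ⟨Finset.mem_univ _, one_mem _⟩), h4]

/-- Otherwise the involutions of the centraliser of `ρ` fixing `a` are conjugate there. -/
theorem isConj_beta {g : G} (hg : g ∈ centPt a ρ)
    (hgn : g ∈ Subgroup.normalizer ((pairStab a b ⊓ Cent J : Subgroup G) : Set G))
    (hgc : ∃ w ∈ (pairStab a b ⊓ Cent J : Subgroup G), g * w ≠ w * g)
    {x : G} (hx : x ∈ centPt a ρ) (hx2 : orderOf x = 2) : ∃ c ∈ centPt a ρ, c * J * c⁻¹ = x := by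
  classical
  haveI : Fact (Nat.Prime 2) := ⟨Nat.prime_two⟩
  obtain ⟨hJV, hsq, hVc⟩ := T.four_data
  set V : Subgroup G := pairStab a b ⊓ Cent J with hV
  set C := centPt a ρ with hC
  have hρC : ρ ∈ centPt a J := hL.le hρ
  have hVC : V ≤ C := fun w hw =>
    ⟨(hsq w hw).1, Subgroup.mem_centralizer_singleton_iff.2 (T.centPt_comm_four hA hρC w hw).symm⟩
  -- a Sylow subgroup of the centraliser
  have hmax : ∀ R : Subgroup ↥C, IsPGroup 2 ↥R → Nat.card ↥R ∣ 4 := by
    intro R hR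
    obtain ⟨e, he⟩ := IsPGroup.iff_card.1 hR
    have h3 : 2 ^ e ∣ 12 * (2 ^ k * 2 ^ k - 1) :=
      T.card_stab ▸ ((he ▸ Subgroup.card_subgroup_dvd_card R).trans (Subgroup.card_dvd_of_le inf_le_left))
    have hodd' : ¬ 2 ∣ 3 * (2 ^ k * 2 ^ k - 1) := by
      intro h
      have h2 : 2 ∣ 2 ^ k * 2 ^ k := dvd_mul_of_dvd_left (dvd_pow_self 2 (by have := T.k_pos; omega)) _
      have : 1 ≤ 2 ^ k * 2 ^ k := Nat.one_le_iff_ne_zero.2 (by positivity)
      omega
    rw [he]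
    exact ((Nat.prime_two.coprime_iff_not_dvd.2 hodd').pow_left e).dvd_of_dvd_mul_right
      (by rw [← mul_assoc]; exact h3)
  obtain ⟨P, hP⟩ := (IsPGroup.of_card (p := 2) (n := 2) (G := ↥(V.subgroupOf C))
    ((Nat.card_congr (Subgroup.subgroupOfEquivOfLe hVC).toEquiv).trans
      (T.setting.card_inf_cent T.invData))).exists_le_sylow
  have hPV : V.subgroupOf C = (P : Subgroup ↥C) := Subgroup.eq_of_le_of_card_ge hP (by
    rw [Nat.card_congr (Subgroup.subgroupOfEquivOfLe hVC).toEquiv, T.setting.card_inf_cent T.invData]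
    exact Nat.le_of_dvd (by norm_num) (hmax _ P.isPGroup'))
  obtain ⟨c, hc⟩ : ∃ c : ↥C, (c : G) * x * (c : G)⁻¹ ∈ V := by
    have hxp : IsPGroup 2 ↥(Subgroup.zpowers (⟨x, hx⟩ : ↥C)) :=
      IsPGroup.of_card (n := 1) (by rw [Nat.card_zpowers, Subgroup.orderOf_mk, hx2, pow_one])
    obtain ⟨Q, hQ⟩ := hxp.exists_le_sylow
    obtain ⟨c, hc⟩ := MulAction.exists_smul_eq ↥C Q P
    refine ⟨c, ?_⟩
    have hmem : c * ⟨x, hx⟩ * c⁻¹ ∈ (P : Subgroup ↥C) := by
      rw [← hc, Sylow.coe_subgroup_smul]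
      exact ⟨⟨x, hx⟩, hQ (Subgroup.mem_zpowers _), rfl⟩
    rw [← hPV] at hmem
    exact hmem
  -- an element permuting the three involutions
  obtain ⟨e, o, ho2, hgo⟩ := Nat.exists_eq_pow_mul_and_not_dvd (orderOf_pos g).ne' 2 (by norm_num)
  set g' := g ^ 2 ^ e with hg'
  have hg'o : ¬ 2 ∣ orderOf g' := fun h => ho2 (h.trans (orderOf_dvd_of_pow_eq_one
    (by rw [← pow_mul, ← hgo, pow_orderOf_eq_one])))
  have hg'C : g' ∈ C := pow_mem hg _
  have hkey : ∀ w ∈ V, g' * w * g'⁻¹ ∈ V := fun w hw => (Subgroup.mem_normalizer_iff.1 (pow_mem hgn _) w).1 hw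
  have hgnc : ∀ w ∈ V, w ≠ 1 → g' * w * g'⁻¹ ≠ w := by
    intro u hu hu1 he
    have h1 : g' ∈ centPt a u := ⟨hg'C.1, Subgroup.mem_centralizer_singleton_iff.2 (mul_inv_eq_iff_eq_mul.1 he)⟩
    rw [T.cent_four_eq hA hu hu1] at h1
    have hg2 : ∀ w ∈ V, g ^ 2 ^ e * w = w * g ^ 2 ^ e := T.centPt_comm_four hA h1
    obtain ⟨w, hw, hwne⟩ := hgc
    -- the two-part of `g` lies in the four-group as well
    have h2 : g ^ o ∈ Subgroup.normalizer (V : Set G) := pow_mem hgn _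
    have hgoV : g ^ o ∈ V := by
      have hp : IsPGroup 2 ↥(Subgroup.zpowers (g ^ o)) := by
        rintro ⟨y, hy⟩
        obtain ⟨i, rfl⟩ := Subgroup.mem_zpowers_iff.1 hy
        refine ⟨e, Subtype.ext ?_⟩
        show ((g ^ o) ^ i) ^ 2 ^ e = 1
        rw [← zpow_natCast, ← zpow_mul, mul_comm, zpow_mul, zpow_natCast, ← pow_mul, mul_comm o, ← hgo,
          pow_orderOf_eq_one, one_zpow]
      have hp' := hp.to_sup_of_normal_right' (IsPGroup.of_card (n := 2) (T.setting.card_inf_cent T.invData))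
        (Subgroup.zpowers_le.2 h2)
      have hle : Subgroup.zpowers (g ^ o) ⊔ V ≤ C := sup_le (Subgroup.zpowers_le.2 (pow_mem hg _)) hVC
      have h4 := hmax ((Subgroup.zpowers (g ^ o) ⊔ V).subgroupOf C)
        (hp'.of_equiv (Subgroup.subgroupOfEquivOfLe hle).symm)
      rw [Nat.card_congr (Subgroup.subgroupOfEquivOfLe hle).toEquiv] at h4
      have heq : V = Subgroup.zpowers (g ^ o) ⊔ V := Subgroup.eq_of_le_of_card_ge le_sup_right (by
        rw [T.setting.card_inf_cent T.invData]; exact Nat.le_of_dvd (by norm_num) h4)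
      rw [heq]
      exact (le_sup_left : Subgroup.zpowers (g ^ o) ≤ Subgroup.zpowers (g ^ o) ⊔ V) (Subgroup.mem_zpowers _)
    apply hwne
    have c1 : Commute (g ^ 2 ^ e) w := hg2 w hw
    have c2 : Commute (g ^ o) w := hVc _ hgoV w hw
    obtain ⟨i, j, hij⟩ := Int.isCoprime_iff_gcd_eq_one.2
      (show Int.gcd ((2 ^ e : ℕ) : ℤ) (o : ℤ) = 1 by
        rw [Int.gcd_natCast_natCast]
        exact Nat.Coprime.pow_left e (Nat.prime_two.coprime_iff_not_dvd.2 ho2))
    have h3 : g = (g ^ 2 ^ e) ^ i * (g ^ o) ^ j := by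
      rw [← zpow_natCast, ← zpow_mul, ← zpow_natCast g o, ← zpow_mul, ← zpow_add, mul_comm ((2 ^ e : ℕ) : ℤ),
        mul_comm (o : ℤ), hij, zpow_one]
    rw [h3]
    exact ((c1.zpow_left i).mul_left (c2.zpow_left j)).eq
  -- the orbit of `J`
  have hJ1 : J ≠ 1 := fun e => by simpa [e] using T.invData.ordJ
  have hord : ∀ {w : G}, w ∈ V → w ≠ 1 → orderOf w = 2 := fun hw hw1 => orderOf_two_of (hsq _ hw).2 hw1
  set w₁ := g' * J * g'⁻¹ with hw₁
  have hw₁1 : w₁ ≠ 1 := fun e => hJ1 (conj_eq_one_iff.1 e)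
  set w₂ := g' * w₁ * g'⁻¹ with hw₂
  have hw₂1 : w₂ ≠ 1 := fun e => hw₁1 (conj_eq_one_iff.1 e)
  have n₁ : w₁ ≠ J := hgnc J hJV hJ1
  have n₂ : w₂ ≠ w₁ := hgnc w₁ (hkey J hJV) hw₁1
  have n₃ : w₂ ≠ J := by
    intro he
    have he' : g' * g' * J * (g' * g')⁻¹ = J := by
      calc g' * g' * J * (g' * g')⁻¹ = g' * (g' * J * g'⁻¹) * g'⁻¹ := by group
        _ = J := he
    have hc : Commute (g' * g') J := mul_inv_eq_iff_eq_mul.1 he'
    obtain ⟨t, ht⟩ := Nat.odd_iff.2 (Nat.two_dvd_ne_zero.1 hg'o)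
    refine hgnc J hJV hJ1 (mul_inv_eq_iff_eq_mul.2 ?_)
    have h1 : g' = (g' * g') ^ (t + 1) := by
      rw [← pow_two, ← pow_mul, show 2 * (t + 1) = orderOf g' + 1 by omega, pow_succ, pow_orderOf_eq_one, one_mul]
    rw [h1]
    exact (hc.pow_left (t + 1)).eq
  have horb : ∀ w ∈ V, w ≠ 1 → ∃ d ∈ C, d * J * d⁻¹ = w := by
    intro w hw hw1
    by_cases e0 : w = J
    · exact ⟨1, one_mem _, by rw [e0]; group⟩
    by_cases e1 : w = w₁
    · exact ⟨g', hg'C, e1.symm⟩
    refine ⟨g' * g', mul_mem hg'C hg'C, ?_⟩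
    have h3 := T.setting.inv_third hJV.1 T.invData.ordJ (hkey J hJV).1 (hord (hkey J hJV) hw₁1) hw.1 (hord hw hw1)
      (Ne.symm n₁) (Ne.symm e0) (Ne.symm e1)
    have h4 := T.setting.inv_third hJV.1 T.invData.ordJ (hkey J hJV).1 (hord (hkey J hJV) hw₁1)
      (hkey w₁ (hkey J hJV)).1 (hord (hkey w₁ (hkey J hJV)) hw₂1) (Ne.symm n₁) (Ne.symm n₃) (Ne.symm n₂)
    rw [← h3, h4, hw₁]
    group
  obtain ⟨d, hd, e'⟩ := horb _ hc (fun e' => by
    rw [conj_eq_one_iff] at e'; simp [e'] at hx2)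
  exact ⟨(c : G)⁻¹ * d, mul_mem (inv_mem c.2) hd, by
    calc (c : G)⁻¹ * d * J * ((c : G)⁻¹ * d)⁻¹ = (c : G)⁻¹ * (d * J * d⁻¹) * c := by group
      _ = x := by rw [e']; group⟩

/-- The count in the second case. -/
theorem count_beta {g : G} (hg : g ∈ centPt a ρ)
    (hgn : g ∈ Subgroup.normalizer ((pairStab a b ⊓ Cent J : Subgroup G) : Set G))
    (hgc : ∃ w ∈ (pairStab a b ⊓ Cent J : Subgroup G), g * w ≠ w * g) :
    Nat.card {x : G // x ∈ stabilizer G a ∧ orderOf x = 2 ∧ x * ρ = ρ * x} = 3 ∨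
      Nat.card {x : G // x ∈ stabilizer G a ∧ orderOf x = 2 ∧ x * ρ = ρ * x} = 15 := by
  classical
  obtain ⟨hJV, hsq, hVc⟩ := T.four_data
  set V : Subgroup G := pairStab a b ⊓ Cent J with hV
  set C := centPt a ρ with hC
  have hρC : ρ ∈ centPt a J := hL.le hρ
  have hVC : V ≤ C := fun w hw =>
    ⟨(hsq w hw).1, Subgroup.mem_centralizer_singleton_iff.2 (T.centPt_comm_four hA hρC w hw).symm⟩
  set K : Subgroup ↥C := (L ⊓ Cent ρ).subgroupOf C with hK
  have hcen : ∀ (x : ↥C) (y : ↥C), y ∈ K → x * y = y * x := fun x y hy => Subtype.ext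
    (T.central_of_primitive hL hr hprim hρ hρr hy.1 (Subgroup.mem_centralizer_singleton_iff.1 hy.2) x.2.1
      (Subgroup.mem_centralizer_singleton_iff.1 x.2.2))
  haveI : K.Normal := ⟨fun y hy x => by rw [hcen x y hy, mul_inv_cancel_right]; exact hy⟩
  have hKodd : ∀ y ∈ K, ¬ 2 ∣ orderOf y := fun y hy => by
    rw [← Subgroup.orderOf_coe]; exact T.odd_mem hL hy.1
  obtain ⟨u, huV, hu1, huJ⟩ := T.exists_other
  have hord : ∀ {w : G}, w ∈ V → w ≠ 1 → orderOf w = 2 := fun hw hw1 => orderOf_two_of (hsq _ hw).2 hw1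
  have hJ1 : J ≠ 1 := fun e => by simpa [e] using T.invData.ordJ
  set π := QuotientGroup.mk' K with hπ
  have hinj : ∀ x y : ↥C, x * x = 1 → y * y = 1 → π x = π y → x = y := by
    intro x y hx hy he
    have hk : x⁻¹ * y ∈ K := QuotientGroup.eq.1 he
    by_contra hne
    refine hKodd _ hk ?_
    have hcx : x * (x⁻¹ * y) = x⁻¹ * y * x := hcen x _ hk
    have h1 : x⁻¹ * y * (x⁻¹ * y) = 1 := by
      have h2 : x * (x⁻¹ * y) * (x * (x⁻¹ * y)) = 1 := by rw [mul_inv_cancel_left]; exact hy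
      rwa [show x * (x⁻¹ * y) * (x * (x⁻¹ * y)) = x * ((x⁻¹ * y) * x) * (x⁻¹ * y) by group, ← hcx,
        show x * (x * (x⁻¹ * y)) * (x⁻¹ * y) = (x * x) * ((x⁻¹ * y) * (x⁻¹ * y)) by group, hx, one_mul] at h2
    rw [orderOf_two_of h1 (fun e => hne (inv_mul_eq_one.1 e))]
  have hord2 : ∀ x : ↥C, orderOf (x : G) = 2 → orderOf (π x) = 2 := by
    intro x hx
    have h1 : x * x = 1 := Subtype.ext (mul_self_of_orderOf hx)
    refine orderOf_two_of (by rw [← map_mul, h1, map_one]) fun e => ?_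
    have := hKodd x ((QuotientGroup.eq_one_iff x).1 e)
    rw [← Subgroup.orderOf_coe, hx] at this
    exact this dvd_rfl
  have hsurj : ∀ q : ↥C ⧸ K, orderOf q = 2 → ∃ x : ↥C, orderOf (x : G) = 2 ∧ π x = q := by
    intro q hq
    obtain ⟨x, rfl⟩ := QuotientGroup.mk'_surjective K q
    have hxx : x * x ∈ K := (QuotientGroup.eq_one_iff _).1 (by
      show π (x * x) = 1
      rw [map_mul]; exact mul_self_of_orderOf hq)
    obtain ⟨t, ht⟩ := Nat.odd_iff.2 (Nat.two_dvd_ne_zero.1 (hKodd _ hxx))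
    have he : π (x ^ (2 * t + 1)) = π x := by
      rw [map_pow, pow_succ, pow_mul, pow_two, mul_self_of_orderOf hq, one_pow, one_mul]
    refine ⟨x ^ (2 * t + 1), orderOf_two_of ?_ fun e => ?_, he⟩
    · have h1 : (x * x) ^ (2 * t + 1) = 1 := by rw [← ht]; exact pow_orderOf_eq_one _
      have h2 : x ^ (2 * t + 1) * x ^ (2 * t + 1) = 1 := by rw [← (Commute.refl x).mul_pow]; exact h1
      exact congrArg Subtype.val h2
    · rw [show x ^ (2 * t + 1) = 1 from Subtype.ext e, map_one] at he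
      rw [← he, orderOf_one] at hq
      norm_num at hq
  set J' : ↥C := ⟨J, hVC hJV⟩ with hJ'
  set u' : ↥C := ⟨u, hVC huV⟩ with hu'
  have key := card_involutions_of_self_centralizing (t := π J') (s := π u') (hord2 J' T.invData.ordJ)
    (hord2 u' (hord huV hu1))
    (fun e => huJ (congrArg Subtype.val (hinj u' J' (Subtype.ext (hsq u huV).2) (Subtype.ext (hsq J hJV).2) e)))
    (by rw [← map_mul, ← map_mul, show u' * J' = J' * u' from Subtype.ext (hVc u huV J hJV)])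
    (fun q hq => by
      obtain ⟨x, rfl⟩ := QuotientGroup.mk'_surjective K q
      have he : π (x * J' * x⁻¹) = π J' := by rw [map_mul, map_mul, map_inv, hq, mul_inv_cancel_right]
      have hJ2 : J' * J' = 1 := Subtype.ext (hsq J hJV).2
      have h1 := hinj _ _ (by rw [show x * J' * x⁻¹ * (x * J' * x⁻¹) = x * (J' * J') * x⁻¹ by group, hJ2]; group)
        hJ2 he
      have hxJ : (x : G) ∈ centPt a J := ⟨x.2.1, Subgroup.mem_centralizer_singleton_iff.2
        (congrArg Subtype.val (mul_inv_eq_iff_eq_mul.1 h1))⟩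
      obtain ⟨w, hw, l, hl, hwl, hlρ⟩ := T.decomp_rho hA hL hxJ (Subgroup.mem_centralizer_singleton_iff.1 x.2.2)
      have hlC : l ∈ C := ⟨(hL.le hl).1, Subgroup.mem_centralizer_singleton_iff.2 hlρ⟩
      have hπx : π x = π ⟨w, hVC hw⟩ := by
        rw [show x = ⟨w, hVC hw⟩ * ⟨l, hlC⟩ from Subtype.ext hwl, map_mul,
          show π ⟨l, hlC⟩ = 1 from (QuotientGroup.eq_one_iff _).2
            (show l ∈ L ⊓ Cent ρ from ⟨hl, Subgroup.mem_centralizer_singleton_iff.2 hlρ⟩), mul_one]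
      rw [hπx]
      by_cases e1 : w = 1
      · left; rw [show (⟨w, hVC hw⟩ : ↥C) = 1 from Subtype.ext e1, map_one]
      by_cases e2 : w = J
      · right; left; exact congrArg π (Subtype.ext e2)
      by_cases e3 : w = u
      · right; right; left; exact congrArg π (Subtype.ext e3)
      right; right; right
      rw [← map_mul]
      exact congrArg π (Subtype.ext (T.setting.inv_third hJV.1 T.invData.ordJ huV.1 (hord huV hu1) hw.1
        (hord hw e1) (Ne.symm huJ) (Ne.symm e2) (Ne.symm e3)).symm))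
    (fun q q' hq hq' => by
      have hh : ∀ q : ↥C ⧸ K, orderOf q = 2 → IsConj (π J') q := by
        intro q hq
        obtain ⟨x, hx, rfl⟩ := hsurj q hq
        obtain ⟨c, hc, e⟩ := T.isConj_beta hA hL hr hprim hρ hρr hg hgn hgc x.2 hx
        refine isConj_iff.2 ⟨π ⟨c, hc⟩, ?_⟩
        rw [← map_inv, ← map_mul, ← map_mul]
        exact congrArg π (Subtype.ext e)
      exact (hh q hq).symm.trans (hh q' hq'))
  have e : Nat.card {x : G // x ∈ stabilizer G a ∧ orderOf x = 2 ∧ x * ρ = ρ * x} =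
      Nat.card {q : ↥C ⧸ K // orderOf q = 2} := by
    refine Nat.card_congr (Equiv.ofBijective (fun x => ⟨π ⟨x.1, x.2.1,
      Subgroup.mem_centralizer_singleton_iff.2 x.2.2.2⟩, hord2 _ x.2.2.1⟩) ⟨?_, ?_⟩)
    · rintro ⟨x, hx⟩ ⟨y, hy⟩ h
      have := hinj _ _ (Subtype.ext (mul_self_of_orderOf hx.2.1)) (Subtype.ext (mul_self_of_orderOf hy.2.1))
        (congrArg Subtype.val h)
      exact Subtype.ext (congrArg Subtype.val this :)
    · rintro ⟨q, hq⟩
      obtain ⟨x, hx, rfl⟩ := hsurj q hq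
      exact ⟨⟨x.1, x.2.1, hx, Subgroup.mem_centralizer_singleton_iff.1 x.2.2⟩, rfl⟩
  rw [e]
  exact key

omit hL hr hprim hρ hρr in
/-- No such group in case A once `k` is at least three and not six. -/
theorem not_generic_caseA (h3 : 3 ≤ k) (h6 : k ≠ 6) : False := by
  classical
  obtain ⟨L, hL⟩ := T.exists_lData
  obtain ⟨r, hr, hr5, hrd, hprim⟩ := T.exists_primitive h3 h6
  haveI := Fact.mk hr
  obtain ⟨ρ', hρ'⟩ := exists_prime_orderOf_dvd_card' (G := ↥L) r (hL.card ▸ hrd)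
  set ρ : G := (ρ' : G) with hρdef
  have hρr : orderOf ρ = r := by rw [hρdef, Subgroup.orderOf_coe, hρ']
  have hmod := T.card_fixed_involutions hr (hL.le ρ'.2).1 hρr
  have h6' : 3 * (2 ^ k + 1) ≡ 6 [MOD r] := by
    have : 2 ^ k ≡ 1 [MOD r] := ((Nat.modEq_iff_dvd' (Nat.one_le_two_pow)).2 hrd).symm
    simpa using (this.add_right 1).mul_left 3
  have hn := hmod.trans h6'
  have h12 : ¬ (3 : ℕ) ≡ 6 [MOD r] ∧ ¬ (15 : ℕ) ≡ 6 [MOD r] := by
    refine ⟨fun h => ?_, fun h => ?_⟩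
    · have := Nat.le_of_dvd (by norm_num) ((Nat.modEq_iff_dvd' (by norm_num)).1 h)
      omega
    · have h9 : r ∣ 3 ^ 2 := (Nat.modEq_iff_dvd' (show 6 ≤ 15 by norm_num)).1 h.symm
      have := Nat.le_of_dvd (by norm_num) (hr.dvd_of_dvd_pow h9)
      omega
  by_cases hcen : ∀ g ∈ centPt a ρ, g ∈ Subgroup.normalizer ((pairStab a b ⊓ Cent J : Subgroup G) : Set G) →
      ∀ w ∈ (pairStab a b ⊓ Cent J : Subgroup G), g * w = w * g
  · rw [T.count_alpha hA hL hr hprim ρ'.2 hρr hcen] at hn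
    exact h12.1 hn
  · push Not at hcen
    obtain ⟨g, hg, hgn, hgc⟩ := hcen
    rcases T.count_beta hA hL hr hprim ρ'.2 hρr hg hgn hgc with h | h <;> rw [h] at hn
    · exact h12.1 hn
    · exact h12.2 hn

end ThreeData

end CfsgLib.KimuraFour
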