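import Cfsg.Agent.Lib.Perm.KimuraFour.ThreeGenB

/-!
# Degree `q ^ 2`, generic case B: the count
-/

set_option autoImplicit false

namespace CfsgLib.KimuraFour

open MulAction

/-- The order of the image in a quotient. -/
theorem card_map_mk {G : Type*} [Group G] [Finite G] (K : Subgroup G) [K.Normal] {H : Subgroup G} (h : K ≤ H) :
    Nat.card ↥(H.map (QuotientGroup.mk' K)) * Nat.card ↥K = Nat.card ↥H := by
  have hc : (H.map (QuotientGroup.mk' K)).comap (QuotientGroup.mk' K) = H :=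
    Subgroup.comap_map_eq_self (by rw [QuotientGroup.ker_mk']; exact h)
  have h1 := ((H.map (QuotientGroup.mk' K)).comap (QuotientGroup.mk' K)).card_mul_index
  rw [Subgroup.index_comap_of_surjective _ (QuotientGroup.mk'_surjective K), hc,
    Subgroup.card_eq_card_quotient_mul_card_subgroup K, ← (H.map (QuotientGroup.mk' K)).card_mul_index] at h1
  refine (Nat.eq_of_mul_eq_mul_right (Nat.pos_of_ne_zero
    (Subgroup.FiniteIndex.index_ne_zero (H := H.map (QuotientGroup.mk' K)))) ?_).symm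
  rw [h1]; ring

variable {G : Type*} [Group G] [Finite G] {Ω : Type*} [MulAction G Ω] [Finite Ω] {a b : Ω} {J : G}
  {N : Subgroup G} {k : ℕ}

local notation "Cent" J:max => Subgroup.centralizer (Singleton.singleton J : Set _)

namespace ThreeData

variable (T : ThreeData G Ω a b J N k) {v : ↥(Cent J)} (B : BData T.invData v) {m : ℕ}
  (hj : fixCard ↥(fixPts Ω J) (induce Ω J v) = 2 ^ m) {L : Subgroup G} (hL : LData a J k L)
  (hk : k = m + m) {r : ℕ} {ρ : G} (hr : r.Prime) (hr5 : 5 ≤ r) (hρ : ρ ∈ L) (hρr : orderOf ρ = r)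
  (hprim : ∀ e, 0 < e → e < k → ¬ r ∣ 2 ^ e - 1)

include T B hj hL hk hr hr5 hρ hρr hprim

/-- Modulo the centraliser of `ρ` in `L` at most nine elements remain. -/
theorem count_caseB : ∃ d : ℕ, (d = 1 ∨ d = 3 ∨ d = 9) ∧
    Nat.card {x : G // x ∈ stabilizer G a ∧ orderOf x = 2 ∧ x * ρ = ρ * x} = d ∧
    Nat.card ↥(centPt a ρ) = 2 * (d * Nat.card ↥(L ⊓ Cent ρ : Subgroup G)) := by
  classical
  have hnot := T.not_dvd_cent B hj hL hk hr hprim
  obtain ⟨M, hMC, hM2, hMn, hKM, hmem, hcard, hform⟩ := T.cent_rho_facts B hj hL hk hr hr5 hρ hρr hprim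
  set C := centPt a ρ with hC
  set K : Subgroup G := L ⊓ Cent ρ with hK
  set K' := K.subgroupOf C with hK'
  have hKC : K ≤ C := hKM.trans hMC
  have hJ2 := mul_self_of_orderOf T.invData.ordJ
  have hvv := mul_self_of_orderOf B.ord
  have hvi := inv_of_orderOf B.ord
  have hvρ := T.invert_rho B hL hr hρ hρr hnot
  have hva : (v : G) ∈ stabilizer G a := B.memH.1
  have hJa : J ∈ stabilizer G a := T.invData.smul_a
  have hJC : J ∈ C := ⟨hJa,
    Subgroup.mem_centralizer_singleton_iff.2 (Subgroup.mem_centralizer_singleton_iff.1 (hL.le hρ).2).symm⟩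
  have hcen : ∀ (x : ↥C) (y : ↥C), y ∈ K' → x * y = y * x := fun x y hy => Subtype.ext
    (T.central_of_primitive hL hr hprim hρ hρr hy.1 (Subgroup.mem_centralizer_singleton_iff.1 hy.2) x.2.1
      (Subgroup.mem_centralizer_singleton_iff.1 x.2.2))
  haveI : K'.Normal := ⟨fun y hy x => by rw [hcen x y hy, mul_inv_cancel_right]; exact hy⟩
  set π := QuotientGroup.mk' K' with hπ
  have hModd : ∀ {y : G}, y ∈ M → ¬ 2 ∣ orderOf y := fun hy h => hM2 (h.trans (Subgroup.orderOf_dvd_natCard _ hy))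
  have hK1 : ∀ {y : G}, y ∈ M → y * J = J * y → y ∈ K := fun {y} hy hyJ =>
    ⟨hL.mem y ⟨(hMC hy).1, Subgroup.mem_centralizer_singleton_iff.2 hyJ⟩ (hModd hy), (hMC hy).2⟩
  have hJM : ∀ {y : G}, y ∈ M → J * y * J ∈ M := fun {y} hy => by
    have := hMn J hJC y hy
    rwa [inv_of_orderOf T.invData.ordJ] at this
  have hvC : ∀ {x : G}, x ∈ C → (v : G) * x * v ∈ C := fun {x} hx =>
    ⟨Subgroup.mul_mem _ (Subgroup.mul_mem _ hva hx.1) hva, Subgroup.mem_centralizer_singleton_iff.2 (by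
      have hxρ : Commute x ρ := Subgroup.mem_centralizer_singleton_iff.1 hx.2
      have h3 : (v : G) * ρ = ρ⁻¹ * v := by
        calc (v : G) * ρ = (v : G) * ρ * v * v := by rw [mul_assoc _ (v : G) (v : G), hvv, mul_one]
          _ = ρ⁻¹ * v := by rw [hvρ]
      have h4 : (v : G) * ρ⁻¹ = ρ * v := by
        calc (v : G) * ρ⁻¹ = (v : G) * ((v : G) * ρ * v) := by rw [hvρ]
          _ = ((v : G) * v) * (ρ * v) := by group
          _ = ρ * v := by rw [hvv, one_mul]
      calc (v : G) * x * v * ρ = (v : G) * x * ((v : G) * ρ) := by group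
        _ = (v : G) * (x * ρ⁻¹) * v := by rw [h3]; group
        _ = (v : G) * ρ⁻¹ * x * v := by rw [hxρ.inv_right.eq]; group
        _ = _ := by rw [h4]; group)⟩
  have hvM : ∀ {y : G}, y ∈ M → (v : G) * y * v ∈ M := fun {y} hy => hmem _ (hvC (hMC hy)) (by
    have h := orderOf_conj_eq (v : G) y
    rw [hvi] at h
    rw [h]; exact hModd hy)
  have hvK : ∀ {y : G}, y ∈ K → (v : G) * y * v ∈ K := fun {y} hy =>
    ⟨T.conj_v_mem B hL hy.1, (hvC (hKC hy)).2⟩
  have hKcomm : ∀ {x y : G}, x ∈ C → y ∈ K → x * y = y * x := fun {x y} hx hy =>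
    congrArg Subtype.val (hcen ⟨x, hx⟩ ⟨y, hKC hy⟩ hy)
  have hKhalf : ∀ {y : G}, y ∈ K → ∃ t ∈ K, t * t = y ∧ ∀ w : G, w * w = 1 → w * y * w = y⁻¹ → w * t * w = t⁻¹ :=
    fun {y} hy => by
      obtain ⟨t, ht, h1, h2⟩ := exists_half (x := y) (Nat.odd_iff.2 (Nat.two_dvd_ne_zero.1 (T.odd_mem hL hy.1)))
      exact ⟨t, Subgroup.zpowers_le.2 hy ht, h1, h2⟩
  -- `J` inverts modulo `K`
  have hinv : ∀ {y : G}, y ∈ M → J * y * J * y ∈ K := by
    intro y hy
    set s := y⁻¹ * (J * y * J) with hs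
    have hsM : s ∈ M := mul_mem (inv_mem hy) (hJM hy)
    have hsJ : J * s * J = s⁻¹ := by
      rw [hs, mul_inv_rev, mul_inv_rev, mul_inv_rev, inv_inv, inv_of_orderOf T.invData.ordJ]
      calc J * (y⁻¹ * (J * y * J)) * J = J * y⁻¹ * J * y * (J * J) := by group
        _ = _ := by rw [hJ2]; group
    obtain ⟨t, htm, htt, htinv⟩ := exists_half (x := s) (Nat.odd_iff.2 (Nat.two_dvd_ne_zero.1 (hModd hsM)))
    have htJ := htinv J hJ2 hsJ
    have hyt : y * t ∈ K := by
      refine hK1 (mul_mem hy (Subgroup.zpowers_le.2 hsM htm)) ?_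
      calc y * t * J = (J * J) * (y * t) * J := by rw [hJ2, one_mul]
        _ = J * ((J * y * J) * (J * t * J)) := by
          calc J * J * (y * t) * J = J * (J * y * 1 * t * J) := by group
            _ = J * (J * y * (J * J) * t * J) := by rw [hJ2]
            _ = _ := by group
        _ = J * (y * t) := by
          rw [htJ, show J * y * J = y * s by rw [hs, mul_inv_cancel_left], ← htt]; group
    have h1 := hKcomm (hMC (Subgroup.zpowers_le.2 hsM htm)) hyt
    have h2 : J * y * J * y = y * t * (y * t) := by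
      rw [show J * y * J = y * s by rw [hs, mul_inv_cancel_left], ← htt]
      calc y * (t * t) * y = y * t * (t * (y * t)) * t⁻¹ := by group
        _ = _ := by rw [h1]; group
    rw [h2]
    exact mul_mem hyt hyt
  set M' := M.subgroupOf C with hM'
  set Mb := M'.map π with hMb
  have hMbc : Nat.card ↥Mb * Nat.card ↥K = Nat.card ↥M := by
    have h := card_map_mk K' (H := M') fun x hx => hKM hx
    rwa [Nat.card_congr (Subgroup.subgroupOfEquivOfLe hKC).toEquiv,
      Nat.card_congr (Subgroup.subgroupOfEquivOfLe hMC).toEquiv] at h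
  have hmk : ∀ {x y : ↥C}, ((x : G))⁻¹ * y ∈ K → π x = π y := fun {x y} h => QuotientGroup.eq.2 h
  have habel : ∀ p ∈ Mb, ∀ q ∈ Mb, p * q = q * p := by
    have key : ∀ p ∈ Mb, π ⟨J, hJC⟩ * p * π ⟨J, hJC⟩ = p⁻¹ := by
      rintro _ ⟨y, hy, rfl⟩
      refine eq_inv_of_mul_eq_one_left ?_
      rw [← map_mul, ← map_mul, ← map_mul]
      exact (QuotientGroup.eq_one_iff _).2 (hinv hy)
    intro p hp q hq
    have hJJ : π ⟨J, hJC⟩ * π ⟨J, hJC⟩ = 1 := by
      rw [← map_mul, show (⟨J, hJC⟩ : ↥C) * ⟨J, hJC⟩ = 1 from Subtype.ext hJ2, map_one]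
    have h := key _ (mul_mem hp hq)
    rw [show π ⟨J, hJC⟩ * (p * q) * π ⟨J, hJC⟩ = π ⟨J, hJC⟩ * p * 1 * q * π ⟨J, hJC⟩ by group, ← hJJ,
      show π ⟨J, hJC⟩ * p * (π ⟨J, hJC⟩ * π ⟨J, hJC⟩) * q * π ⟨J, hJC⟩ =
        (π ⟨J, hJC⟩ * p * π ⟨J, hJC⟩) * (π ⟨J, hJC⟩ * q * π ⟨J, hJC⟩) by group, key p hp, key q hq] at h
    have h' := congrArg (·⁻¹) h
    simp only [mul_inv_rev, inv_inv] at h'
    exact h'.symm
  -- the part centralised by an involution is small
  obtain ⟨c, hc⟩ : Nat.card ↥K ∣ Nat.card ↥L := Subgroup.card_dvd_of_le inf_le_left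
  have hcF : c ∣ Nat.card ↥(L ⊓ Cent (v : G) : Subgroup G) := by
    refine ⟨Nat.card ↥((L ⊓ Cent (v : G)) ⊓ K : Subgroup G), Nat.eq_of_mul_eq_mul_right (Nat.card_pos (α := ↥K)) ?_⟩
    rw [T.rho_cent_card B hj hL hk hr hr5 hρ hρr hprim, hc, ← hK]
    ring
  have hq := T.two_le_q
  have hMd : Nat.card ↥Mb ∣ 3 * (2 ^ k + 1) * c := by
    have h1 : Nat.card ↥M ∣ 12 * (2 ^ k * 2 ^ k - 1) :=
      T.card_stab ▸ Subgroup.card_dvd_of_le (hMC.trans inf_le_left)
    have e : 2 ^ k * 2 ^ k - 1 = (2 ^ k + 1) * (2 ^ k - 1) := by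
      obtain ⟨p, hp⟩ : ∃ p, 2 ^ k = p + 1 := ⟨2 ^ k - 1, by omega⟩
      rw [hp, Nat.add_sub_cancel]
      have : (p + 1) * (p + 1) = (p + 1 + 1) * p + 1 := by ring
      omega
    rw [show 12 * (2 ^ k * 2 ^ k - 1) = 2 ^ 2 * (3 * (2 ^ k * 2 ^ k - 1)) by ring] at h1
    have h2 := ((Nat.prime_two.coprime_iff_not_dvd.2 hM2).pow_left 2).symm.dvd_of_dvd_mul_left h1
    rw [e, ← hL.card, hc, ← hMbc,
      show 3 * ((2 ^ k + 1) * (Nat.card ↥K * c)) = 3 * (2 ^ k + 1) * c * Nat.card ↥K by ring] at h2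
    exact Nat.dvd_of_mul_dvd_mul_right Nat.card_pos h2
  have hsmall : ∀ w ∈ (pairStab a b ⊓ Cent J : Subgroup G), orderOf w = 2 → w ≠ J →
      Nat.card ↥(((M ⊓ Cent w).subgroupOf C).map π) ∣ 3 := by
    intro w hw hw2 hwJ
    have hle : ((M ⊓ Cent w).subgroupOf C).map π ≤ Mb := Subgroup.map_mono fun x hx => hx.1
    have hd := (Subgroup.card_dvd_of_le hle).trans hMd
    rw [mul_assoc] at hd
    refine Nat.Coprime.dvd_of_dvd_mul_right ?_ hd
    refine Nat.coprime_of_dvd fun l hl hlP hl' => ?_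
    haveI := Fact.mk hl
    obtain ⟨p', hp⟩ := exists_prime_orderOf_dvd_card' (G := ↥(((M ⊓ Cent w).subgroupOf C).map π)) l hlP
    rw [← Subgroup.orderOf_coe] at hp
    obtain ⟨x, hx, hxe⟩ := p'.2
    rw [← hxe] at hp
    obtain ⟨hxM, hxw⟩ := hx
    set y : G := (x : G)
    replace hxM : y ∈ M := hxM
    have hxw' : y * w = w * y := Subgroup.mem_centralizer_singleton_iff.1 hxw
    have hwJ2 : w * J = J * w := Subgroup.mem_centralizer_singleton_iff.1 hw.2
    set s := y * (J * y⁻¹ * J) with hs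
    have hsM : s ∈ M := mul_mem hxM (hJM (inv_mem hxM))
    have hsw : s * w = w * s := by
      refine ((show Commute y w from hxw').mul_left ?_).eq
      exact ((show Commute J w from hwJ2.symm).mul_left (show Commute y w from hxw').inv_left).mul_left hwJ2.symm
    have hsJ : J * s * J = s⁻¹ := by
      rw [hs, mul_inv_rev, mul_inv_rev, mul_inv_rev, inv_inv, inv_of_orderOf T.invData.ordJ]
      calc J * (y * (J * y⁻¹ * J)) * J = J * y * J * y⁻¹ * (J * J) := by group
        _ = _ := by rw [hJ2]; group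
    obtain ⟨y', hy'L, hy'v, hy'o⟩ := T.exists_inverted B hL (T.four_le hw) hw2 hwJ (hMC hsM).1 hsw (hModd hsM) hsJ
    have hxs : π ⟨s, hMC hsM⟩ = π x * π x := by
      rw [← map_mul]
      refine hmk (x := ⟨s, hMC hsM⟩) ?_
      show s⁻¹ * (y * y) ∈ K
      have h1 := hinv (inv_mem hxM)
      have h2 := hKcomm (hMC hxM) (inv_mem h1)
      have e : s⁻¹ * (y * y) = (J * y⁻¹ * J * y⁻¹)⁻¹ * (y⁻¹ * y⁻¹) * (y * y) := by
        calc s⁻¹ * (y * y) = (J * y⁻¹ * J)⁻¹ * y⁻¹ * (y * y) := by rw [hs]; group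
          _ = y⁻¹ * (y * ((J * y⁻¹ * J)⁻¹)) * y⁻¹ * (y * y) := by group
          _ = y⁻¹ * (J * y⁻¹ * J * y⁻¹)⁻¹ * y⁻¹ * (y * y) := by group
          _ = y⁻¹ * ((J * y⁻¹ * J * y⁻¹)⁻¹ * y) * y⁻¹ * y⁻¹ * (y * y) := by group
          _ = _ := by rw [← h2]; group
      rw [e, show (J * y⁻¹ * J * y⁻¹)⁻¹ * (y⁻¹ * y⁻¹) * (y * y) = (J * y⁻¹ * J * y⁻¹)⁻¹ by group]
      exact inv_mem h1
    have hld : l ∣ orderOf y' := by
      rw [hy'o]
      have h1 : orderOf (π ⟨s, hMC hsM⟩) ∣ orderOf s := by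
        have := orderOf_map_dvd π (⟨s, hMC hsM⟩ : ↥C)
        rwa [Subgroup.orderOf_mk] at this
      refine Nat.dvd_trans ?_ h1
      rw [hxs, ← pow_two, orderOf_pow' _ (by norm_num), hp]
      have hl2 : Nat.gcd l 2 = 1 := (Nat.coprime_primes hl Nat.prime_two).2 fun h2 => by
        subst h2
        have h3 := orderOf_map_dvd π x
        rw [hp, ← Subgroup.orderOf_coe] at h3
        exact hModd hxM h3
      rw [hl2, Nat.div_one]
    rcases hl.dvd_mul.1 hl' with h | h
    · have h1 : l ∣ 2 ^ k - 1 := hL.card ▸ hld.trans (Subgroup.orderOf_dvd_natCard _ hy'L)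
      have h2 := Nat.dvd_sub h h1
      rw [show 2 ^ k + 1 - (2 ^ k - 1) = 2 by omega] at h2
      rw [(Nat.prime_dvd_prime_iff_eq hl Nat.prime_two).1 h2] at h1
      exact T.odd_q_sub_one h1
    · exact hl.one_lt.ne' (Nat.eq_one_of_dvd_coprimes (T.inverted_coprime B hL hy'L hy'v) hld (h.trans hcF))
  set P1 := ((M ⊓ Cent (v : G)).subgroupOf C).map π with hP1
  set P2 := ((M ⊓ Cent ((v : G) * J)).subgroupOf C).map π with hP2
  have hfix : ∀ w : G, w * w = 1 → (∀ y ∈ K, w * y * w ∈ K) → ∀ z ∈ M, ∀ hzC : z ∈ C, z⁻¹ * (w * z * w) ∈ K →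
      π ⟨z, hzC⟩ ∈ ((M ⊓ Cent w).subgroupOf C).map π := by
    intro w hw hwK z hz hzC hzK
    obtain ⟨t, ht, htt, htinv⟩ := hKhalf hzK
    have htw := htinv w hw (by
      rw [mul_inv_rev, mul_inv_rev, mul_inv_rev, inv_inv, inv_eq_of_mul_eq_one_right hw]
      calc w * (z⁻¹ * (w * z * w)) * w = w * z⁻¹ * w * z * (w * w) := by group
        _ = _ := by rw [hw]; group)
    refine ⟨⟨z * t, mul_mem hzC (hKC ht)⟩, ⟨mul_mem hz (hKM ht), Subgroup.mem_centralizer_singleton_iff.2 ?_⟩, ?_⟩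
    · calc z * t * w = (w * w) * (z * t) * w := by rw [hw, one_mul]
        _ = w * ((w * z * w) * (w * t * w)) := by
          calc w * w * (z * t) * w = w * (w * z * 1 * t * w) := by group
            _ = w * (w * z * (w * w) * t * w) := by rw [hw]
            _ = _ := by group
        _ = w * (z * t) := by
          rw [htw, show w * z * w = z * (z⁻¹ * (w * z * w)) by group, ← htt]; group
    · refine (hmk ?_).symm
      show z⁻¹ * (z * t) ∈ K
      rwa [inv_mul_cancel_left]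
  have h3a := hsmall _ (T.v_mem B) B.ord B.ne
  have h3b := hsmall _ (T.vJ_mem' B) B.vJ_ord fun e => by
    have h1 : (v : G) = 1 := by simpa using e
    have := B.ord
    rw [h1, orderOf_one] at this
    norm_num at this
  have hle1 : P1 ≤ Mb := Subgroup.map_mono fun x hx => hx.1
  have hle2 : P2 ≤ Mb := Subgroup.map_mono fun x hx => hx.1
  have hgen : Mb ≤ P1 ⊔ P2 := by
    rintro _ ⟨x, hx, rfl⟩
    have hxM : (x : G) ∈ M := hx
    set y : G := (x : G) with hy
    have hyC : y ∈ C := x.2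
    have hm1 : ∀ {z : ↥C}, (z : G) ∈ M → π z ∈ Mb := fun h => ⟨_, h, rfl⟩
    have hu : π (⟨(v : G) * y * v, hvC hyC⟩) ∈ Mb := hm1 (z := ⟨_, hvC hyC⟩) (hvM hxM)
    have hxb : π x ∈ Mb := hm1 hxM
    -- the part fixed by `v`
    have h1 : π (x * ⟨(v : G) * y * v, hvC hyC⟩) ∈ P1 := by
      refine hfix v hvv (fun w hw => hvK hw) _ (mul_mem hxM (hvM hxM)) (mul_mem hyC (hvC hyC)) ?_
      have he : π (x * ⟨(v : G) * y * v, hvC hyC⟩) = π (⟨(v : G) * y * v, hvC hyC⟩ * x) := by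
        rw [map_mul, map_mul]; exact habel _ hxb _ hu
      have h := QuotientGroup.eq.1 he
      have hvv' : (v : G) * (y * ((v : G) * y * v)) * v = (v : G) * y * v * y := by
        calc (v : G) * (y * ((v : G) * y * v)) * v = (v : G) * y * v * y * ((v : G) * v) := by group
          _ = _ := by rw [hvv, mul_one]
      show (y * ((v : G) * y * v))⁻¹ * ((v : G) * (y * ((v : G) * y * v)) * v) ∈ K
      rw [hvv']
      exact h
    -- the part fixed by `v J`
    have h2 : π (x * ⟨(v : G) * y * v, hvC hyC⟩⁻¹) ∈ P2 := by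
      set z := y * ((v : G) * y * v)⁻¹ with hz
      have hzM : z ∈ M := mul_mem hxM (inv_mem (hvM hxM))
      refine hfix _ (mul_self_of_orderOf B.vJ_ord) (fun w hw => ?_) z hzM (hMC hzM) ?_
      · have hwJ : w * J = J * w := Subgroup.mem_centralizer_singleton_iff.1 (hL.le hw.1).2
        rw [show (v : G) * J * w * ((v : G) * J) = (v : G) * (J * w) * (v * J) by group, ← hwJ, B.comm_J,
          show (v : G) * (w * J) * (J * v) = (v : G) * w * (J * J) * v by group, hJ2, mul_one]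
        exact hvK hw
      · have hJz := hinv hzM
        have hk' := hvK hJz
        have hzv : (v : G) * z * v = z⁻¹ := by
          rw [hz]
          simp only [mul_inv_rev, inv_inv, hvi, mul_assoc, hvv, mul_one]
        have e : (v : G) * J * z * ((v : G) * J) = ((v : G) * (J * z * J * z) * v) * ((v : G) * z⁻¹ * v) := by
          rw [show (v : G) * J * z * ((v : G) * J) = (v : G) * J * z * (J * v) by rw [B.comm_J]]
          calc (v : G) * J * z * (J * v) = (v : G) * (J * z * J * z) * 1 * z⁻¹ * v := by group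
            _ = (v : G) * (J * z * J * z) * ((v : G) * v) * z⁻¹ * v := by rw [hvv]
            _ = _ := by group
        have hzv' : (v : G) * z⁻¹ * v = z := by
          calc (v : G) * z⁻¹ * v = (v : G) * ((v : G) * z * v) * v := by rw [hzv]
            _ = ((v : G) * v) * z * ((v : G) * v) := by group
            _ = z := by rw [hvv, one_mul, mul_one]
        rw [e, hzv', ← hKcomm (hMC hzM) hk', inv_mul_cancel_left]
        exact hk'
    have hsq : π x * π x ∈ P1 ⊔ P2 := by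
      have := Subgroup.mul_mem_sup h1 h2
      rwa [map_mul, map_mul, map_inv, mul_assoc, habel _ hu _ (mul_mem hxb (inv_mem hu)),
        inv_mul_cancel_right] at this
    have ho : ¬ 2 ∣ orderOf (π x) := fun h => hModd hxM (h.trans (by
      have := orderOf_map_dvd π x
      rwa [← Subgroup.orderOf_coe] at this))
    obtain ⟨t, ht⟩ := Nat.odd_iff.2 (Nat.two_dvd_ne_zero.1 ho)
    have hy1 : π x = (π x * π x) ^ (t + 1) := by
      rw [← pow_two, ← pow_mul, show 2 * (t + 1) = orderOf (π x) + 1 by omega, pow_succ, pow_orderOf_eq_one,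
        one_mul]
    rw [hy1]
    exact pow_mem hsq _
  have h9 : Nat.card ↥Mb ∣ 3 ^ 2 := by
    have hn : P1 ≤ Subgroup.normalizer (P2 : Set (↥C ⧸ K')) := fun p hp =>
      Subgroup.mem_normalizer_fintype fun q hq => by
        rw [habel p (hle1 hp) q (hle2 hq), mul_inv_cancel_right]; exact hq
    have hc' := CfsgLib.Core.card_sup_mul_card_inf P1 P2 hn
    exact ((Subgroup.card_dvd_of_le hgen).trans (Dvd.intro _ hc')).trans (by rw [pow_two]; exact mul_dvd_mul h3a h3b)
  refine ⟨Nat.card ↥Mb, ?_, ?_, by rw [hcard, hMbc]⟩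
  · obtain ⟨i, hi, he⟩ := (Nat.dvd_prime_pow Nat.prime_three).1 h9
    interval_cases i <;> simp_all
  -- the involutions are conjugate
  have hcount := card_orbit_mul C (fun x => x ∈ stabilizer G a ∧ orderOf x = 2 ∧ x * ρ = ρ * x) (J := J)
    ⟨hJC.1, T.invData.ordJ, Subgroup.mem_centralizer_singleton_iff.1 hJC.2⟩
    (fun n hn x hx => ⟨Subgroup.mul_mem _ (Subgroup.mul_mem _ hn.1 hx.1) (Subgroup.inv_mem _ hn.1),
      (orderOf_conj_eq n x).trans hx.2.1, by
        have hnρ : Commute n ρ := Subgroup.mem_centralizer_singleton_iff.1 hn.2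
        exact ((hnρ.mul_left hx.2.2).mul_left hnρ.inv_left).eq⟩)
    fun x hx => by
      obtain ⟨z, hz, hcase⟩ := hform x ⟨hx.1, Subgroup.mem_centralizer_singleton_iff.2 hx.2.2⟩
      rcases hcase with rfl | rfl
      · exact absurd (hx.2.1 ▸ dvd_rfl) (hModd hz)
      have hzi : J * z * J = z⁻¹ := eq_inv_of_mul_eq_one_left (by
        have h := mul_self_of_orderOf hx.2.1
        rw [← h]; group)
      obtain ⟨t, htm, htt, htinv⟩ := exists_half (x := z) (Nat.odd_iff.2 (Nat.two_dvd_ne_zero.1 (hModd hz)))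
      have htJ := htinv J hJ2 hzi
      refine ⟨t⁻¹, inv_mem (hMC (Subgroup.zpowers_le.2 hz htm)), ?_⟩
      rw [inv_inv, ← htJ, ← htt]
      calc J * t * J * J * t = J * t * (J * J) * t := by group
        _ = _ := by rw [hJ2]; group
  have hinf : Nat.card ↥(C ⊓ Cent J : Subgroup G) = 2 * Nat.card ↥K := by
    have hn : Subgroup.zpowers J ≤ Subgroup.normalizer (K : Set G) := Subgroup.zpowers_le.2
      (Subgroup.mem_normalizer_fintype fun y hy => by rw [hKcomm hJC hy, mul_inv_cancel_right]; exact hy)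
    have hi0 : Subgroup.zpowers J ⊓ K = ⊥ := (Subgroup.eq_bot_iff_forall _).2 fun y hy => by
      by_contra h1
      have h2 := orderOf_dvd_of_mem_zpowers hy.1
      rw [T.invData.ordJ] at h2
      rcases (Nat.dvd_prime Nat.prime_two).1 h2 with h3 | h3
      · exact h1 (orderOf_eq_one_iff.1 h3)
      · exact T.odd_mem hL hy.2.1 (h3 ▸ dvd_rfl)
    have h := CfsgLib.Core.card_sup_mul_card_inf (Subgroup.zpowers J) K hn
    rw [hi0, Subgroup.card_bot, mul_one, Nat.card_zpowers, T.invData.ordJ] at h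
    rw [← h]
    have heq : C ⊓ Cent J = Subgroup.zpowers J ⊔ K := by
      refine le_antisymm (fun x hx => ?_) (sup_le (Subgroup.zpowers_le.2
        ⟨hJC, Subgroup.mem_centralizer_singleton_iff.2 rfl⟩) fun y hy => ⟨hKC hy, (hL.le hy.1).2⟩)
      obtain ⟨l, hl, e | e⟩ := T.cent_rho_cases B hL hr hr5 hρ hρr hnot ⟨hx.1.1, hx.2⟩
        (Subgroup.mem_centralizer_singleton_iff.1 hx.1.2)
      · rw [e]; exact (le_sup_right : K ≤ _) hl
      · rw [e]; exact Subgroup.mul_mem_sup (Subgroup.mem_zpowers J) hl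
    rw [heq]
  rw [hinf, hcard, ← hMbc] at hcount
  exact Nat.eq_of_mul_eq_mul_right (show 0 < 2 * Nat.card ↥K from Nat.mul_pos (by norm_num) Nat.card_pos)
    (by rw [← hcount]; ring)

omit hj hL hk hr hr5 hρ hρr hprim in
/-- In case B the only generic possibility is `q = 16`. -/
theorem generic_caseB (hj : fixCard ↥(fixPts Ω J) (induce Ω J v) = 2 ^ m) (hk : k = m + m) (h3 : 3 ≤ k)
    (h6 : k ≠ 6) : k = 4 ∧ ∃ ρ : G, ρ ∈ centPt a J ∧ orderOf ρ = 5 ∧ Nat.card ↥(centPt a ρ) ∣ 30 := by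
  classical
  obtain ⟨L, hL⟩ := T.exists_lData
  obtain ⟨r, hr, hr5, hrd, hprim⟩ := T.exists_primitive h3 h6
  haveI := Fact.mk hr
  obtain ⟨ρ', hρ'⟩ := exists_prime_orderOf_dvd_card' (G := ↥L) r (hL.card ▸ hrd)
  set ρ : G := (ρ' : G) with hρdef
  have hρr : orderOf ρ = r := by rw [hρdef, Subgroup.orderOf_coe, hρ']
  obtain ⟨d, hd, hn, hC⟩ := T.count_caseB B hj hL hk hr hr5 ρ'.2 hρr hprim
  have hmod := T.card_fixed_involutions hr (hL.le ρ'.2).1 hρr
  rw [hn] at hmod
  have h6' : 3 * (2 ^ k + 1) ≡ 6 [MOD r] := by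
    have : 2 ^ k ≡ 1 [MOD r] := ((Nat.modEq_iff_dvd' (Nat.one_le_two_pow)).2 hrd).symm
    simpa using (this.add_right 1).mul_left 3
  have hn' := hmod.trans h6'
  rcases hd with rfl | rfl | rfl
  · obtain rfl : r = 5 :=
      (Nat.prime_dvd_prime_iff_eq hr Nat.prime_five).1 ((Nat.modEq_iff_dvd' (show 1 ≤ 6 by norm_num)).1 hn')
    have hk4 : k = 4 := by
      have h1 : ¬ 4 < k := fun h => hprim 4 (by norm_num) h (by norm_num)
      omega
    refine ⟨hk4, ρ, hL.le ρ'.2, hρr, ?_⟩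
    rw [hC, one_mul, show (30 : ℕ) = 2 * 15 from rfl]
    refine mul_dvd_mul_left 2 ?_
    have := (Subgroup.card_dvd_of_le (inf_le_left : L ⊓ Cent ρ ≤ L)).trans (dvd_of_eq hL.card)
    rw [hk4] at this
    exact this
  · have := Nat.le_of_dvd (by norm_num) ((Nat.modEq_iff_dvd' (show 3 ≤ 6 by norm_num)).1 hn')
    omega
  · have := Nat.le_of_dvd (by norm_num) ((Nat.modEq_iff_dvd' (show 6 ≤ 9 by norm_num)).1 hn'.symm)
    omega

end ThreeData

end CfsgLib.KimuraFour
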