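import Cfsg.Agent.Lib.Perm.KimuraFour.EvenSix
import Cfsg.Agent.Lib.Perm.KimuraFour.EvenFour
import Cfsg.Agent.Lib.Perm.KimuraFour.EvenOne
import Cfsg.Agent.Lib.Perm.KimuraFour.ThreeGenA
import Cfsg.Agent.Lib.Perm.KimuraFour.ThreeGenC
import Cfsg.Agent.Lib.Perm.KimuraFour.ThreeFourB
import Cfsg.Agent.Lib.Perm.KimuraFour.AffineSixteen

/-!
# Even degree
-/

set_option autoImplicit false

namespace CfsgLib.KimuraFour

open MulAction

variable {G : Type*} [Group G] [Finite G] {Ω : Type*} [MulAction G Ω] [Finite Ω] {a b : Ω} {J : G}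

local notation "Cent" J:max => Subgroup.centralizer (Singleton.singleton J : Set _)

/-- Degree `q ^ 2` in case A. -/
theorem ThreeData.affine_caseA {N : Subgroup G} {k : ℕ} (T : ThreeData G Ω a b J N k)
    (hA : Setting.CaseA a b J) :
    Nat.card Ω = 16 ∧ ∃ (F : Type) (_ : Field F) (_ : Fintype F), Fintype.card F = 4 ∧
      Nonempty (G ≃* ((Fin 2 → F) ≃ᵃ[F] (Fin 2 → F))) := by
  haveI := T.setting.faithful
  have hk0 := T.k_pos
  rcases eq_or_ne k 1 with h1 | h1
  · exact (T.not_two h1).elim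
  rcases eq_or_ne k 2 with h2 | h2
  · have hn : Nat.card Ω = 16 := by rw [T.deg, h2]; rfl
    have hG : Nat.card G = 2880 := by rw [T.card_G, h2]; rfl
    obtain ⟨y, hy3, hy⟩ := T.exists_central_three h2
    exact ⟨hn, exists_affine_sixteen T.setting.two hn hG T.kernel (a := a) (ω := (y : G))
      (by rw [Subgroup.orderOf_coe]; exact hy3) y.2 fun g hg => congrArg Subtype.val (hy ⟨g, hg⟩)⟩
  rcases eq_or_ne k 6 with h6 | h6
  · exact (T.not_sixty_four h6).elim
  exact (T.not_generic_caseA hA (by omega) h6).elim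

namespace Setting

variable (S : Setting G Ω a b) (D : InvData G Ω a b J)

include S D

/-- Even degree: six or sixteen points. -/
theorem even_degree (heven : Even (Nat.card Ω)) :
    (Nat.card Ω = 6 ∧ Nonempty (G ≃* ↥(alternatingGroup (Fin 6)))) ∨
      (Nat.card Ω = 16 ∧ ∃ (F : Type) (_ : Field F) (_ : Fintype F), Fintype.card F = 4 ∧
        Nonempty (G ≃* ((Fin 2 → F) ≃ᵃ[F] (Fin 2 → F)))) := by
  rcases S.cases D with ⟨hno, hd⟩ | ⟨z, hz, h1, h2, hd⟩ | ⟨z, hz, h1, h2, hd⟩ | ⟨z, hz, h1, h2, hd⟩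
  · by_cases hA : CaseA a b J
    · exact Or.inl (S.six_even_caseA D hno hd heven hA)
    · exact (S.six_even_caseB D hno hd heven hA).elim
  · exact (S.not_one_even D hz h1 h2 hd heven).elim
  · obtain ⟨N, k, T⟩ := S.exists_threeData D hz h1 h2 hd heven
    by_cases hA : CaseA a b J
    · exact Or.inr (T.affine_caseA hA)
    exfalso
    obtain ⟨v, B, m, hm0, hj, hi⟩ := S.three_caseB D hz h1 h2 hd heven hA
    have hk : k = m + m := by
      have h := T.fix
      rw [hi, ← pow_add] at h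
      exact ((Nat.pow_right_injective le_rfl) h).symm
    rcases eq_or_ne k 2 with h2' | h2'
    · exact T.not_four_caseB B hj (by omega) h2'
    rcases eq_or_ne k 6 with h6 | h6
    · exact T.not_sixty_four h6
    obtain ⟨h4, ρ, hρ, hρo, hC⟩ := T.generic_caseB B hj hk (by omega) h6
    exact T.not_sixteen B h4 hρ hρo hC
  · exact (S.not_four_even D hz h1 h2 hd heven).elim

end Setting

end CfsgLib.KimuraFour
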