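import Cfsg.Agent.Lib.Perm.KimuraFour.TwoStab
import Cfsg.Agent.Lib.Perm.KimuraFour.Complement
import Cfsg.Agent.Lib.Perm.SimpleCount
import Mathlib.GroupTheory.SpecificGroups.Alternating

/-!
# Even degree without central swap: degree six
-/

set_option autoImplicit false

namespace CfsgLib.KimuraFour

open MulAction

variable {G : Type*} [Group G] [Finite G] {Ω : Type*} [MulAction G Ω] [Finite Ω] {a b : Ω} {J : G}

local notation "Cent" J:max => Subgroup.centralizer (Singleton.singleton J : Set _)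

/-- A faithful group of order 360 on six points is alternating. -/
theorem iso_alternating_six [FaithfulSMul G Ω] (hn : Nat.card Ω = 6) (hG : Nat.card G = 360) :
    Nonempty (G ≃* ↥(alternatingGroup (Fin 6))) := by
  classical
  have := Fintype.ofFinite Ω
  haveI : Nontrivial Ω := Finite.one_lt_card_iff_nontrivial.1 (by omega)
  have hinj : Function.Injective (MulAction.toPermHom G Ω) := MulAction.toPerm_injective
  let e := MonoidHom.ofInjective hinj
  have hidx : (MulAction.toPermHom G Ω).range.index = 2 := by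
    have h := (MulAction.toPermHom G Ω).range.card_mul_index
    rw [← Nat.card_congr e.toEquiv, hG, Nat.card_perm, hn] at h
    have h6 : (6 : ℕ).factorial = 720 := rfl
    omega
  have heq := Equiv.Perm.eq_alternatingGroup_of_index_eq_two hidx
  let q : Ω ≃ Fin 6 := Finite.equivFinOfCardEq hn
  exact ⟨e.trans ((MulEquiv.subgroupCongr heq).trans q.altCongrHom)⟩

namespace Setting

variable (S : Setting G Ω a b) (D : InvData G Ω a b J) (hno : ∀ z : G, ¬ CenSwap a b z)
  (hn : Nat.card Ω = fixCard Ω J * (2 * fixCard Ω J - 1)) (heven : Even (Nat.card Ω))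

include S D hno hn heven

/-- In case A the degree is six. -/
theorem six_even_caseA (hA : CaseA a b J) :
    Nat.card Ω = 6 ∧ Nonempty (G ≃* ↥(alternatingGroup (Fin 6))) := by
  classical
  have hi : fixCard Ω J = 2 := by
    by_contra hne
    obtain ⟨k, N, R, -, -, -, hinv⟩ := D.even_induced (D.even_fixCard heven) (S.sharp_of_caseA D hA)
    haveI := R.normal
    obtain ⟨s₀, t, v₀, hd⟩ := S.exists_symData hno
    obtain ⟨s, hd', -⟩ := hd.exists_at S D.memJ D.ordJ
    have hsC : s ∈ Cent J := Subgroup.mem_centralizer_singleton_iff.2 (mul_inv_eq_iff_eq_mul.1 hd'.fix)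
    have hs2 := mul_self_of_orderOf hd'.hs
    set v := t * J * t⁻¹ with hv
    set v' := t⁻¹ * J * t with hv'
    have hvm : v ∈ (pairStab a b : Subgroup G) := mul_mem (mul_mem hd'.htH D.memJ) (inv_mem hd'.htH)
    have hvm' : v' ∈ (pairStab a b : Subgroup G) := mul_mem (mul_mem (inv_mem hd'.htH) D.memJ) hd'.htH
    have hv2 : orderOf v = 2 := (orderOf_conj_eq t J).trans D.ordJ
    have hv2' : orderOf v' = 2 := by rw [hv']; simpa using (orderOf_conj_eq t⁻¹ J).trans D.ordJ
    obtain ⟨n1, n2, n3⟩ := hd'.conjugates_ne S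
    have hvV : v ∈ (pairStab a b ⊓ Cent J : Subgroup G) :=
      ⟨hvm, (S.mem_cent_iff D hvm).2 (mul_self_of_orderOf hv2)⟩
    have hvV' : v' ∈ (pairStab a b ⊓ Cent J : Subgroup G) :=
      ⟨hvm', (S.mem_cent_iff D hvm').2 (mul_self_of_orderOf hv2')⟩
    have hcases : ∀ g ∈ Cent J, (g * v * g⁻¹ = v ∨ g * v * g⁻¹ = v') ∧ (g * v' * g⁻¹ = v ∨ g * v' * g⁻¹ = v') := by
      intro g hg
      have key : ∀ w : G, w ∈ (pairStab a b ⊓ Cent J : Subgroup G) → orderOf w = 2 → w ≠ J →
          g * w * g⁻¹ = v ∨ g * w * g⁻¹ = v' := by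
        intro w hw hw2 hwJ
        have hm := S.conj_four_caseA D hA hg hw
        rcases S.three_cycle hd'.htH hd'.ht D.memJ D.ordJ hm.1 ((orderOf_conj_eq g w).trans hw2) with e | e | e
        · exfalso
          refine hwJ ((MulAut.conj g).injective ?_)
          show g * w * g⁻¹ = g * J * g⁻¹
          rw [e, Subgroup.mem_centralizer_singleton_iff.1 hg, mul_inv_cancel_right]
        · exact Or.inl e
        · exact Or.inr e
      exact ⟨key v hvV hv2 n1, key v' hvV' hv2' n2⟩
    obtain ⟨d, hJd, hda, hdb⟩ : ∃ d : Ω, J • d = d ∧ d ≠ a ∧ d ≠ b := by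
      by_contra hcon
      push Not at hcon
      have := Fintype.ofFinite Ω
      refine hne (le_antisymm ?_ D.two_le_fixCard)
      rw [fixCard, Nat.card_eq_fintype_card, Fintype.card_subtype]
      refine (Finset.card_le_card (t := {a, b}) fun c hc => ?_).trans Finset.card_le_two
      simp only [Finset.mem_filter, Finset.mem_univ, true_and] at hc
      simp only [Finset.mem_insert, Finset.mem_singleton]
      by_cases h : c = a
      · exact Or.inl h
      · exact Or.inr (hcon c hc h)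
    obtain ⟨g, hg, hga, hgb⟩ := D.exists_centralizing D.smul_a D.smul_b D.smul_a hJd D.ne (Ne.symm hda)
    set y := s * (g * s * g⁻¹) with hy
    have hyC : y ∈ Cent J := mul_mem hsC (mul_mem (mul_mem hg hsC) (inv_mem hg))
    have hya : y • a = s • d := by
      rw [hy, mul_smul, mul_smul, mul_smul, show g⁻¹ • a = a by rw [inv_smul_eq_iff, hga], hd'.hsa, hgb]
    have hyne : a ≠ y • a := fun e => hdb (by
      rw [hya] at e
      rw [← hd'.hsa, e, smul_of_mul_self hs2])
    have hsw : s * v * s⁻¹ = v' := hd'.swap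
    have hsw' : s * v' * s⁻¹ = v := hd'.swap'
    have hgsw : g * s * g⁻¹ * v * (g * s * g⁻¹)⁻¹ = v' := by
      rcases (hcases g⁻¹ (inv_mem hg)).1 with e | e <;> rw [inv_inv] at e
      · rcases (hcases g hg).2 with e' | e'
        · exfalso
          have h1 : g * v * g⁻¹ = v := by
            conv_lhs => rw [← e]
            group
          exact n3 ((MulAut.conj g).injective (show g * v * g⁻¹ = g * v' * g⁻¹ by rw [h1, e']))
        · calc g * s * g⁻¹ * v * (g * s * g⁻¹)⁻¹ = g * (s * (g⁻¹ * v * g) * s⁻¹) * g⁻¹ := by group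
            _ = v' := by rw [e, hsw, e']
      · rcases (hcases g hg).1 with e' | e'
        · exfalso
          have h1 : g⁻¹ * v * g = v := by
            conv_lhs => rw [← e']
            group
          exact n3 (h1.symm.trans e)
        · calc g * s * g⁻¹ * v * (g * s * g⁻¹)⁻¹ = g * (s * (g⁻¹ * v * g) * s⁻¹) * g⁻¹ := by group
            _ = v' := by rw [e, hsw', e']
    have hycv : y * v * y⁻¹ = v := by
      calc y * v * y⁻¹ = s * (g * s * g⁻¹ * v * (g * s * g⁻¹)⁻¹) * s⁻¹ := by rw [hy]; group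
        _ = v := by rw [hgsw, hsw']
    have hycv' : y * v' * y⁻¹ = v' := by
      rcases (hcases y hyC).2 with e | e
      · exact absurd ((MulAut.conj y).injective (show y * v' * y⁻¹ = y * v * y⁻¹ by rw [e, hycv])) (Ne.symm n3)
      · exact e
    obtain ⟨h, hh, hha, hhb⟩ := D.exists_centralizing D.smul_a (smul_mem_fix hyC D.smul_a) D.smul_a D.smul_b
      hyne D.ne
    have hsN : induce Ω J ⟨s, hsC⟩ ∈ N := hinv _ (by
      rw [← map_mul, show (⟨s, hsC⟩ : ↥(Cent J)) * ⟨s, hsC⟩ = 1 from Subtype.ext hs2, map_one])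
    have hgsN : induce Ω J ⟨g * s * g⁻¹, mul_mem (mul_mem hg hsC) (inv_mem hg)⟩ ∈ N := by
      rw [show (⟨g * s * g⁻¹, mul_mem (mul_mem hg hsC) (inv_mem hg)⟩ : ↥(Cent J)) =
        ⟨g, hg⟩ * ⟨s, hsC⟩ * ⟨g, hg⟩⁻¹ from Subtype.ext rfl, map_mul, map_mul, map_inv]
      exact R.normal.conj_mem _ hsN _
    have hyN : induce Ω J ⟨y, hyC⟩ ∈ N := by
      rw [show (⟨y, hyC⟩ : ↥(Cent J)) = ⟨s, hsC⟩ * ⟨g * s * g⁻¹, mul_mem (mul_mem hg hsC) (inv_mem hg)⟩ from
        Subtype.ext rfl, map_mul]
      exact mul_mem hsN hgsN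
    set k := s⁻¹ * (h * y * h⁻¹) with hk
    have hkC : k ∈ Cent J := mul_mem (inv_mem hsC) (mul_mem (mul_mem hh hyC) (inv_mem hh))
    have hk1 : induce Ω J ⟨k, hkC⟩ = 1 := by
      refine R.free _ ?_ D.fa (Subtype.ext ?_)
      · rw [show (⟨k, hkC⟩ : ↥(Cent J)) = ⟨s, hsC⟩⁻¹ * (⟨h, hh⟩ * ⟨y, hyC⟩ * ⟨h, hh⟩⁻¹) from Subtype.ext rfl,
          map_mul, map_inv, map_mul, map_mul, map_inv]
        exact mul_mem (inv_mem hsN) (R.normal.conj_mem _ hyN _)
      · show k • a = a
        rw [hk, mul_smul, mul_smul, mul_smul, show h⁻¹ • a = a by rw [inv_smul_eq_iff, hha], hhb, inv_smul_eq_iff,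
          hd'.hsa]
    have hkV := (S.ker_iff_caseA D hA).1 ⟨hkC, (induce_eq_one_iff _).1 hk1⟩
    have hkv : k * v * k⁻¹ = v := by
      rw [(S.inv_mul hkV.1 ((S.mem_cent_iff D hkV.1).1 hkV.2) hvm (mul_self_of_orderOf hv2)).1, mul_inv_cancel_right]
    have hyh : h * y * h⁻¹ * v * (h * y * h⁻¹)⁻¹ = v := by
      have key : ∀ w : G, y * w * y⁻¹ = w → h⁻¹ * v * h = w → h * y * h⁻¹ * v * (h * y * h⁻¹)⁻¹ = v := by
        intro w hw e
        calc h * y * h⁻¹ * v * (h * y * h⁻¹)⁻¹ = h * (y * (h⁻¹ * v * h) * y⁻¹) * h⁻¹ := by group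
          _ = h * w * h⁻¹ := by rw [e, hw]
          _ = v := by rw [← e]; group
      rcases (hcases h⁻¹ (inv_mem hh)).1 with e | e <;> rw [inv_inv] at e
      · exact key v hycv e
      · exact key v' hycv' e
    have : s * v * s⁻¹ = v := by
      have e : h * y * h⁻¹ = s * k := by rw [hk]; group
      rw [e] at hyh
      calc s * v * s⁻¹ = s * (k * v * k⁻¹) * s⁻¹ := by rw [hkv]
        _ = s * k * v * (s * k)⁻¹ := by group
        _ = v := hyh
    rw [hsw] at this
    exact n3 this.symm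
  have h6 : Nat.card Ω = 6 := by rw [hn, hi]
  haveI := S.faithful
  exact ⟨h6, iso_alternating_six h6 (by rw [card_eq_pairStab S.two S.ne, h6, S.card_H])⟩

/-- Outside case A there is no such group. -/
theorem six_even_caseB (hB : ¬ CaseA a b J) : False := by
  classical
  have := Fintype.ofFinite Ω
  haveI := S.faithful
  obtain ⟨v, hvH, hv2, D', hstab⟩ := S.exists_induced D hB
  set u := induce Ω J v with hu
  have hu2 := mul_self_of_orderOf D'.ordJ
  have hu1 : u ≠ 1 := fun h => by simpa [h] using D'.ordJ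
  obtain ⟨s₀, t, v₀, hd⟩ := S.exists_symData hno
  obtain ⟨s, hd', -⟩ := hd.exists_at S D.memJ D.ordJ
  have hsC : s ∈ Cent J := Subgroup.mem_centralizer_singleton_iff.2 (mul_inv_eq_iff_eq_mul.1 hd'.fix)
  have hs2 := mul_self_of_orderOf hd'.hs
  have hvC := Subgroup.mem_centralizer_singleton_iff.1 v.2
  have hJ2 := mul_self_of_orderOf D.ordJ
  have hJi := inv_of_orderOf D.ordJ
  have hsv : s * (v : G) * s⁻¹ = v * J := by
    have hsH : s * (v : G) * s⁻¹ ∈ (pairStab a b : Subgroup G) := S.conj_mem_of_swap hd'.hsa hd'.swap_back hvH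
    have hvJ : (v : G) ≠ J := fun h => hu1 ((induce_eq_one_iff v).2 fun c hc => by rw [h]; exact hc)
    have hne1 : s * (v : G) * s⁻¹ ≠ J := fun h => hvJ ((MulAut.conj s).injective
      (show s * (v : G) * s⁻¹ = s * J * s⁻¹ by rw [h, hd'.fix]))
    have hne2 : s * (v : G) * s⁻¹ ≠ v := by
      intro h
      obtain ⟨-, -, n3⟩ := hd'.conjugates_ne S
      rcases S.three_cycle hd'.htH hd'.ht D.memJ D.ordJ hvH hv2 with e | e | e
      · exact hvJ e
      · rw [e, hd'.swap] at h
        exact n3 h.symm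
      · rw [e, hd'.swap'] at h
        exact n3 h
    exact (S.inv_third hvH hv2 D.memJ D.ordJ hsH ((orderOf_conj_eq s _).trans hv2) hvJ (Ne.symm hne2)
      (Ne.symm hne1)).symm
  set z := induce Ω J ⟨s, hsC⟩ with hz
  have hza : z • D.fa = D.fb := Subtype.ext hd'.hsa
  have hz2 : z * z = 1 := by
    rw [hz, ← map_mul, show (⟨s, hsC⟩ : ↥(Cent J)) * ⟨s, hsC⟩ = 1 from Subtype.ext hs2, map_one]
  have hJker : ∀ g : ↥(Cent J), (g : G) = J → induce Ω J g = 1 := fun g hg =>
    (induce_eq_one_iff g).2 fun c hc => by rw [hg, hc]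
  have hzu : z * u = u * z := by
    have h : z * u * z⁻¹ = u := by
      rw [hz, hu, ← map_inv, ← map_mul, ← map_mul, induce_eq_iff]
      intro c hc
      show (s * (v : G) * s⁻¹) • c = (v : G) • c
      rw [hsv, mul_smul, hc]
    exact mul_inv_eq_iff_eq_mul.1 h
  have hker : ∀ g : ↥(Cent J), induce Ω J g = 1 → (g : G) = 1 ∨ (g : G) = J := by
    intro g hg
    have h1 := (induce_eq_one_iff g).1 hg
    have hgH : (g : G) ∈ (pairStab a b : Subgroup G) := mem_pairStab.2 ⟨h1 a D.smul_a, h1 b D.smul_b⟩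
    have hg2 := (S.mem_cent_iff D hgH).1 g.2
    by_contra hcon
    push Not at hcon
    refine hu1 ((induce_eq_one_iff v).2 fun c hc => ?_)
    by_cases hgv : (g : G) = v
    · rw [← hgv]; exact h1 c hc
    have hvJ : (v : G) ≠ J := fun h => hu1 ((induce_eq_one_iff v).2 fun c hc => by rw [h]; exact hc)
    have h3 := S.inv_third hvH hv2 D.memJ D.ordJ hgH (orderOf_two_of hg2 hcon.1) hvJ (Ne.symm hgv)
      (Ne.symm hcon.2)
    have h4 := h1 c hc
    rwa [← h3, mul_smul, hc] at h4
  have hzu2 : orderOf (z * u) = 2 := orderOf_two_of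
    (by rw [show z * u * (z * u) = z * (u * z) * u by group, ← hzu,
      show z * (z * u) * u = (z * z) * (u * u) by group, hz2, hu2, mul_one])
    (fun h => D.fa_ne_fb (by
      have := congrArg (· • D.fa) h
      simp only [one_smul, mul_smul, (mem_pairStab.1 D'.memJ).1, hza] at this
      exact this.symm))
  have hzu_a : (z * u) • D.fa = D.fb := by rw [mul_smul, (mem_pairStab.1 D'.memJ).1, hza]
  have hswap : ∀ x, orderOf x = 2 → x • D.fa = D.fb → x = z ∨ x = z * u := by
    intro x hx hxa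
    have hxb : x • D.fb = D.fa := by rw [← hxa, smul_of_mul_self (mul_self_of_orderOf hx)]
    have hzb : z • D.fb = D.fa := by rw [← hza, smul_of_mul_self hz2]
    have hm : z * x ∈ (pairStab D.fa D.fb : Subgroup ↥(inducedPerm Ω J)) := mem_pairStab.2
      ⟨by rw [mul_smul, hxa, hzb], by rw [mul_smul, hxb, hza]⟩
    rcases hstab _ hm with h | h
    · left; rw [eq_inv_of_mul_eq_one_right h, inv_eq_of_mul_eq_one_right hz2]
    · right
      rw [← h, ← mul_assoc, hz2, one_mul]
  -- the product of the swap and `u` lifts only to elements of order four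
  have hlift : ∀ g : ↥(Cent J), induce Ω J g = z * u → (g : G) * g = J := by
    intro g hg
    have h1 : induce Ω J ((⟨s, hsC⟩ * v)⁻¹ * g) = 1 := by rw [map_mul, map_inv, map_mul, hg, inv_mul_cancel]
    have hsq : s * (v : G) * (s * v) = J := by
      calc s * (v : G) * (s * v) = (s * v * s⁻¹) * (s * s) * v := by group
        _ = v * J * v := by rw [hsv, hs2, mul_one]
        _ = J := by rw [hvC, mul_assoc, mul_self_of_orderOf hv2, mul_one]
    rcases hker _ h1 with e | e
    · have : (g : G) = s * v := by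
        have e' : (s * (v : G))⁻¹ * g = 1 := e
        exact (inv_mul_eq_one.1 e').symm
      rw [this, hsq]
    · have : (g : G) = s * v * J := by
        have e' : (s * (v : G))⁻¹ * g = J := e
        calc (g : G) = s * (v : G) * ((s * (v : G))⁻¹ * g) := by group
          _ = _ := by rw [e']
      have hJc : s * (v : G) * J = J * (s * v) :=
        Subgroup.mem_centralizer_singleton_iff.1 (mul_mem hsC v.2)
      calc (g : G) * g = s * v * J * (s * v * J) := by rw [this]
        _ = J * (s * v) * (s * v * J) := by rw [hJc]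
        _ = J * (s * v * (s * v)) * J := by group
        _ = J := by rw [hsq, hJ2, one_mul]
  have hzun : ¬ IsConj u (z * u) := by
    intro hc
    obtain ⟨g, hg⟩ := isConj_iff.1 hc
    obtain ⟨g', rfl⟩ := induce_surjective J g
    rw [hu, ← map_inv, ← map_mul, ← map_mul] at hg
    have h1 := hlift _ hg
    have h2 : ((g' * v * g'⁻¹ : ↥(Cent J)) : G) * ((g' * v * g'⁻¹ : ↥(Cent J)) : G) = 1 := by
      show (g' : G) * v * (g' : G)⁻¹ * ((g' : G) * v * (g' : G)⁻¹) = 1
      rw [show (g' : G) * v * (g' : G)⁻¹ * ((g' : G) * v * (g' : G)⁻¹) = g' * ((v : G) * v) * (g' : G)⁻¹ by group,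
        mul_self_of_orderOf hv2]; group
    rw [h2] at h1
    have := D.ordJ
    rw [← h1, orderOf_one] at this; norm_num at this
  have hevenF : Even (Nat.card ↥(fixPts Ω J)) := by rw [card_fixPts]; exact D.even_fixCard heven
  have hzconj : ∀ x, IsConj u x → x • D.fa = D.fb → x = z := fun x hx hxa =>
    (hswap x (D'.orderOf_of_conj hx) hxa).resolve_right fun h => hzun (h ▸ hx)
  have hother : ∀ x, orderOf x = 2 → ¬ IsConj u x → x • D.fa = D.fb → x = z * u := by
    intro x hx hxn hxa
    refine (hswap x hx hxa).resolve_left fun h => hxn ?_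
    obtain ⟨y, hy, hya⟩ := D'.exists_conj_swap
    rw [h, ← hzconj y hy hya]; exact hy
  obtain ⟨m, N, R, hm, -, hi, hN⟩ := D'.translations_of_two hstab hevenF
    (fun x y hx hxa hy hya => (hzconj x hx hxa).trans (hzconj y hy hya).symm)
    (fun x y hx hxn hxa hy hyn hya => (hother x hx hxn hxa).trans (hother y hy hyn hya).symm)
    hzu2 hzun hzu_a
  haveI := R.normal
  -- every translation lifts to an element with square `J`
  have hsq : ∀ g : ↥(Cent J), induce Ω J g ∈ N → induce Ω J g ≠ 1 → (g : G) * g = J := by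
    intro g hg hg1
    obtain ⟨ho, hnc⟩ := hN _ hg hg1
    have hne : D.fa ≠ induce Ω J g • D.fa := fun e => hg1 (R.free _ hg _ e.symm)
    obtain ⟨x, hx1, hx2⟩ := exists_smul_pair D'.two hne D'.ne
    change x • D.fa = D.fa at hx1
    change x • induce Ω J g • D.fa = D.fb at hx2
    obtain ⟨x', rfl⟩ := induce_surjective J x
    have he : induce Ω J (x' * g * x'⁻¹) = z * u := by
      rw [map_mul, map_mul, map_inv]
      refine hother _ ((orderOf_conj_eq _ _).trans ho) (fun e => hnc (e.trans (isConj_iff.2 ⟨(induce Ω J x')⁻¹, by group⟩))) ?_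
      rw [mul_smul, mul_smul, show (induce Ω J x')⁻¹ • D.fa = D.fa by rw [inv_smul_eq_iff, hx1], hx2]
    have h := hlift _ he
    have hx'C := Subgroup.mem_centralizer_singleton_iff.1 x'.2
    calc (g : G) * g = (x' : G)⁻¹ * (((x' * g * x'⁻¹ : ↥(Cent J)) : G) * ((x' * g * x'⁻¹ : ↥(Cent J)) : G)) * x' := by
          show _ = (x' : G)⁻¹ * ((x' : G) * g * (x' : G)⁻¹ * ((x' : G) * g * (x' : G)⁻¹)) * x'
          group
      _ = J := by rw [h, mul_assoc, ← hx'C, inv_mul_cancel_left]
  have hanti : ∀ q r : ↥(Cent J), induce Ω J q ∈ N → induce Ω J r ∈ N → induce Ω J q ≠ 1 → induce Ω J r ≠ 1 →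
      induce Ω J q ≠ induce Ω J r → (r : G) * q = q * r * J := by
    intro q r hq hr hq1 hr1 hne
    have hqr : induce Ω J (q * r) ≠ 1 := by
      rw [map_mul]
      intro e
      refine hne (mul_right_cancel (b := induce Ω J r) ?_)
      rw [e, ← pow_two, R.pow _ hr]
    have h1 : (q : G) * r * (q * r) = J := hsq _ (by rw [map_mul]; exact mul_mem hq hr) hqr
    have h2 := hsq q hq hq1
    have h3 := hsq r hr hr1
    calc (r : G) * q = (q : G)⁻¹ * ((q : G) * r * (q * r)) * (r : G)⁻¹ := by group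
      _ = (q : G)⁻¹ * (q * q) * (r : G)⁻¹ := by rw [h1, h2]
      _ = q * r * ((r : G) * r)⁻¹ := by group
      _ = q * r * J := by rw [h3, hJi]
  have h4 : m = 1 := by
    by_contra hm1
    haveI : Nonempty ↥(fixPts Ω J) := ⟨D.fa⟩
    have hc : 8 ≤ Nat.card ↥N := by
      rw [R.card, hi]
      calc 8 ≤ 2 ^ 2 * 2 ^ 2 := by norm_num
        _ ≤ _ := Nat.mul_le_mul (Nat.pow_le_pow_right (by norm_num) (by omega))
            (Nat.pow_le_pow_right (by norm_num) (by omega))
    have := Fintype.ofFinite ↥N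
    rw [Nat.card_eq_fintype_card] at hc
    have pick : ∀ T : Finset ↥N, T.card < 8 → ∃ x : ↥N, x ∉ T := fun T hT => by
      by_contra hcon
      push Not at hcon
      have : (Finset.univ : Finset ↥N).card ≤ T.card := Finset.card_le_card fun x _ => hcon x
      rw [Finset.card_univ] at this
      omega
    obtain ⟨q, hq⟩ := pick {1} (by simp)
    obtain ⟨r, hr⟩ := pick {1, q} (lt_of_le_of_lt Finset.card_le_two (by norm_num))
    obtain ⟨w, hw⟩ := pick {1, q, r, q * r} (lt_of_le_of_lt Finset.card_le_four (by norm_num))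
    simp only [Finset.mem_insert, Finset.mem_singleton, not_or] at hq hr hw
    obtain ⟨q', hq'⟩ := induce_surjective J q.1
    obtain ⟨r', hr'⟩ := induce_surjective J r.1
    obtain ⟨w', hw'⟩ := induce_surjective J w.1
    have hr2 : r * r = 1 := Subtype.ext (by rw [Subgroup.coe_mul, ← pow_two, R.pow _ r.2, Subgroup.coe_one])
    have hq2 : q * q = 1 := Subtype.ext (by rw [Subgroup.coe_mul, ← pow_two, R.pow _ q.2, Subgroup.coe_one])
    have ne : ∀ x y : ↥N, x ≠ y → (x : ↥(inducedPerm Ω J)) ≠ y := fun x y h e => h (Subtype.ext e)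
    have a1 := hanti q' r' (hq' ▸ q.2) (hr' ▸ r.2) (by rw [hq']; exact ne _ 1 hq) (by rw [hr']; exact ne _ 1 hr.1)
      (by rw [hq', hr']; exact ne _ _ (Ne.symm hr.2))
    have a2 := hanti q' w' (hq' ▸ q.2) (hw' ▸ w.2) (by rw [hq']; exact ne _ 1 hq) (by rw [hw']; exact ne _ 1 hw.1)
      (by rw [hq', hw']; exact ne _ _ (Ne.symm hw.2.1))
    have hrw1 : r * w ≠ 1 := fun e => hw.2.2.1 (mul_left_cancel (a := r) (by rw [e, hr2]))
    have hrwq : q ≠ r * w := fun e => hw.2.2.2 (by
      refine mul_left_cancel (a := r) ?_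
      rw [← e, show r * (q * r) = r * q * r from (mul_assoc _ _ _).symm,
        show r * q = q * r from Subtype.ext (R.comm _ r.2 _ q.2), mul_assoc, hr2, mul_one])
    have a3 := hanti q' (r' * w') (hq' ▸ q.2) (by rw [map_mul, hr', hw']; exact mul_mem r.2 w.2)
      (by rw [hq']; exact ne _ 1 hq) (by rw [map_mul, hr', hw']; exact ne (r * w) 1 hrw1)
      (by rw [hq', map_mul, hr', hw']; exact ne q (r * w) hrwq)
    rw [Subgroup.coe_mul] at a3
    have hJc : J * (w' : G) = w' * J := (Subgroup.mem_centralizer_singleton_iff.1 w'.2).symm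
    have a4 : (r' : G) * w' * q' = q' * (r' * w') := by
      calc (r' : G) * w' * q' = r' * (w' * q') := mul_assoc _ _ _
        _ = (r' * q') * (w' * J) := by rw [a2]; group
        _ = q' * r' * (J * w') * J := by rw [a1]; group
        _ = q' * (r' * w') * (J * J) := by rw [hJc]; group
        _ = _ := by rw [hJ2, mul_one]
    rw [a4] at a3
    have : J = 1 := mul_left_cancel (a := (q' : G) * (r' * w')) (by rw [mul_one]; exact a3.symm)
    simpa [this] using D.ordJ
  -- degree twenty-eight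
  have hi4 : fixCard Ω J = 4 := by rw [← card_fixPts, hi, h4]; rfl
  have h28 : Nat.card Ω = 28 := by rw [hn, hi4]
  have hG : Nat.card G = 9072 := by rw [card_eq_pairStab S.two S.ne, h28, S.card_H]
  haveI : IsPretransitive G Ω := isPretransitive_of_is_two_pretransitive (h2 := S.two)
  haveI : Fact (Nat.Prime 7) := ⟨by norm_num⟩
  haveI : Fact (Nat.Prime 3) := ⟨Nat.prime_three⟩
  haveI : Fact (Nat.Prime 2) := ⟨Nat.prime_two⟩
  obtain ⟨P⟩ : Nonempty (Sylow 7 G) := inferInstance
  have hPc : Nat.card ↥(P : Subgroup G) = 7 :=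
    CfsgLib.Perm.sylow_card_eq P (k := 1) (m := 1296) (by rw [hG]; norm_num) (by norm_num)
  obtain ⟨⟨y, hyP⟩, hy⟩ := exists_prime_orderOf_dvd_card' (G := ↥(P : Subgroup G)) 7 (by rw [hPc])
  rw [Subgroup.orderOf_mk] at hy
  have hyfix : ∀ c : Ω, y • c ≠ c := by
    intro c hc
    have h := Subgroup.orderOf_dvd_natCard _ (show y ∈ stabilizer G c from hc)
    have h1 := (stabilizer G c).card_mul_index
    rw [MulAction.index_stabilizer_of_transitive, h28, hG] at h1
    rw [hy, show Nat.card ↥(stabilizer G c) = 324 by omega] at h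
    norm_num at h
  have hCodd : ∀ x ∈ Cent y, orderOf x ≠ 2 := by
    intro x hx hx2
    obtain ⟨g, hg⟩ := isConj_iff.1 (S.isConj_of_sym D hno hx2)
    have hm : g⁻¹ * y * g ∈ Cent J := Subgroup.mem_centralizer_singleton_iff.2 (by
      have hc := Subgroup.mem_centralizer_singleton_iff.1 hx
      calc g⁻¹ * y * g * J = g⁻¹ * (y * (g * J * g⁻¹)) * g := by group
        _ = g⁻¹ * (x * y) * g := by rw [hg, hc]
        _ = _ := by rw [← hg]; group)
    have h := Subgroup.orderOf_dvd_natCard _ hm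
    rw [S.card_cent_four D, hi4, show orderOf (g⁻¹ * y * g) = 7 by simpa using (orderOf_conj_eq g⁻¹ y).trans hy] at h
    norm_num at h
  set Q := Subgroup.zpowers y with hQ
  have hPQ : (P : Subgroup G) = Q := (Subgroup.eq_of_le_of_card_ge (Subgroup.zpowers_le.2 hyP)
    (by rw [hPc, Nat.card_zpowers, hy])).symm
  set NQ := Subgroup.normalizer (Q : Set G) with hNQ
  have hn7 : Nat.card (Sylow 7 G) * Nat.card ↥NQ = 9072 := by
    rw [Sylow.card_eq_index_normalizer P, mul_comm, ← hG]
    show Nat.card ↥NQ * (Subgroup.normalizer ((P : Subgroup G) : Set G)).index = _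
    rw [hPQ]
    exact NQ.card_mul_index
  -- the action on `Q`
  set φ := Q.normalizerMonoidHom with hφ
  have hker : ∀ x : ↥NQ, x ∈ φ.ker ↔ (x : G) ∈ Cent y := by
    intro x
    rw [hφ, Subgroup.normalizerMonoidHom_ker, Subgroup.mem_subgroupOf, Subgroup.mem_centralizer_singleton_iff,
      Subgroup.mem_centralizer_iff]
    refine ⟨fun h => (h y (Subgroup.mem_zpowers y)).symm, fun h w hw => ?_⟩
    obtain ⟨i, rfl⟩ := Subgroup.mem_zpowers_iff.1 hw
    exact ((show Commute (x : G) y from h).zpow_right i).eq.symm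
  have haut : Nat.card (MulAut ↥Q) ∣ 6 := by
    haveI : IsCyclic ↥Q := inferInstance
    rw [Nat.card_congr (IsCyclic.mulAutMulEquiv ↥Q).toEquiv, Nat.card_eq_fintype_card, ZMod.card_units_eq_totient,
      Nat.card_zpowers, hy, Nat.totient_prime (by norm_num)]
  have hkodd : ¬ 2 ∣ Nat.card ↥φ.ker := fun h => by
    obtain ⟨x, hx⟩ := exists_prime_orderOf_dvd_card' 2 h
    exact hCodd (x : ↥NQ) ((hker _).1 x.2) (by rw [Subgroup.orderOf_coe, Subgroup.orderOf_coe, hx])
  have hNsplit : Nat.card ↥φ.ker * Nat.card ↥φ.range = Nat.card ↥NQ := by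
    rw [← Subgroup.index_ker]; exact φ.ker.card_mul_index
  have hrange : Nat.card ↥φ.range ∣ 6 := (Subgroup.card_subgroup_dvd_card _).trans haut
  have hn7d : Nat.card (Sylow 7 G) ∣ 1296 := CfsgLib.Perm.card_sylow_dvd_of_card_eq (k := 1) (m := 1296)
    (by rw [hG]; norm_num)
  have hn7m : Nat.card (Sylow 7 G) % 7 = 1 := card_sylow_modEq_one 7 G
  have h2part : ¬ 4 ∣ Nat.card ↥NQ := by
    intro h
    rw [← hNsplit] at h
    have h4 : 4 ∣ Nat.card ↥φ.range := (Nat.Coprime.dvd_mul_left (show (4 : ℕ).Coprime (Nat.card ↥φ.ker) from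
      (Nat.Coprime.pow_left 2 ((Nat.prime_two.coprime_iff_not_dvd).2 hkodd)))).1 h
    have := h4.trans hrange
    norm_num at this
  have hn8 : Nat.card (Sylow 7 G) = 8 ∨ Nat.card (Sylow 7 G) = 1296 := by
    set q := Nat.card (Sylow 7 G) with hq
    have hle := Nat.le_of_dvd (by norm_num) hn7d
    have hmem : q ∈ Nat.divisors 1296 := Nat.mem_divisors.2 ⟨hn7d, by norm_num⟩
    have key : ∀ d ∈ Nat.divisors 1296, d % 7 = 1 → d = 8 ∨ d = 1296 ∨ 4 ∣ 9072 / d := by decide +kernel
    rcases key q hmem hn7m with h | h | h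
    · exact Or.inl h
    · exact Or.inr h
    · exfalso
      rw [← hn7, Nat.mul_div_cancel_left _ (Nat.pos_of_dvd_of_pos hn7d (by norm_num))] at h
      exact h2part h
  rcases hn8 with h8 | h1296
  · -- eight Sylow subgroups
    have hN : Nat.card ↥NQ = 1134 := by rw [h8] at hn7; omega
    have h9 : 3 ^ 2 ∣ Nat.card ↥φ.ker := by
      have h : 3 ^ 3 ∣ Nat.card ↥φ.ker * 6 :=
        ((show 3 ^ 3 ∣ 1134 by norm_num).trans (dvd_of_eq (hN ▸ hNsplit).symm)).trans (mul_dvd_mul_left _ hrange)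
      rw [show Nat.card ↥φ.ker * 6 = 3 * (Nat.card ↥φ.ker * 2) by ring, show 3 ^ 3 = 3 * 3 ^ 2 by norm_num] at h
      exact (show (3 ^ 2 : ℕ).Coprime 2 by norm_num).dvd_of_dvd_mul_right (Nat.dvd_of_mul_dvd_mul_left (by norm_num) h)
    obtain ⟨R', hR'⟩ := Sylow.exists_subgroup_card_pow_prime 3 h9
    let R3 : Subgroup G := (R'.map φ.ker.subtype).map NQ.subtype
    have hR3c : Nat.card ↥R3 = 9 := by
      rw [Nat.card_congr (Subgroup.equivMapOfInjective _ _ NQ.subtype_injective).symm.toEquiv,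
        Nat.card_congr (Subgroup.equivMapOfInjective _ _ φ.ker.subtype_injective).symm.toEquiv, hR']
      norm_num
    have hR3y : ∀ w ∈ R3, w * y = y * w := by
      rintro _ ⟨w, ⟨⟨w', hw'⟩, -, rfl⟩, rfl⟩
      exact Subgroup.mem_centralizer_singleton_iff.1 ((hker _).1 hw')
    obtain ⟨c, hc⟩ : ∃ c : Ω, ∀ w : ↥R3, w • c = c := by
      have h := (IsPGroup.of_card (n := 2) (by rw [hR3c]; norm_num) : IsPGroup 3 ↥R3).card_modEq_card_fixedPoints Ω
      rw [h28] at h
      have : Nonempty ↥(MulAction.fixedPoints ↥R3 Ω) := (Nat.card_pos_iff.1 (by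
        rw [Nat.ModEq] at h; omega)).1
      exact ⟨this.some.1, this.some.2⟩
    obtain ⟨g, hg1, hg2⟩ := exists_smul_pair S.two S.ne (Ne.symm (hyfix c))
    change g • a = c at hg1
    change g • b = y • c at hg2
    have hle : R3.map (MulAut.conj g⁻¹).toMonoidHom ≤ pairStab a b := by
      rintro _ ⟨w, hw, rfl⟩
      show g⁻¹ * w * g⁻¹⁻¹ ∈ pairStab a b
      rw [inv_inv, ← conj_mem_pairStab_iff g, show g * (g⁻¹ * w * g) * g⁻¹ = w by group, hg1, hg2]
      have hwc : w • c = c := hc ⟨w, hw⟩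
      exact mem_pairStab.2 ⟨hwc, by rw [← mul_smul, hR3y w hw, mul_smul, hwc]⟩
    have := Subgroup.card_dvd_of_le hle
    rw [← Nat.card_congr (R3.equivMapOfInjective _ (MulAut.conj g⁻¹).injective).toEquiv, hR3c, S.card_H] at this
    norm_num at this
  · -- a self-normalising Sylow subgroup
    have hN : Nat.card ↥NQ = 7 := by rw [h1296] at hn7; omega
    have hNQ' : NQ = Q := (Subgroup.eq_of_le_of_card_ge Subgroup.le_normalizer
      (by rw [hN, Nat.card_zpowers, hy])).symm
    obtain ⟨M, -, hMn, hMQ, hMin, hMo⟩ := exists_complement_in (q := 7) (C := (⊤ : Subgroup G)) (Q := Q) le_top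
      (IsPGroup.of_card (n := 1) (by rw [Nat.card_zpowers, hy, pow_one]))
      (fun x _ _ hx => hNQ'.le hx) (fun x _ hx w hw => by
        obtain ⟨i, rfl⟩ := Subgroup.mem_zpowers_iff.1 (hNQ'.le hx)
        obtain ⟨j, rfl⟩ := Subgroup.mem_zpowers_iff.1 hw
        rw [← zpow_add, ← zpow_add, add_comm])
    haveI : M.Normal := ⟨fun m hm g => hMn g (Subgroup.mem_top g) m hm⟩
    have hMne : M ≠ ⊥ := by
      intro h
      obtain ⟨x, hx⟩ := exists_prime_orderOf_dvd_card' (G := G) 2 (by rw [hG]; norm_num)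
      have := hMin x (Subgroup.mem_top x) (by rw [hx]; norm_num)
      rw [h, Subgroup.mem_bot] at this
      rw [this, orderOf_one] at hx; norm_num at hx
    haveI := isPretransitive_of_normal_ne_bot S.two M hMne
    have h := Dvd.intro_left _ ((stabilizer ↥M a).card_mul_index)
    rw [MulAction.index_stabilizer_of_transitive, h28] at h
    obtain ⟨x, hx⟩ := exists_prime_orderOf_dvd_card' (G := ↥M) 7 ((show 7 ∣ 28 by norm_num).trans h)
    exact hMo x x.2 (by rw [Subgroup.orderOf_coe, hx])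

end Setting

end CfsgLib.KimuraFour
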