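import Cfsg.Agent.Lib.Perm.KimuraFour.Regular
import Cfsg.Agent.Lib.Perm.PrimeOrderCount
import Cfsg.Agent.Lib.Perm.Alt2520.Relations

/-!
# Degree fifteen: the alternating group of degree seven
-/

set_option autoImplicit false

namespace CfsgLib.KimuraFour

open MulAction

variable {G : Type*} [Group G] [Finite G] {Ω : Type*} [MulAction G Ω] [Finite Ω] {a b : Ω} {J : G}

local notation "Cent" J:max => Subgroup.centralizer (Singleton.singleton J : Set _)

/-- In `ZMod 5` a seventh power equals one only for one. -/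
theorem pow_seven_zmod_five : ∀ x : ZMod 5, x ^ 7 - 1 = 0 → x - 1 = 0 := by decide

/-- On fifteen points a normal subgroup is trivial or the whole group. -/
theorem Setting.simple_fifteen (S : Setting G Ω a b) (D : InvData G Ω a b J) (hn : Nat.card Ω = 15)
    (hi : fixCard Ω J = 3) (hC : ∀ y : G, y * J = J * y → orderOf y ≠ 7)
    (N : Subgroup G) [hN : N.Normal] (hne : N ≠ ⊥) : N = ⊤ := by
  classical
  haveI := S.faithful
  have := Fintype.ofFinite Ω
  have := Fintype.ofFinite G
  haveI : Fact (Nat.Prime 7) := ⟨by norm_num⟩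
  haveI : Fact (Nat.Prime 5) := ⟨by norm_num⟩
  haveI : IsPretransitive G Ω := isPretransitive_of_is_two_pretransitive (h2 := S.two)
  have hG : Nat.card G = 2520 := by rw [card_eq_pairStab S.two S.ne, hn, S.card_H]
  set U := stabilizer G a with hU
  have hUc : Nat.card ↥U = 168 := by
    have h1 := U.card_mul_index
    rw [hU, MulAction.index_stabilizer_of_transitive, hn, hG] at h1
    rw [hU]
    omega
  haveI : IsPretransitive ↥N Ω := isPretransitive_of_normal_ne_bot S.two N hne
  -- an element of order seven fixes one point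
  have hfix7 : ∀ y : G, orderOf y = 7 → ∀ c d : Ω, y • c = c → y • d = d → c = d := by
    intro y hy c d hc hd
    by_contra hcd
    obtain ⟨g, hg1, hg2⟩ := exists_smul_pair S.two S.ne hcd
    change g • a = c at hg1
    change g • b = d at hg2
    have hm : g⁻¹ * y * g ∈ (pairStab a b : Subgroup G) := by
      rw [← conj_mem_pairStab_iff g, show g * (g⁻¹ * y * g) * g⁻¹ = y by group, hg1, hg2]
      exact mem_pairStab.2 ⟨hc, hd⟩
    have h := Subgroup.orderOf_dvd_natCard _ hm
    rw [S.card_H, show orderOf (g⁻¹ * y * g) = 7 by simpa using (orderOf_conj_eq g⁻¹ y).trans hy] at h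
    norm_num at h
  -- the point stabiliser has eight Sylow subgroups of order seven
  obtain ⟨P⟩ : Nonempty (Sylow 7 ↥U) := inferInstance
  have hPc : Nat.card ↥(P : Subgroup ↥U) = 7 :=
    CfsgLib.Perm.sylow_card_eq P (k := 1) (m := 24) (by rw [hUc]; norm_num) (by norm_num)
  have hn7 : Nat.card (Sylow 7 ↥U) = 8 := by
    have h1 := CfsgLib.Perm.card_sylow_dvd_of_card_eq (p := 7) (k := 1) (m := 24)
      (show Nat.card ↥U = 7 ^ 1 * 24 by rw [hUc]; norm_num)
    have h2 : Nat.card (Sylow 7 ↥U) % 7 = 1 := card_sylow_modEq_one 7 ↥U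
    have h3 : Nat.card (Sylow 7 ↥U) ≠ 1 := by
      intro h1'
      obtain ⟨⟨y, hyP⟩, hy⟩ : ∃ y : ↥(P : Subgroup ↥U), orderOf y = 7 :=
        exists_prime_orderOf_dvd_card' 7 (by rw [hPc])
      have hy' : orderOf (y : G) = 7 := by
        rw [Subgroup.orderOf_coe]; rw [Subgroup.orderOf_mk] at hy; exact hy
      haveI := (Nat.card_eq_one_iff_unique.1 h1').1
      haveI := P.normal_of_subsingleton
      have hPz : (P : Subgroup ↥U) = Subgroup.zpowers y :=
        (CfsgLib.Perm.eq_zpowers_of_mem_sylow P hPc hyP (fun h => by rw [h] at hy'; simp at hy')).2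
      have hinv : ∀ v ∈ (pairStab a b : Subgroup G), orderOf v = 2 → v * (y : G) * v⁻¹ = (y : G)⁻¹ := by
        intro v hv hv2
        have hm := Subgroup.Normal.conj_mem inferInstance y hyP (⟨v, (mem_pairStab.1 hv).1⟩ : ↥U)
        rw [hPz, Subgroup.mem_zpowers_iff] at hm
        obtain ⟨k, hk'⟩ := hm
        have hk : (y : G) ^ k = v * (y : G) * v⁻¹ := by simpa using congrArg Subtype.val hk'
        have h2' : (y : G) ^ (k * k) = (y : G) ^ (1 : ℤ) := by
          rw [zpow_mul, hk, conj_zpow, hk, zpow_one]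
          calc v * (v * (y : G) * v⁻¹) * v⁻¹ = (v * v) * (y : G) * (v * v)⁻¹ := by group
            _ = (y : G) := by rw [mul_self_of_orderOf hv2]; group
        have hd : (7 : ℤ) ∣ k * k - 1 := by
          have := (orderOf_dvd_iff_zpow_eq_one (x := (y : G)) (i := k * k - 1)).2
            (by rw [zpow_sub, h2', zpow_one, mul_inv_cancel])
          rw [hy'] at this
          exact_mod_cast this
        rw [show k * k - 1 = (k - 1) * (k + 1) by ring] at hd
        rcases (Int.prime_iff_natAbs_prime.2 (by norm_num : (7 : ℤ).natAbs.Prime)).dvd_mul.1 hd with h | h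
        · exfalso
          have h' := (orderOf_dvd_iff_zpow_eq_one (x := (y : G)) (i := k - 1)).1
            (by rw [hy']; exact_mod_cast h)
          rw [zpow_sub, zpow_one, mul_inv_eq_one] at h'
          rw [h'] at hk
          have hcomm : v * (y : G) = (y : G) * v := (mul_inv_eq_iff_eq_mul.1 hk.symm)
          obtain ⟨g, -, he⟩ := D.conjJ v hv hv2
          refine hC (g⁻¹ * y * g) ?_ (by simpa using (orderOf_conj_eq g⁻¹ (y : G)).trans hy')
          calc g⁻¹ * (y : G) * g * J = g⁻¹ * ((y : G) * (g * J * g⁻¹)) * g := by group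
            _ = g⁻¹ * (v * y) * g := by rw [he, hcomm]
            _ = _ := by rw [← he]; group
        · have h' := (orderOf_dvd_iff_zpow_eq_one (x := (y : G)) (i := k + 1)).1
            (by rw [hy']; exact_mod_cast h)
          rw [zpow_add, zpow_one] at h'
          rw [← hk]
          exact eq_inv_of_mul_eq_one_left h'
      obtain ⟨t, ht, ht3⟩ := S.exists_three
      have hv : t * J * t⁻¹ ∈ (pairStab a b : Subgroup G) := mul_mem (mul_mem ht D.memJ) (inv_mem ht)
      have hv2 : orderOf (t * J * t⁻¹) = 2 := (orderOf_conj_eq t J).trans D.ordJ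
      obtain ⟨-, hsq⟩ := S.inv_mul D.memJ (mul_self_of_orderOf D.ordJ) hv (mul_self_of_orderOf hv2)
      have hne' : J * (t * J * t⁻¹) ≠ 1 := fun h => S.three_moves ht ht3 D.memJ D.ordJ
        (mul_inv_eq_iff_eq_mul.1 ((eq_inv_of_mul_eq_one_left h).trans (inv_of_orderOf hv2)).symm)
      have h4 := hinv _ (mul_mem D.memJ hv) (orderOf_two_of hsq hne')
      have h5 : J * (t * J * t⁻¹) * (y : G) * (J * (t * J * t⁻¹))⁻¹ = (y : G) := by
        calc J * (t * J * t⁻¹) * (y : G) * (J * (t * J * t⁻¹))⁻¹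
            = J * ((t * J * t⁻¹) * (y : G) * (t * J * t⁻¹)⁻¹) * J⁻¹ := by group
          _ = (J * (y : G) * J⁻¹)⁻¹ := by rw [hinv _ hv hv2]; group
          _ = (y : G) := by rw [hinv J D.memJ D.ordJ, inv_inv]
      rw [h5] at h4
      have h6 : (y : G) ^ 2 = 1 := by rw [pow_two]; exact eq_inv_iff_mul_eq_one.1 h4
      have h7 := orderOf_dvd_of_pow_eq_one h6
      rw [hy'] at h7
      norm_num at h7
    have hle := Nat.le_of_dvd (by norm_num) h1
    interval_cases h : Nat.card (Sylow 7 ↥U) <;> omega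
  set M := N.subgroupOf U with hM
  haveI : M.Normal := Subgroup.Normal.subgroupOf hN U
  have hNM : Nat.card ↥N = 15 * Nat.card ↥M := by
    have h1 := (stabilizer ↥N a).card_mul_index
    rw [MulAction.index_stabilizer_of_transitive, hn] at h1
    have he : Nat.card ↥(stabilizer ↥N a) = Nat.card ↥M :=
      Nat.card_congr ⟨fun x => ⟨⟨x.1.1, x.2⟩, x.1.2⟩, fun x => ⟨⟨x.1.1, x.2⟩, x.1.2⟩, fun _ => rfl, fun _ => rfl⟩
    rw [he] at h1
    omega
  -- seven divides the order of `N`
  have h7M : 7 ∣ Nat.card ↥M := by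
    by_contra h7
    obtain ⟨Q⟩ : Nonempty (Sylow 5 ↥N) := inferInstance
    have hf := Sylow.normalizer_sup_eq_top Q
    set Q' := (Q : Subgroup ↥N).map N.subtype
    have h7N : 7 ∣ Nat.card ↥(Subgroup.normalizer (Q' : Set G)) := by
      have h1 : N.index ∣ Nat.card ↥(Subgroup.normalizer (Q' : Set G)) := by
        rw [← Subgroup.relIndex_top_right, ← hf, Subgroup.relIndex_sup_right]
        exact Subgroup.relIndex_dvd_card _ _
      have h2 := N.card_mul_index
      rw [hG, hNM] at h2
      refine Dvd.dvd.trans ?_ h1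
      refine ((Nat.Prime.dvd_mul (by norm_num)).1 (show 7 ∣ 15 * Nat.card ↥M * N.index by
        rw [h2]; norm_num)).resolve_left fun h => h7 ?_
      exact ((Nat.Prime.dvd_mul (by norm_num)).1 h).resolve_left (by norm_num)
    have hQ5 : Nat.card ↥Q' = 5 := by
      rw [Nat.card_congr ((Q : Subgroup ↥N).equivMapOfInjective _ N.subtype_injective).symm.toEquiv]
      have h1 : 5 ∣ Nat.card ↥(Q : Subgroup ↥N) :=
        Q.dvd_card_of_dvd_card (by rw [hNM]; exact dvd_mul_of_dvd_left (by norm_num) _)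
      have h2 : Nat.card ↥(Q : Subgroup ↥N) ∣ 2520 :=
        ((Subgroup.card_subgroup_dvd_card _).trans (Subgroup.card_subgroup_dvd_card N)).trans (hG ▸ dvd_rfl)
      obtain ⟨k, hk⟩ := IsPGroup.iff_card.1 Q.isPGroup'
      rw [hk] at h1 h2 ⊢
      rcases k with _ | _ | k
      · norm_num at h1
      · norm_num
      · have := (pow_dvd_pow 5 (show 2 ≤ k + 2 by omega)).trans h2
        norm_num at this
    obtain ⟨⟨y, hy⟩, hy7⟩ := exists_prime_orderOf_dvd_card' 7 h7N
    rw [Subgroup.orderOf_mk] at hy7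
    obtain ⟨⟨q, hq⟩, hq5⟩ := exists_prime_orderOf_dvd_card' (G := ↥Q') 5 (by rw [hQ5])
    rw [Subgroup.orderOf_mk] at hq5
    have hQz : Q' = Subgroup.zpowers q :=
      (Subgroup.eq_of_le_of_card_ge (Subgroup.zpowers_le.2 hq) (by rw [hQ5, Nat.card_zpowers, hq5])).symm
    obtain ⟨k, hk⟩ := Subgroup.mem_zpowers_iff.1 (hQz.le ((Subgroup.mem_normalizer_iff.1 hy q).1 hq))
    have hpow : ∀ j : ℕ, y ^ j * q * (y ^ j)⁻¹ = q ^ (k ^ j) := by
      intro j
      induction j with
      | zero => simp
      | succ j ih =>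
        calc y ^ (j + 1) * q * (y ^ (j + 1))⁻¹ = y * (y ^ j * q * (y ^ j)⁻¹) * y⁻¹ := by group
          _ = (y * q * y⁻¹) ^ (k ^ j) := by rw [ih, conj_zpow]
          _ = _ := by rw [← hk, ← zpow_mul, pow_succ' k j]
    have h7' := hpow 7
    rw [← hy7, pow_orderOf_eq_one, one_mul, inv_one, mul_one, hy7] at h7'
    have hk1 : (5 : ℤ) ∣ k - 1 := by
      have h5 := (orderOf_dvd_iff_zpow_eq_one (x := q) (i := k ^ 7 - 1)).2
        (by rw [zpow_sub, ← h7', zpow_one, mul_inv_cancel])
      rw [hq5] at h5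
      have h5' : ((k ^ 7 - 1 : ℤ) : ZMod 5) = 0 := (ZMod.intCast_zmod_eq_zero_iff_dvd _ 5).2 h5
      have := (ZMod.intCast_zmod_eq_zero_iff_dvd (k - 1) 5).1 (by
        push_cast at h5' ⊢
        exact pow_seven_zmod_five _ h5')
      exact_mod_cast this
    have hk2 := (orderOf_dvd_iff_zpow_eq_one (x := q) (i := k - 1)).1 (by rw [hq5]; exact_mod_cast hk1)
    rw [zpow_sub, zpow_one, mul_inv_eq_one] at hk2
    rw [hk2] at hk
    have hyq : y * q = q * y := (mul_inv_eq_iff_eq_mul.1 hk.symm)
    obtain ⟨c, hc⟩ : ∃ c : Ω, y • c = c := by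
      by_contra hno
      push Not at hno
      have h := Equiv.Perm.card_compl_support_modEq (p := 7) (n := 1) (σ := MulAction.toPerm (β := Ω) y)
        (Equiv.ext fun c => by
          rw [pow_one]
          show ((MulAction.toPermHom G Ω y) ^ 7) c = c
          rw [← map_pow, ← hy7, pow_orderOf_eq_one, map_one]
          rfl)
      rw [show (MulAction.toPerm (β := Ω) y).supportᶜ = ∅ by
        ext x
        simp [hno x], Finset.card_empty, ← Nat.card_eq_fintype_card, hn] at h
      norm_num [Nat.ModEq] at h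
    have hqc : q • c = c := hfix7 y hy7 _ _ (by rw [← mul_smul, hyq, mul_smul, hc]) hc
    have hd : orderOf q ∣ Nat.card ↥(stabilizer G c) := Subgroup.orderOf_dvd_natCard _ hqc
    have h1 := (stabilizer G c).card_mul_index
    rw [MulAction.index_stabilizer_of_transitive, hn, hG] at h1
    rw [hq5, show Nat.card ↥(stabilizer G c) = 168 by omega] at hd
    norm_num at hd
  -- all elements of order seven of the stabiliser lie in `M`
  obtain ⟨P₀⟩ : Nonempty (Sylow 7 ↥M) := inferInstance
  have hMd : Nat.card ↥M ∣ 168 := hUc ▸ Subgroup.card_subgroup_dvd_card M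
  have h7all : ∀ y : ↥U, orderOf y = 7 → y ∈ M := by
    obtain ⟨x, hx⟩ := exists_prime_orderOf_dvd_card' (G := ↥M) 7 h7M
    obtain ⟨P', hP'⟩ := CfsgLib.Perm.exists_mem_sylow_of_orderOf (p := 7) (k := 1) (g := (x : ↥U))
      (by rw [Subgroup.orderOf_coe, hx, pow_one])
    have hP'M : (P' : Subgroup ↥U) ≤ M := by
      rw [(CfsgLib.Perm.eq_zpowers_of_mem_sylow P'
        ((CfsgLib.Perm.card_sylow_congr P' P).trans hPc) hP'
        (fun h => by rw [← Subgroup.orderOf_coe, h] at hx; simp at hx)).2]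
      exact Subgroup.zpowers_le.2 x.2
    intro y hy
    obtain ⟨P'', hP''⟩ := CfsgLib.Perm.exists_mem_sylow_of_orderOf (p := 7) (k := 1) (g := y)
      (by rw [hy, pow_one])
    obtain ⟨g, rfl⟩ := MulAction.exists_smul_eq ↥U P' P''
    obtain ⟨z, hz, rfl⟩ := hP''
    exact Subgroup.Normal.conj_mem inferInstance z (hP'M hz) g
  have h56 : Nat.card ↥M = 56 ∨ Nat.card ↥M = 168 := by
    have h48 : Nat.card {y : ↥U // orderOf y = 7} = 48 := by
      rw [CfsgLib.Perm.card_orderOf_eq_prime P hPc, hn7]
    have h48' : Nat.card {y : ↥M // orderOf y = 7} = 48 := by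
      rw [← h48]
      exact Nat.card_congr ⟨fun y => ⟨y.1.1, by rw [Subgroup.orderOf_coe]; exact y.2⟩,
        fun y => ⟨⟨y.1, h7all y.1 y.2⟩, by rw [← Subgroup.orderOf_coe]; exact y.2⟩, fun _ => rfl, fun _ => rfl⟩
    have hP0 : Nat.card ↥(P₀ : Subgroup ↥M) = 7 := by
      obtain ⟨m, hm⟩ := h7M
      refine CfsgLib.Perm.sylow_card_eq P₀ (k := 1) (m := m) (by rw [pow_one, hm]) fun h => ?_
      have h49 : 49 ∣ 168 := (Dvd.dvd.trans (hm ▸ mul_dvd_mul_left 7 h) hMd)
      norm_num at h49
    rw [CfsgLib.Perm.card_orderOf_eq_prime P₀ hP0] at h48'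
    have h8 : 8 ∣ Nat.card ↥M := by
      have h := CfsgLib.Perm.card_sylow_dvd_card (G := ↥M) 7
      rwa [show Nat.card (Sylow 7 ↥M) = 8 by omega] at h
    have h56 : 56 ∣ Nat.card ↥M := (Nat.Coprime.mul_dvd_of_dvd_of_dvd (by norm_num) h7M h8)
    obtain ⟨j, hj⟩ := h56
    have : j ≤ 3 := by have := Nat.le_of_dvd (by norm_num) hMd; omega
    interval_cases j
    · exact absurd hj Nat.card_pos.ne'
    · exact Or.inl hj
    · rw [hj] at hMd; norm_num at hMd
    · exact Or.inr hj
  rcases h56 with h56 | h168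
  · exfalso
    -- all conjugates of `J` fixing `a` lie in `M`
    have hJM : (⟨J, D.smul_a⟩ : ↥U) ∈ M := by
      obtain ⟨g, hgN, hga, hgb, hg1⟩ : ∃ g ∈ N, g • a = a ∧ g • b = b ∧ g ≠ 1 := by
        by_contra hno
        push Not at hno
        have h := Nat.card_le_card_of_injective (fun m : ↥M => (m.1.1 • b : Ω)) fun m m' h => by
          have e := hno ((m.1.1)⁻¹ * m'.1.1) (mul_mem (inv_mem m.2) m'.2)
            (mem_stabilizer_iff.1 (mul_mem (inv_mem m.1.2) m'.1.2))
            (by rw [mul_smul]; exact (congrArg ((m.1.1)⁻¹ • ·) h.symm).trans (inv_smul_smul _ _))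
          exact Subtype.ext (Subtype.ext (inv_mul_eq_one.1 e))
        omega
      have hg : g ∈ (pairStab a b : Subgroup G) := mem_pairStab.2 ⟨hga, hgb⟩
      obtain ⟨w, hwN, hwH, hw2⟩ : ∃ w ∈ N, w ∈ (pairStab a b : Subgroup G) ∧ orderOf w = 2 := by
        rcases S.order_cases hg with h | h
        · exact ⟨g, hgN, hg, orderOf_two_of h hg1⟩
        · have hg3 : orderOf g = 3 := orderOf_eq_prime (by rw [pow_succ, pow_two, h]) hg1
          have hv : g * J * g⁻¹ ∈ (pairStab a b : Subgroup G) := mul_mem (mul_mem hg D.memJ) (inv_mem hg)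
          have hv2 := (orderOf_conj_eq g J).trans D.ordJ
          have hsq := (S.inv_mul hv (mul_self_of_orderOf hv2) D.memJ (mul_self_of_orderOf D.ordJ)).2
          refine ⟨g * J * g⁻¹ * J, ?_, mul_mem hv D.memJ, orderOf_two_of hsq fun e => ?_⟩
          · have := mul_mem hgN (hN.conj_mem _ (inv_mem hgN) J)
            rwa [show g * (J * g⁻¹ * J⁻¹) = g * J * g⁻¹ * J by rw [inv_of_orderOf D.ordJ]; group] at this
          · refine S.three_moves hg hg3 D.memJ D.ordJ (mul_inv_eq_iff_eq_mul.1 ?_)
            rw [eq_inv_of_mul_eq_one_left e, inv_of_orderOf D.ordJ]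
      obtain ⟨h, -, he⟩ := D.conjJ w hwH hw2
      show J ∈ N
      rw [show J = h⁻¹ * w * h⁻¹⁻¹ by rw [← he]; group]
      exact hN.conj_mem _ hwN _
    set T : Finset G := Finset.univ.filter fun x => x ∈ N ∧ x • a = a ∧ orderOf x = 2 ∧ TwoFix Ω x with hT
    have hT7 : T.card ≤ 7 := by
      have h48 : Nat.card {y : ↥M // orderOf y = 7} = 48 := by
        rw [show Nat.card {y : ↥M // orderOf y = 7} = Nat.card {y : ↥U // orderOf y = 7} from
          Nat.card_congr ⟨fun y => ⟨y.1.1, by rw [Subgroup.orderOf_coe]; exact y.2⟩,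
            fun y => ⟨⟨y.1, h7all y.1 y.2⟩, by rw [← Subgroup.orderOf_coe]; exact y.2⟩, fun _ => rfl,
            fun _ => rfl⟩, CfsgLib.Perm.card_orderOf_eq_prime P hPc, hn7]
      have hinj : Function.Injective (fun x : {x // x ∈ T} ⊕ {y : ↥M // orderOf y = 7} ⊕ Unit =>
          Sum.elim (fun x => (x.1 : G)) (Sum.elim (fun y => ((y.1.1 : ↥U) : G)) fun _ => 1) x) := by
        have hord : ∀ y : {y : ↥M // orderOf y = 7}, orderOf ((y.1.1 : ↥U) : G) = 7 := fun y => by
          rw [Subgroup.orderOf_coe, Subgroup.orderOf_coe]; exact y.2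
        have hx2 : ∀ x : {x // x ∈ T}, orderOf (x.1 : G) = 2 := fun x =>
          ((Finset.mem_filter.1 x.2).2).2.2.1
        rintro (x | y | u) (x' | y' | u') h <;> simp only [Sum.elim_inl, Sum.elim_inr] at h
        · exact congrArg Sum.inl (Subtype.ext h)
        · have := hx2 x; rw [h, hord y'] at this; norm_num at this
        · have := hx2 x; rw [h, orderOf_one] at this; norm_num at this
        · have := hord y; rw [h, hx2 x'] at this; norm_num at this
        · exact congrArg _ (congrArg _ (Subtype.ext (Subtype.ext (Subtype.ext h))))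
        · have := hord y; rw [h, orderOf_one] at this; norm_num at this
        · have := hx2 x'; rw [← h, orderOf_one] at this; norm_num at this
        · have := hord y'; rw [← h, orderOf_one] at this; norm_num at this
        · rfl
      have hmem : ∀ x : {x // x ∈ T} ⊕ {y : ↥M // orderOf y = 7} ⊕ Unit,
          Sum.elim (fun x => (x.1 : G)) (Sum.elim (fun y => ((y.1.1 : ↥U) : G)) fun _ => 1) x ∈
            (M.map U.subtype : Subgroup G) := by
        rintro (x | y | u) <;> simp only [Sum.elim_inl, Sum.elim_inr]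
        · have h := (Finset.mem_filter.1 x.2).2
          exact ⟨⟨x.1, h.2.1⟩, h.1, rfl⟩
        · exact ⟨y.1.1, y.1.2, rfl⟩
        · exact one_mem _
      have h := Nat.card_le_card_of_injective (fun x => (⟨_, hmem x⟩ : ↥(M.map U.subtype : Subgroup G)))
        fun x y h => hinj (congrArg Subtype.val h)
      rw [Nat.card_sum, Nat.card_sum, h48, Nat.card_eq_fintype_card (α := {x // x ∈ T}), Fintype.card_coe,
        Nat.card_congr (M.equivMapOfInjective _ U.subtype_injective).symm.toEquiv, h56] at h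
      simp at h
      omega
    have hγ := S.gamma_eq D
    have hbound := Finset.card_mul_le_card_mul (fun (d : Ω) (x : G) => x • d = d)
      (s := Finset.univ.erase a) (t := T) (m := 3) (n := 2) (fun d hd => ?_) fun x hx => ?_
    · rw [Finset.card_erase_of_mem (Finset.mem_univ a), Finset.card_univ, ← Nat.card_eq_fintype_card, hn] at hbound
      omega
    · have hda : a ≠ d := Ne.symm (Finset.ne_of_mem_erase hd)
      obtain ⟨g, hg1, hg2⟩ := exists_smul_pair S.two S.ne hda
      change g • a = a at hg1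
      change g • b = d at hg2
      refine le_of_eq_of_le (hγ.symm) ?_
      rw [InvData.gamma, Nat.card_eq_fintype_card, Fintype.card_subtype]
      refine Finset.card_le_card_of_injOn (fun x => g * x * g⁻¹) (fun x hx => ?_)
        fun x _ y _ h => by simpa using h
      simp only [Finset.coe_filter, Finset.mem_univ, true_and, Set.mem_setOf_eq] at hx
      have ho := D.orderOf_of_conj hx.1
      have hxN : x ∈ N := by
        obtain ⟨h, -, he⟩ := D.conjJ x (mem_pairStab.2 hx.2) ho
        rw [← he]; exact hN.conj_mem _ hJM h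
      simp only [Finset.mem_coe, Finset.mem_bipartiteAbove, hT, Finset.mem_filter, Finset.mem_univ, true_and]
      refine ⟨⟨hN.conj_mem _ hxN g, ?_, (orderOf_conj_eq g x).trans ho, ⟨a, d, hda, ?_, ?_⟩⟩, ?_⟩
      all_goals first
        | (rw [← hg2]; exact (smul_eq_iff_conj g x b b).2 hx.2.2)
        | (have := (smul_eq_iff_conj g x a a).2 hx.2.1; rwa [hg1] at this)
    · simp only [hT, Finset.mem_filter, Finset.mem_univ, true_and] at hx
      have hf := D.fixCard_of_conj (D.isConj_of_twoFix hx.2.2.1 hx.2.2.2)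
      rw [hi, fixCard, Nat.card_eq_fintype_card, Fintype.card_subtype] at hf
      rw [show (Finset.univ.erase a).bipartiteBelow (fun (d : Ω) (x : G) => x • d = d) x =
        (Finset.univ.filter fun c : Ω => x • c = c).erase a by
          ext c
          simp [Finset.mem_bipartiteBelow, and_comm], Finset.card_erase_of_mem (by simpa using hx.2.1), hf]
  · refine Subgroup.eq_top_of_card_eq N ?_
    rw [hNM, h168, hG]

/-- Degree fifteen gives the alternating group of degree seven. -/
theorem Setting.iso_fifteen (S : Setting G Ω a b) (D : InvData G Ω a b J) (hn : Nat.card Ω = 15)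
    (hi : fixCard Ω J = 3) (hC : ∀ y : G, y * J = J * y → orderOf y ≠ 7) :
    Nonempty (G ≃* ↥(alternatingGroup (Fin 7))) := by
  have hG : Nat.card G = 2520 := by rw [card_eq_pairStab S.two S.ne, hn, S.card_H]
  haveI : Nontrivial G := Finite.one_lt_card_iff_nontrivial.1 (by rw [hG]; norm_num)
  haveI : IsSimpleGroup G := ⟨fun N hN => (em (N = ⊥)).imp id fun h => S.simple_fifteen D hn hi hC N h⟩
  by_contra hno
  exact (⟨hG, hno⟩ : CfsgLib.Perm.Alt2520.Hyp G).false

end CfsgLib.KimuraFour
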