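import Cfsg.Agent.Lib.Perm.KimuraFour.OddLemma

/-!
# The centraliser of an odd translation group when the four-group fixes the fixed points of `J`
-/

set_option autoImplicit false

namespace CfsgLib.KimuraFour

open MulAction

variable {G : Type*} [Group G] [Finite G] {Ω : Type*} [MulAction G Ω] [Finite Ω] {a b : Ω} {J : G}
  {p : ℕ} {E : Subgroup G}

local notation "Cent" J:max => Subgroup.centralizer (Singleton.singleton J : Set _)

namespace Setting

variable (S : Setting G Ω a b) (D : InvData G Ω a b J) (hA : CaseA a b J) (hE : EData Ω J p E)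

include S D hA hE

theorem commute_E {v : G} (hv : v ∈ (pairStab a b : Subgroup G)) (hv2 : v * v = 1) {e : G} (he : e ∈ E) :
    v * e = e * v := by
  refine hE.commute_of_map ((S.mem_cent_iff D hv).2 hv2) he D.smul_a (mem_pairStab.1 hv).1 ?_
  exact hA v hv hv2 _ (smul_mem_fix (hE.le_cent he) D.smul_a)

theorem mem_centralizer_of_sq {v : G} (hv : v ∈ (pairStab a b : Subgroup G)) (hv2 : v * v = 1) :
    v ∈ Subgroup.centralizer (E : Set G) :=
  Subgroup.mem_centralizer_iff.2 fun _ he => (S.commute_E D hA hE hv hv2 he).symm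

/-- An element centralising `E` and preserving the fixed points of `J` is a product `e * k`. -/
theorem exists_factor {x : G} (hx : x ∈ Subgroup.centralizer (E : Set G)) (hxa : J • x • a = x • a) :
    ∃ e ∈ E, ∃ k ∈ (pairStab a b : Subgroup G), x = e * k ∧ ∀ c : Ω, J • c = c → k • c = c := by
  obtain ⟨e, he, hfix⟩ := hE.exists_mul_fix hx D.smul_a hxa
  exact ⟨e, he, e⁻¹ * x, mem_pairStab.2 ⟨hfix a D.smul_a, hfix b D.smul_b⟩, (mul_inv_cancel_left e x).symm, hfix⟩

/-- Inside the centraliser of `E`, an element commuting with an involution of the stabiliser. -/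
theorem exists_factor_cent {x v : G} (hx : x ∈ Subgroup.centralizer (E : Set G))
    (hv : v ∈ (pairStab a b : Subgroup G)) (hv2 : orderOf v = 2) (hxv : x * v = v * x) :
    ∃ e ∈ E, ∃ k ∈ (pairStab a b : Subgroup G), x = e * k ∧ k * k = 1 := by
  have hpres : J • x • a = x • a := (S.fix_iff_of_caseA D hA hv hv2 _).1 (by
    rw [← mul_smul, ← hxv, mul_smul, (mem_pairStab.1 hv).1])
  obtain ⟨e, he, k, hk, hxk, -⟩ := S.exists_factor D hA hE hx hpres
  refine ⟨e, he, k, hk, hxk, S.sq_of_commute hk hv hv2 ?_⟩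
  have h1 := S.commute_E D hA hE hv (mul_self_of_orderOf hv2) (inv_mem he)
  rw [show k = e⁻¹ * x by rw [hxk]; group, mul_assoc, hxv, ← mul_assoc, ← h1, mul_assoc]

/-- A subgroup of the centraliser of `E` in which the four-group has a small normaliser. -/
theorem involution_mem_of_subgroup (M : Subgroup G) (hMC : M ≤ Subgroup.centralizer (E : Set G))
    (hVM : ∀ v ∈ (pairStab a b : Subgroup G), v * v = 1 → v ∈ M)
    (hN : ∀ x ∈ M, x • a ∈ fixPts Ω J → (∀ v ∈ (pairStab a b : Subgroup G), v * v = 1 →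
      x * v * x⁻¹ ∈ (pairStab a b : Subgroup G)) →
      ∃ e ∈ E, ∃ k ∈ (pairStab a b : Subgroup G), x = e * k ∧ k * k = 1) :
    ∀ x ∈ M, x * x = 1 → x ∈ (pairStab a b : Subgroup G) := by
  classical
  haveI : Fact (Nat.Prime 2) := ⟨Nat.prime_two⟩
  set V := (pairStab a b ⊓ Cent J : Subgroup G) with hV
  have hVmem : ∀ v, v ∈ V ↔ v ∈ (pairStab a b : Subgroup G) ∧ v * v = 1 := fun v =>
    ⟨fun h => ⟨h.1, (S.mem_cent_iff D h.1).1 h.2⟩, fun h => ⟨h.1, (S.mem_cent_iff D h.1).2 h.2⟩⟩
  have hVp : IsPGroup 2 ↥V := fun y => ⟨1, Subtype.ext (by simpa [pow_two] using ((hVmem _).1 y.2).2)⟩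
  have hsqE : ∀ e ∈ E, e * e = 1 → e = 1 := by
    intro e he h
    rcases (Nat.dvd_prime Nat.prime_two).1 (orderOf_dvd_of_pow_eq_one (show e ^ 2 = 1 by rw [pow_two, h]))
      with h' | h'
    · exact orderOf_eq_one_iff.1 h'
    · have := hE.odd_orderOf he; rw [h'] at this; exact absurd this (by decide)
  have hcomm : ∀ e ∈ E, ∀ k ∈ (pairStab a b : Subgroup G), k * k = 1 → e * k = k * e := fun e he k hk hk2 =>
    (S.commute_E D hA hE hk hk2 he).symm
  have hnorm : ∀ x ∈ M, x ∈ Subgroup.normalizer (V : Set G) →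
      ∃ e ∈ E, ∃ k ∈ (pairStab a b : Subgroup G), x = e * k ∧ k * k = 1 := by
    intro x hx hxn
    refine hN x hx ?_ fun v hv hv2 =>
      (((hVmem _).1 ((Subgroup.mem_normalizer_iff.1 hxn v).1 ((hVmem v).2 ⟨hv, hv2⟩))).1)
    have hJV : J ∈ V := (hVmem J).2 ⟨D.memJ, mul_self_of_orderOf D.ordJ⟩
    obtain ⟨w, hw1, hw2⟩ : ∃ w, w ∈ V ∧ x * w * x⁻¹ = J := ⟨x⁻¹ * J * x,
      (Subgroup.mem_normalizer_iff.1 hxn _).2 (by rwa [show x * (x⁻¹ * J * x) * x⁻¹ = J by group]), by group⟩
    obtain ⟨hwH, hwsq⟩ := (hVmem w).1 hw1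
    rw [mem_fixPts, ← hw2, smul_eq_iff_conj]
    exact (mem_pairStab.1 hwH).1
  obtain ⟨L, hLM, hLn, -, hLin, hLodd⟩ := exists_complement_in (q := 2) (C := M) (Q := V)
    (fun v hv => hVM v ((hVmem v).1 hv).1 ((hVmem v).1 hv).2) hVp
    (fun x hx ⟨m, hm⟩ hxn => by
      obtain ⟨e, he, k, hk, rfl, hk2⟩ := hnorm x hx hxn
      have hc : Commute e k := hcomm e he k hk hk2
      have he' : e ^ 2 ^ (m + 1) = 1 := by
        have : (e * k) ^ 2 ^ (m + 1) = 1 := by rw [pow_succ, pow_mul, hm, one_pow]
        rwa [hc.mul_pow, show k ^ 2 ^ (m + 1) = 1 by rw [pow_succ', pow_mul, pow_two, hk2, one_pow],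
          mul_one] at this
      have : e = 1 := by
        obtain ⟨j, -, hj⟩ := (Nat.dvd_prime_pow Nat.prime_two).1 (orderOf_dvd_of_pow_eq_one he')
        have ho := hE.odd_orderOf he
        rcases Nat.eq_zero_or_pos j with rfl | hj0
        · exact orderOf_eq_one_iff.1 (by simpa using hj)
        · rw [hj] at ho; exact absurd ho (Nat.not_odd_iff_even.2 (Nat.even_pow.2 ⟨even_two, hj0.ne'⟩))
      rw [this, one_mul]; exact (hVmem k).2 ⟨hk, hk2⟩)
    (fun x hx hxn y hy => by
      obtain ⟨e, he, k, hk, rfl, hk2⟩ := hnorm x hx hxn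
      obtain ⟨hy1, hy2⟩ := (hVmem y).1 hy
      exact (Commute.mul_left (hcomm e he y hy1 hy2) (S.inv_mul hk hk2 hy1 hy2).1).eq)
  have hLo : ∀ x ∈ L, Odd (orderOf x) := fun x hx => Nat.not_even_iff_odd.1 fun h => hLodd x hx h.two_dvd
  have hLcard : Odd (Nat.card ↥L) := by
    by_contra h
    obtain ⟨x, hx⟩ := exists_prime_orderOf_dvd_card' 2 ((Nat.not_odd_iff_even.1 h).two_dvd)
    exact hLodd x x.2 (by rw [Subgroup.orderOf_coe, hx])
  have hfix : ∀ x ∈ M, ∀ v ∈ (pairStab a b : Subgroup G), orderOf v = 2 → x * v = v * x →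
      ∃ e ∈ E, ∃ k ∈ (pairStab a b : Subgroup G), x = e * k ∧ k * k = 1 := fun x hx v hv hv2 h =>
    S.exists_factor_cent D hA hE (hMC hx) hv hv2 h
  have hLE : L ≤ E := by
    obtain ⟨t, ht, ht3⟩ := S.exists_three
    have hv : t * J * t⁻¹ ∈ (pairStab a b : Subgroup G) := mul_mem (mul_mem ht D.memJ) (inv_mem ht)
    have hv2 : orderOf (t * J * t⁻¹) = 2 := (orderOf_conj_eq t J).trans D.ordJ
    have hne : J ≠ t * J * t⁻¹ := fun h => S.three_moves ht ht3 D.memJ D.ordJ (mul_inv_eq_iff_eq_mul.1 h.symm)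
    have hc := (S.inv_mul D.memJ (mul_self_of_orderOf D.ordJ) hv (mul_self_of_orderOf hv2)).1
    have hnL : ∀ g ∈ M, g ∈ Subgroup.normalizer (L : Set G) := fun g hg =>
      Subgroup.mem_normalizer_iff.2 fun x => ⟨hLn g hg x, fun h => by
        have := hLn g⁻¹ (inv_mem hg) _ h
        rwa [show g⁻¹ * (g * x * g⁻¹) * g⁻¹⁻¹ = x by group] at this⟩
    have key : ∀ u ∈ (pairStab a b : Subgroup G), orderOf u = 2 → ∀ x ∈ L, x * u = u * x → x ∈ E := by
      intro u hu hu2 x hx hxu
      obtain ⟨e, he, k, hk, hxk, hk2⟩ := hfix x (hLM hx) u hu hu2 hxu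
      have hxx : x * x = e * e := by
        rw [hxk]
        calc e * k * (e * k) = e * (k * e) * k := by group
          _ = e * e * (k * k) := by rw [← hcomm e he k hk hk2]; group
          _ = _ := by rw [hk2, mul_one]
      obtain ⟨r, hr⟩ := hLo x hx
      have : x = (x * x) ^ (r + 1) := by
        rw [← pow_two, ← pow_mul, show 2 * (r + 1) = (2 * r + 1) + 1 by ring, pow_succ, ← hr, pow_orderOf_eq_one,
          one_mul]
      rw [this, hxx]; exact pow_mem (mul_mem he he) _
    obtain ⟨h1, h2⟩ := S.inv_mul D.memJ (mul_self_of_orderOf D.ordJ) hv (mul_self_of_orderOf hv2)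
    have hprod : orderOf (J * (t * J * t⁻¹)) = 2 := orderOf_two_of h2 fun h => hne
      ((eq_inv_of_mul_eq_one_left h).trans (inv_of_orderOf hv2))
    exact le_of_four hLcard D.ordJ hv2 hc hne
      (hnL _ (hVM J D.memJ (mul_self_of_orderOf D.ordJ)))
      (hnL _ (hVM _ hv (mul_self_of_orderOf hv2)))
      (key J D.memJ D.ordJ) (key _ hv hv2) (key _ (mul_mem D.memJ hv) hprod)
  intro x hx hx2
  suffices h : ∃ e ∈ E, ∃ k ∈ (pairStab a b : Subgroup G), x = e * k ∧ k * k = 1 by
    obtain ⟨e, he, k, hk, hxk, hk2⟩ := h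
    have : e = 1 := hsqE e he (by
      rw [hxk] at hx2
      calc e * e = e * e * (k * k) := by rw [hk2, mul_one]
        _ = e * (e * k) * k := by group
        _ = e * (k * e) * k := by rw [hcomm e he k hk hk2]
        _ = e * k * (e * k) := by group
        _ = 1 := hx2)
    rw [hxk, this, one_mul]; exact hk
  have hJ2 := mul_self_of_orderOf D.ordJ
  have hJM : J ∈ M := hVM J D.memJ hJ2
  have hxJM : x * J ∈ M := mul_mem hx hJM
  have hxi : x⁻¹ = x := inv_eq_of_mul_eq_one_right hx2
  have hJi := inv_of_orderOf D.ordJ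
  rcases Nat.even_or_odd (orderOf (x * J)) with ⟨m, hm⟩ | hodd
  · have hm0 : 0 < m := by have := orderOf_pos (x * J); omega
    set c := (x * J) ^ m with hc
    have hc2 : c * c = 1 := by rw [hc, ← pow_add, ← hm, pow_orderOf_eq_one]
    have hc1 : c ≠ 1 := fun h => by
      have := orderOf_le_of_pow_eq_one hm0 h
      omega
    have hcJ : c * J = J * c := by
      refine (mul_inv_eq_iff_eq_mul.1 ?_).symm
      rw [hc, ← conj_pow, show J * (x * J) * J⁻¹ = (x * J)⁻¹ by
        rw [mul_inv_rev, hxi, hJi]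
        calc J * (x * J) * J = J * x * (J * J) := by group
          _ = J * x := by rw [hJ2, mul_one], inv_pow, ← hc]
      exact inv_eq_of_mul_eq_one_right hc2
    obtain ⟨e, he, k, hk, hck, hk2⟩ := hfix c (pow_mem hxJM m) J D.memJ D.ordJ hcJ
    have he1 : e = 1 := hsqE e he (by
      rw [hck] at hc2
      calc e * e = e * e * (k * k) := by rw [hk2, mul_one]
        _ = e * (e * k) * k := by group
        _ = e * (k * e) * k := by rw [hcomm e he k hk hk2]
        _ = e * k * (e * k) := by group
        _ = 1 := hc2)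
    rw [he1, one_mul] at hck
    have hcom : Commute c (x * J) := Commute.pow_self _ _
    have hcx : x * c = c * x := by
      calc x * c = x * (J * J) * c := by rw [hJ2, mul_one]
        _ = x * J * (J * c) := by simp only [mul_assoc]
        _ = x * J * (c * J) := by rw [hcJ]
        _ = x * J * c * J := by simp only [mul_assoc]
        _ = c * (x * J) * J := by rw [hcom.eq]
        _ = c * x := by rw [mul_assoc c, mul_assoc x, hJ2, mul_one]
    exact hfix x hx c (hck ▸ hk) (orderOf_two_of hc2 hc1) hcx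
  · have hmem := hLE (hLin _ hxJM fun h => (Nat.not_even_iff_odd.2 hodd) (even_iff_two_dvd.2 h))
    exact ⟨x * J, hmem, J, D.memJ, by rw [mul_assoc, hJ2, mul_one], hJ2⟩

/-- In case A the involutions centralising `E` lie in the four-group. -/
theorem involution_centralizing_A (hft : ∀ t ∈ (pairStab a b : Subgroup G), orderOf t = 3 →
      (∀ c : Ω, J • c = c → t • c = c) → ∀ c : Ω, t • c = c → J • c = c)
    (hb : p = 3 → ¬ 9 * Nat.card ↥E ∣ Nat.card G ∧ 3 < fixCard Ω J) :
    ∀ x ∈ Subgroup.centralizer (E : Set G), x * x = 1 → x ∈ (pairStab a b : Subgroup G) := by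
  classical
  haveI : Fact (Nat.Prime 3) := ⟨Nat.prime_three⟩
  set C := Subgroup.centralizer (E : Set G) with hC
  have hVC : ∀ v ∈ (pairStab a b : Subgroup G), v * v = 1 → v ∈ C := fun v hv hv2 =>
    S.mem_centralizer_of_sq D hA hE hv hv2
  by_cases ha2 : ∀ k ∈ (pairStab a b : Subgroup G), (∀ c : Ω, J • c = c → k • c = c) → k * k = 1
  · refine S.involution_mem_of_subgroup D hA hE C le_rfl hVC fun x hx hxa _ => ?_
    obtain ⟨e, he, k, hk, hxk, hfix⟩ := S.exists_factor D hA hE hx hxa
    exact ⟨e, he, k, hk, hxk, ha2 k hk hfix⟩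
  push Not at ha2
  obtain ⟨t, ht, htF, ht2⟩ := ha2
  have ht3 : orderOf t = 3 := orderOf_eq_prime
    (by rw [pow_succ, pow_two]; exact (S.order_cases ht).resolve_left ht2) fun e => ht2 (by rw [e, one_mul])
  have htc : t * t * t = 1 := (S.order_cases ht).resolve_left ht2
  -- the whole stabiliser fixes the fixed points
  have hall : ∀ h ∈ (pairStab a b : Subgroup G), ∀ c : Ω, J • c = c → h • c = c := by
    intro h hh c hc
    obtain ⟨v, hv, hv2, he⟩ := S.coset_three ht ht3 hh
    have hvc := hA v hv hv2 c hc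
    rcases he with rfl | rfl | rfl
    · exact hvc
    · rw [mul_smul, htF c hc, hvc]
    · rw [mul_smul, mul_smul, htF c hc, htF c hc, hvc]
  have hF := hft t ht ht3 htF
  -- the element `t` centralises `E`
  have htJ : ∀ c : Ω, J • c = c → J • t • c = t • c := fun c hc => by rw [htF c hc]; exact hc
  have hti : ∀ c : Ω, J • c = c → t⁻¹ • c = c := fun c hc => by rw [inv_smul_eq_iff, htF c hc]
  have htC : t ∈ C := by
    refine Subgroup.mem_centralizer_iff.2 fun e he => ?_
    rcases eq_or_ne e 1 with rfl | he1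
    · simp
    have hm : t * e * t⁻¹ ∈ E := by
      refine hE.sat _ (Subgroup.mem_centralizer_singleton_iff.2 ?_) (by rw [conj_pow, hE.pow e he]; group)
        fun c hc hfc => he1 (hE.free e he c hc ?_)
      · have hw : t⁻¹ * J * t ∈ (pairStab a b : Subgroup G) := mul_mem (mul_mem (inv_mem ht) D.memJ) ht
        have := S.commute_E D hA hE hw (by
          rw [show t⁻¹ * J * t * (t⁻¹ * J * t) = t⁻¹ * (J * J) * t by group, mul_self_of_orderOf D.ordJ]
          group) he
        calc t * e * t⁻¹ * J = t * (e * (t⁻¹ * J * t)) * t⁻¹ := by group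
          _ = t * ((t⁻¹ * J * t) * e) * t⁻¹ := by rw [this]
          _ = _ := by group
      · rw [mul_smul, mul_smul, hti c hc] at hfc
        exact (MulAction.injective t) (hfc.trans (htF c hc).symm)
    have h : e⁻¹ * (t * e * t⁻¹) = 1 := by
      refine hE.free _ (mul_mem (inv_mem he) hm) a D.smul_a ?_
      rw [mul_smul, mul_smul, mul_smul, hti a D.smul_a, htF _ (smul_mem_fix (hE.le_cent he) D.smul_a),
        inv_smul_smul]
    exact (mul_inv_eq_iff_eq_mul.1 (inv_mul_eq_one.1 h).symm).symm
  have htE : t ∉ E := fun h => by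
    have := hE.free t h a D.smul_a (htF a D.smul_a)
    simp [this] at ht3
  have htJ' : ∀ j : ℤ, ∀ v ∈ (pairStab a b : Subgroup G), v * t ^ j ∈ (pairStab a b : Subgroup G) := fun j v hv =>
    mul_mem hv (zpow_mem ht j)
  -- an element centralising `E` and normalising `⟨t⟩`
  have hpres : ∀ x ∈ C, x * t * x⁻¹ = t ∨ x * t * x⁻¹ = t⁻¹ → x * t = t * x := by
    intro x hx hxt
    have hxa : J • x • a = x • a := by
      refine hF _ ?_
      rcases hxt with h | h
      · rw [← mul_smul, ← mul_inv_eq_iff_eq_mul.1 h, mul_smul, htF a D.smul_a]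
      · have h' : t * x = x * t⁻¹ := by
          have h1 : x * t⁻¹ * x⁻¹ = t := by
            calc x * t⁻¹ * x⁻¹ = (x * t * x⁻¹)⁻¹ := by group
              _ = t := by rw [h, inv_inv]
          exact (mul_inv_eq_iff_eq_mul.1 h1).symm
        rw [← mul_smul, h', mul_smul, hti a D.smul_a]
    obtain ⟨e, he, k, hk, hxk, -⟩ := S.exists_factor D hA hE hx hxa
    have het : e * t = t * e := (Subgroup.mem_centralizer_iff.1 htC e he)
    have hkt : k * t * k⁻¹ = t ∨ k * t * k⁻¹ = t⁻¹ := by
      rw [hxk] at hxt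
      have e1 : ∀ y, e * k * t * (e * k)⁻¹ = y → y * e = e * y → k * t * k⁻¹ = y := by
        intro y h hy
        calc k * t * k⁻¹ = e⁻¹ * (e * k * t * (e * k)⁻¹) * e := by group
          _ = y := by rw [h, mul_assoc, hy, inv_mul_cancel_left]
      exact hxt.imp (fun h => e1 _ h het.symm) fun h => e1 _ h (Commute.inv_left (het.symm : Commute t e)).eq
    obtain ⟨v, hv, hv2, hkv⟩ := S.coset_three ht ht3 hk
    have hk' : v * t * v⁻¹ = k * t * k⁻¹ := by
      rcases hkv with rfl | rfl | rfl <;> group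
    have hv1 : v = 1 := by
      by_contra hv1
      have hvo := orderOf_two_of hv2 hv1
      have hmem : t * v * t⁻¹ * v ∈ Subgroup.zpowers t := by
        have h1 : v * t * v⁻¹ ∈ Subgroup.zpowers t := by
          rw [hk']
          rcases hkt with h | h <;> rw [h]
          exacts [Subgroup.mem_zpowers t, inv_mem (Subgroup.mem_zpowers t)]
        have h2 := mul_mem (Subgroup.mem_zpowers t) (inv_mem h1)
        rwa [show t * (v * t * v⁻¹)⁻¹ = t * v * t⁻¹ * v⁻¹ by group, inv_of_orderOf hvo] at h2
      have hw : t * v * t⁻¹ ∈ (pairStab a b : Subgroup G) := mul_mem (mul_mem ht hv) (inv_mem ht)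
      obtain ⟨-, hsq⟩ := S.inv_mul hw (mul_self_of_orderOf ((orderOf_conj_eq t v).trans hvo)) hv hv2
      have hd := orderOf_dvd_of_mem_zpowers hmem
      have hd2 : orderOf (t * v * t⁻¹ * v) ∣ 2 := orderOf_dvd_of_pow_eq_one (by rw [pow_two, hsq])
      rw [ht3] at hd
      have h1 := Nat.dvd_gcd hd hd2
      norm_num at h1
      exact S.three_moves ht ht3 hv hvo (mul_inv_eq_iff_eq_mul.1
        ((eq_inv_of_mul_eq_one_left h1).trans (inv_of_orderOf hvo)))
    have hkc : k * t = t * k := by
      rcases hkv with rfl | rfl | rfl <;> subst hv1 <;> group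
    rw [hxk]
    exact (Commute.mul_left (het : Commute e t) (hkc : Commute k t)).eq
  have hfac : ∀ x ∈ C, x * t = t * x → ∃ e ∈ E, ∃ k ∈ Subgroup.zpowers t, x = e * k := by
    intro x hx hxt
    have hxa : J • x • a = x • a := hF _ (by rw [← mul_smul, ← hxt, mul_smul, htF a D.smul_a])
    obtain ⟨e, he, k, hk, hxk, -⟩ := S.exists_factor D hA hE hx hxa
    refine ⟨e, he, k, S.three_cent ht ht3 hk ?_, hxk⟩
    rw [show k = e⁻¹ * x by rw [hxk]; group, mul_assoc, hxt, ← mul_assoc,
      (Commute.inv_left (Subgroup.mem_centralizer_iff.1 htC e he : Commute e t)).eq, mul_assoc]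
  -- the complement to a Sylow 3-subgroup
  obtain ⟨M, hMC, hVM, hMt⟩ : ∃ M : Subgroup G, M ≤ C ∧
      (∀ x ∈ C, x * x = 1 → x ∈ M) ∧ ∀ e ∈ E, ∀ k ∈ Subgroup.zpowers t, e * k ∈ M → k = 1 := by
    by_cases hp3 : p = 3
    · obtain ⟨hb9, hi3⟩ := hb hp3
      subst hp3
      have hzn : Subgroup.zpowers t ≤ Subgroup.normalizer (E : Set G) := by
        rw [Subgroup.zpowers_le, Subgroup.mem_normalizer_iff]
        intro y
        constructor
        · intro hy; rwa [← Subgroup.mem_centralizer_iff.1 htC y hy, mul_inv_cancel_right]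
        · intro hy
          have h1 := Subgroup.mem_centralizer_iff.1 htC _ hy
          have : y = t * y * t⁻¹ := by
            calc y = t⁻¹ * (t * y * t⁻¹ * t) := by group
              _ = _ := by rw [h1]; group
          rwa [this]
      set Q := E ⊔ Subgroup.zpowers t with hQ
      have hQm : ∀ y, y ∈ Q ↔ ∃ e ∈ E, ∃ k ∈ Subgroup.zpowers t, e * k = y := by
        intro y
        rw [← SetLike.mem_coe, hQ, Subgroup.coe_mul_of_right_le_normalizer_left E _ hzn, Set.mem_mul]
        simp only [SetLike.mem_coe]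
      have hkz : ∀ k ∈ Subgroup.zpowers t, ∀ e ∈ E, k * e = e * k := by
        intro k hk e he
        obtain ⟨j, rfl⟩ := Subgroup.mem_zpowers_iff.1 hk
        exact (Commute.zpow_left (Subgroup.mem_centralizer_iff.1 htC e he).symm j).eq
      have hQC : Q ≤ C := sup_le (fun e he => hE.mem_centralizer he) (Subgroup.zpowers_le.2 htC)
      have hQp : IsPGroup 3 ↥Q := by
        intro y
        obtain ⟨e, he, k, hk, hy⟩ := (hQm _).1 y.2
        obtain ⟨j, rfl⟩ := Subgroup.mem_zpowers_iff.1 hk
        refine ⟨1, Subtype.ext ?_⟩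
        rw [Subgroup.coe_pow, ← hy, pow_one, Commute.mul_pow ((hkz _ hk e he).symm : Commute e _), hE.pow e he,
          ← zpow_natCast (t ^ j) 3, ← zpow_mul, mul_comm, zpow_mul, zpow_natCast,
          show t ^ 3 = 1 by rw [← ht3]; exact pow_orderOf_eq_one t, one_zpow, one_mul]
        rfl
      have hQcard : Nat.card ↥Q = 3 * Nat.card ↥E := by
        refine (Nat.card_congr (Equiv.ofBijective (fun q : ↥(Subgroup.zpowers t) × ↥E =>
          (⟨q.2.1 * q.1.1, (hQm _).2 ⟨_, q.2.2, _, q.1.2, rfl⟩⟩ : ↥Q)) ⟨?_, ?_⟩)).symm.trans ?_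
        · rintro ⟨⟨k, hk⟩, e, he⟩ ⟨⟨k', hk'⟩, e', he'⟩ h
          have h' : e * k = e' * k' := congrArg Subtype.val h
          have h2 : e'⁻¹ * e = k' * k⁻¹ := by
            calc e'⁻¹ * e = e'⁻¹ * (e * k) * k⁻¹ := by group
              _ = _ := by rw [h']; group
          have h3 : e'⁻¹ * e = 1 := by
            refine hE.free _ (mul_mem (inv_mem he') he) a D.smul_a ?_
            rw [h2]
            obtain ⟨j, hj⟩ := Subgroup.mem_zpowers_iff.1 (mul_mem hk' (inv_mem hk))
            rw [← hj]
            exact (mem_pairStab.1 (zpow_mem ht j)).1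
          have he'' : e = e' := (inv_mul_eq_one.1 h3).symm
          subst he''
          obtain rfl : k = k' := mul_left_cancel h'
          rfl
        · rintro ⟨y, hy⟩
          obtain ⟨e, he, k, hk, rfl⟩ := (hQm _).1 hy
          exact ⟨⟨⟨k, hk⟩, ⟨e, he⟩⟩, rfl⟩
        · rw [Nat.card_prod, Nat.card_zpowers, ht3]
      -- `j = 1`
      have hsyl : ∀ x ∈ C, (∃ m, x ^ 3 ^ m = 1) → x ∈ Subgroup.normalizer (Q : Set G) → x ∈ Q := by
        intro x _ ⟨m, hm⟩ hxn
        have hP : IsPGroup 3 ↥(Q ⊔ Subgroup.zpowers x : Subgroup G) :=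
          hQp.to_sup_of_normal_left' (IsPGroup.of_card (n := (Nat.log 3 (orderOf x))) (by
            rw [Nat.card_zpowers]
            obtain ⟨j, -, hj⟩ := (Nat.dvd_prime_pow Nat.prime_three).1 (orderOf_dvd_of_pow_eq_one hm)
            rw [hj, Nat.log_pow (by norm_num)])) (Subgroup.zpowers_le.2 hxn)
        by_contra hxQ
        obtain ⟨n, hn⟩ := IsPGroup.iff_card.1 hP
        obtain ⟨k, hk⟩ := IsPGroup.iff_card.1 hE.isPGroup
        have hlt : Nat.card ↥Q < 3 ^ n := by
          rw [← hn]
          exact lt_of_le_of_ne (Nat.le_of_dvd Nat.card_pos (Subgroup.card_dvd_of_le le_sup_left)) fun h =>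
            hxQ ((Subgroup.eq_of_le_of_card_ge le_sup_left h.ge).symm ▸ Subgroup.mem_sup_right (Subgroup.mem_zpowers x))
        rw [hQcard, hk, ← pow_succ'] at hlt
        refine hb9 ((?_ : 9 * Nat.card ↥E ∣ 3 ^ n).trans (hn ▸ Subgroup.card_subgroup_dvd_card _))
        rw [hk, show (9 : ℕ) = 3 ^ 2 by norm_num, ← pow_add]
        exact pow_dvd_pow 3 (by have := (Nat.pow_lt_pow_iff_right (by norm_num : 1 < 3)).1 hlt; omega)
      have hplus : ∀ x ∈ C, x ∈ Subgroup.normalizer (Q : Set G) → ∀ e ∈ E, x * t * x⁻¹ = e * t → e = 1 := by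
        intro x hx hxn e he hxt
        have hcx : ∀ n : ℕ, x ^ n * t * (x ^ n)⁻¹ = e ^ n * t := by
          intro n
          induction n with
          | zero => simp
          | succ n ih =>
            have hxe : Commute x (e ^ n) := Commute.pow_right (Subgroup.mem_centralizer_iff.1 hx e he).symm n
            calc x ^ (n + 1) * t * (x ^ (n + 1))⁻¹ = x * (x ^ n * t * (x ^ n)⁻¹) * x⁻¹ := by group
              _ = (x * e ^ n) * t * x⁻¹ := by rw [ih]; group
              _ = e ^ n * (x * t * x⁻¹) := by rw [hxe.eq]; group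
              _ = _ := by rw [hxt, ← mul_assoc, ← pow_succ]
        obtain ⟨m, l, hl, hord⟩ := Nat.exists_eq_pow_mul_and_not_dvd (orderOf_pos x).ne' 3 (by norm_num)
        have hxl : x ^ l ∈ Q := hsyl _ (pow_mem hx l)
          ⟨m, by rw [← pow_mul, mul_comm, ← hord, pow_orderOf_eq_one]⟩ (pow_mem hxn l)
        obtain ⟨e', he', k', hk', hxe⟩ := (hQm _).1 hxl
        have h1 := hcx l
        have hkt : Commute k' t := by
          obtain ⟨j, rfl⟩ := Subgroup.mem_zpowers_iff.1 hk'
          exact (Commute.refl t).zpow_left j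
        rw [← hxe, show e' * k' * t * (e' * k')⁻¹ = t by
          rw [(Commute.mul_left (Subgroup.mem_centralizer_iff.1 htC e' he' : Commute e' t) hkt).eq]; group] at h1
        have h2 : e ^ l = 1 := mul_right_cancel (b := t) (by rw [one_mul]; exact h1.symm)
        exact orderOf_eq_one_iff.1 (Nat.eq_one_of_dvd_coprimes ((Nat.Prime.coprime_iff_not_dvd Nat.prime_three).2 hl)
          (orderOf_dvd_of_pow_eq_one (hE.pow e he)) (orderOf_dvd_of_pow_eq_one h2))
      -- an inverting element is impossible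
      have hminus : ∀ x ∈ C, x ∈ Subgroup.normalizer (Q : Set G) → ∀ e ∈ E, x * t * x⁻¹ ≠ e * t⁻¹ := by
        intro x hx hxn e he hxt
        have he1 : e ≠ 1 := by
          rintro rfl
          rw [one_mul] at hxt
          have h1 := hpres x hx (Or.inr hxt)
          rw [h1, mul_inv_cancel_right] at hxt
          have h2 : t * t = 1 := by rw [← eq_inv_iff_mul_eq_one]; exact hxt
          exact ht2 h2
        have hnQ : ∀ u ∈ C, ∀ e' ∈ E, ∀ k ∈ Subgroup.zpowers t, u * t * u⁻¹ = e' * k →
            u ∈ Subgroup.normalizer (Q : Set G) := by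
          intro u hu e' he' k hk hut
          have hle : Q.map (MulAut.conj u).toMonoidHom ≤ Q := by
            rintro _ ⟨y, hy, rfl⟩
            obtain ⟨f, hf, l, hl, rfl⟩ := (hQm _).1 hy
            obtain ⟨j, rfl⟩ := Subgroup.mem_zpowers_iff.1 hl
            show u * (f * t ^ j) * u⁻¹ ∈ Q
            rw [show u * (f * t ^ j) * u⁻¹ = (u * f * u⁻¹) * (u * t * u⁻¹) ^ j by
              rw [conj_zpow]; group, hut, ← (Subgroup.mem_centralizer_iff.1 hu f hf), mul_inv_cancel_right]
            exact mul_mem (Subgroup.mem_sup_left hf) (zpow_mem ((hQm _).2 ⟨e', he', k, hk, rfl⟩) j)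
          have heq : Q.map (MulAut.conj u).toMonoidHom = Q := Subgroup.eq_of_le_of_card_ge hle
            (le_of_eq (Nat.card_congr (Q.equivMapOfInjective _ (MulAut.conj u).injective).toEquiv))
          refine Subgroup.mem_normalizer_iff.2 fun y => ⟨fun hy => hle ⟨y, hy, rfl⟩, fun hy => ?_⟩
          rw [← heq] at hy
          obtain ⟨z, hz, hz'⟩ := hy
          rwa [← (MulAut.conj u).injective hz']
        have huniq : ∀ y ∈ C, ∀ e' ∈ E, y * t * y⁻¹ = e' * t⁻¹ → e' = e := by
          intro y hy e' he' hyt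
          have hy1 : y⁻¹ * t⁻¹ * y = e'⁻¹ * t := by
            have h1 : t⁻¹ = e'⁻¹ * (y * t * y⁻¹) := by rw [hyt]; group
            rw [h1, show y⁻¹ * (e'⁻¹ * (y * t * y⁻¹)) * y = (y⁻¹ * e'⁻¹ * y) * t by group,
              show y⁻¹ * e'⁻¹ * y = e'⁻¹ by
                rw [mul_assoc, Subgroup.mem_centralizer_iff.1 hy _ (inv_mem he'), inv_mul_cancel_left]]
          have hz : (y⁻¹ * x) * t * (y⁻¹ * x)⁻¹ = (e * e'⁻¹) * t := by
            calc (y⁻¹ * x) * t * (y⁻¹ * x)⁻¹ = y⁻¹ * (x * t * x⁻¹) * y := by group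
              _ = (y⁻¹ * e) * t⁻¹ * y := by rw [hxt]; group
              _ = (e * y⁻¹) * t⁻¹ * y := by rw [(Subgroup.mem_centralizer_iff.1 (inv_mem hy) e he)]
              _ = e * (y⁻¹ * t⁻¹ * y) := by group
              _ = _ := by rw [hy1]; group
          exact (mul_inv_eq_one.1 (hplus _ (mul_mem (inv_mem hy) hx)
            (hnQ _ (mul_mem (inv_mem hy) hx) _ (mul_mem he (inv_mem he')) t (Subgroup.mem_zpowers t) hz)
            _ (mul_mem he (inv_mem he')) hz)).symm
        obtain ⟨f, hf, hfne⟩ : ∃ f : Ω, J • f = f ∧ f ∉ ({a, e • a, e⁻¹ • a} : Set Ω) := by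
          by_contra hcon
          push Not at hcon
          have hle : fixCard Ω J ≤ ({a, e • a, e⁻¹ • a} : Set Ω).ncard := by
            rw [← Nat.card_coe_set_eq]
            exact Nat.card_le_card_of_injective (fun c : {c : Ω // J • c = c} =>
              (⟨c.1, hcon c.1 c.2⟩ : ({a, e • a, e⁻¹ • a} : Set Ω))) fun c d h =>
              Subtype.ext (congrArg (fun q => q.1) h :)
          have h3 : ({a, e • a, e⁻¹ • a} : Set Ω).ncard ≤ 3 := by
            refine le_trans (Set.ncard_insert_le _ _) ?_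
            exact Nat.succ_le_succ (le_trans (Set.ncard_insert_le _ _) (by rw [Set.ncard_singleton]))
          omega
        simp only [Set.mem_insert_iff, Set.mem_singleton_iff, not_or] at hfne
        obtain ⟨hfa, hfe, hfe'⟩ := hfne
        have hea : e • a ≠ a := fun h => he1 (hE.free e he a D.smul_a h)
        have hJea : J • e • a = e • a := smul_mem_fix (hE.le_cent he) D.smul_a
        -- transport the pair `(a, e a)` to `(a, f)`
        obtain ⟨g₀, hg1, hg2⟩ := exists_smul_pair S.two (Ne.symm hea) (Ne.symm hfa)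
        change g₀ • a = a at hg1
        change g₀ • e • a = f at hg2
        have hpair : ∀ c : Ω, J • c = c → c ≠ a →
            (pairStab a b : Subgroup G) = pairStab a c := by
          intro c hc hca
          refine Subgroup.eq_of_le_of_card_ge (fun h hh => mem_pairStab.2 ⟨hall h hh a D.smul_a, hall h hh c hc⟩) ?_
          obtain ⟨q, hq1, hq2⟩ := exists_smul_pair S.two S.ne (Ne.symm hca)
          change q • a = a at hq1
          change q • b = c at hq2
          refine le_of_eq (Nat.card_congr (Equiv.subtypeEquiv (MulAut.conj q).symm.toEquiv fun y => ?_))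
          show y ∈ pairStab a c ↔ q⁻¹ * y * q ∈ pairStab a b
          rw [← conj_mem_pairStab_iff q (q⁻¹ * y * q), show q * (q⁻¹ * y * q) * q⁻¹ = y by group, hq1, hq2]
        have hconj : ∀ y, y ∈ (pairStab a b : Subgroup G) ↔ g₀ * y * g₀⁻¹ ∈ (pairStab a b : Subgroup G) := by
          intro y
          have h := conj_mem_pairStab_iff (a := a) (b := e • a) g₀ y
          rw [hg1, hg2, ← hpair f hf hfa, ← hpair _ hJea hea] at h
          exact h.symm
        -- adjust so that `⟨t⟩` is normalised
        obtain ⟨g, hga, hgf, hgH, hgt⟩ : ∃ g : G, g • a = a ∧ g • e • a = f ∧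
            (∀ y, y ∈ (pairStab a b : Subgroup G) ↔ g * y * g⁻¹ ∈ (pairStab a b : Subgroup G)) ∧
            (g⁻¹ * t * g = t ∨ g⁻¹ * t * g = t⁻¹) := by
          set u := g₀⁻¹ * t * g₀ with hu
          have huH : u ∈ (pairStab a b : Subgroup G) := (hconj u).2 (by
            rw [hu, show g₀ * (g₀⁻¹ * t * g₀) * g₀⁻¹ = t by group]; exact ht)
          have hu3 : orderOf u = 3 := by rw [hu]; simpa using (orderOf_conj_eq g₀⁻¹ t).trans ht3
          obtain ⟨v, hv, hv2, huv⟩ := S.coset_three ht ht3 huH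
          obtain ⟨φ, hφ, hr⟩ := S.exists_embed
          obtain ⟨v', hv'⟩ := S.exists_preimage hv φ hr
          obtain ⟨t', ht'⟩ := S.exists_preimage ht φ hr
          have h3' : t' * t' * t' = 1 := hφ (by rw [map_mul, map_mul, ht', htc, map_one])
          have ht'1 : t' ≠ 1 := fun h => by rw [h, map_one] at ht'; simp [← ht'] at ht3
          have hv'2 : v' * v' = 1 := hφ (by rw [map_mul, hv', hv2, map_one])
          obtain ⟨s, hs, hsv, hsu⟩ : ∃ s ∈ (pairStab a b : Subgroup G), s * s = 1 ∧
              (s * t * s⁻¹ = u ∨ s * t⁻¹ * s⁻¹ = u) := by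
            rcases huv with h | h | h
            · exfalso
              rcases eq_or_ne v 1 with h1 | h1
              · rw [h, h1] at hu3; simp at hu3
              · rw [h, orderOf_two_of hv2 h1] at hu3; norm_num at hu3
            · obtain ⟨w, hw1, hw2⟩ := Alt.three_commutator t' v' h3' ht'1 hv'2
              refine ⟨φ w, hr ▸ ⟨w, rfl⟩, by rw [← map_mul, hw1, map_one], Or.inl ?_⟩
              rw [h, ← hv', ← ht', ← map_inv, ← map_mul, ← map_mul, hw2, map_mul]
            · obtain ⟨w, hw1, hw2⟩ := Alt.three_commutator (t' * t') v'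
                (by rw [show t' * t' * (t' * t') * (t' * t') = (t' * t' * t') * (t' * t' * t') by group, h3', one_mul])
                (fun h1 => ht'1 (by rw [← h3', h1, one_mul])) hv'2
              refine ⟨φ w, hr ▸ ⟨w, rfl⟩, by rw [← map_mul, hw1, map_one], Or.inr ?_⟩
              rw [h, ← hv', ← eq_inv_of_mul_eq_one_left htc, ← ht', ← map_mul, ← map_inv, ← map_mul, ← map_mul,
                hw2, map_mul]
          obtain ⟨hs1, -⟩ := mem_pairStab.1 hs
          refine ⟨g₀ * s, by rw [mul_smul, hs1, hg1], by rw [mul_smul, hall s hs _ hJea, hg2], fun y => ?_, ?_⟩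
          · rw [show g₀ * s * y * (g₀ * s)⁻¹ = g₀ * (s * y * s⁻¹) * g₀⁻¹ by group, ← hconj]
            refine ⟨fun h => mul_mem (mul_mem hs h) (inv_mem hs), fun h => ?_⟩
            have := mul_mem (mul_mem (inv_mem hs) h) hs
            rwa [show s⁻¹ * (s * y * s⁻¹) * s = y by group] at this
          · have h1 : (g₀ * s)⁻¹ * t * (g₀ * s) = s⁻¹ * u * s := by rw [hu]; group
            rw [h1]
            rcases hsu with h2 | h2
            · left; rw [← h2]; group
            · right; rw [← h2]; group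
        have hgF : ∀ c : Ω, J • c = c → J • g • c = g • c := by
          intro c hc
          have hw : g⁻¹ * J * g ∈ (pairStab a b : Subgroup G) := (hgH _).2 (by
            rw [show g * (g⁻¹ * J * g) * g⁻¹ = J by group]; exact D.memJ)
          have h := hall _ hw c hc
          rw [mul_smul, mul_smul, inv_smul_eq_iff] at h
          exact h
        have hgi : ∀ c : Ω, J • c = c → J • g⁻¹ • c = g⁻¹ • c := by
          intro c hc
          have hw : g * J * g⁻¹ ∈ (pairStab a b : Subgroup G) := (hgH J).1 D.memJ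
          have h := hall _ hw c hc
          rw [mul_smul, mul_smul] at h
          exact (MulAction.injective g) (show g • (J • g⁻¹ • c) = g • g⁻¹ • c by rw [h, smul_inv_smul])
        have hge : g * e * g⁻¹ ∈ E := by
          refine hE.sat _ (Subgroup.mem_centralizer_singleton_iff.2 ?_) (by rw [conj_pow, hE.pow e he]; group) ?_
          · have hw : g⁻¹ * J * g ∈ (pairStab a b : Subgroup G) := (hgH _).2 (by
              rw [show g * (g⁻¹ * J * g) * g⁻¹ = J by group]; exact D.memJ)
            have hw2 : g⁻¹ * J * g * (g⁻¹ * J * g) = 1 := by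
              rw [show g⁻¹ * J * g * (g⁻¹ * J * g) = g⁻¹ * (J * J) * g by group, mul_self_of_orderOf D.ordJ]; group
            calc g * e * g⁻¹ * J = g * (e * (g⁻¹ * J * g)) * g⁻¹ := by group
              _ = g * ((g⁻¹ * J * g) * e) * g⁻¹ := by rw [S.commute_E D hA hE hw hw2 he]
              _ = _ := by group
          · intro c hc h
            rw [mul_smul, mul_smul] at h
            exact he1 (hE.free e he _ (hgi c hc) ((MulAction.injective g)
              (show g • (e • g⁻¹ • c) = g • g⁻¹ • c by rw [h, smul_inv_smul])))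
        have hgea : (g * e * g⁻¹) • a = f := by
          rw [mul_smul, mul_smul, show g⁻¹ • a = a by rw [inv_smul_eq_iff, hga], hgf]
        have hgxC : g * x * g⁻¹ ∈ C := by
          refine Subgroup.mem_centralizer_iff.2 fun y hy => ?_
          have hy' : g⁻¹ * y * g ∈ E := by
            rcases eq_or_ne y 1 with rfl | hy1
            · simp [one_mem]
            refine hE.sat _ (Subgroup.mem_centralizer_singleton_iff.2 ?_) ?_ ?_
            · have hw : g * J * g⁻¹ ∈ (pairStab a b : Subgroup G) := (hgH J).1 D.memJ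
              have hw2 : g * J * g⁻¹ * (g * J * g⁻¹) = 1 := by
                rw [show g * J * g⁻¹ * (g * J * g⁻¹) = g * (J * J) * g⁻¹ by group, mul_self_of_orderOf D.ordJ]; group
              calc g⁻¹ * y * g * J = g⁻¹ * (y * (g * J * g⁻¹)) * g := by group
                _ = g⁻¹ * ((g * J * g⁻¹) * y) * g := by rw [S.commute_E D hA hE hw hw2 hy]
                _ = _ := by group
            · have : (g⁻¹ * y * g⁻¹⁻¹) ^ 3 = g⁻¹ * y ^ 3 * g⁻¹⁻¹ := conj_pow
              rw [inv_inv] at this
              rw [this, hE.pow y hy]; group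
            · intro c hc h
              rw [mul_smul, mul_smul, inv_smul_eq_iff] at h
              exact hy1 (hE.free y hy _ (hgF c hc) h)
          calc y * (g * x * g⁻¹) = g * ((g⁻¹ * y * g) * x) * g⁻¹ := by group
            _ = g * (x * (g⁻¹ * y * g)) * g⁻¹ := by rw [Subgroup.mem_centralizer_iff.1 hx _ hy']
            _ = _ := by group
        have key : g * e * g⁻¹ = e ∨ g * e * g⁻¹ = e⁻¹ := by
          rcases hgt with h | h
          · have hgt' : g * t * g⁻¹ = t := by
              conv_lhs => rw [← h]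
              group
            left
            refine huniq _ hgxC _ hge ?_
            calc g * x * g⁻¹ * t * (g * x * g⁻¹)⁻¹ = g * (x * (g⁻¹ * t * g) * x⁻¹) * g⁻¹ := by group
              _ = g * e * g⁻¹ * (g * t * g⁻¹)⁻¹ := by rw [h, hxt]; group
              _ = _ := by rw [hgt']
          · have hgt' : g * t * g⁻¹ = t⁻¹ := by
              have : t⁻¹⁻¹ = (g⁻¹ * t * g)⁻¹ := by rw [h]
              rw [inv_inv] at this
              conv_lhs => rw [this]
              group
            right
            rw [← inv_eq_iff_eq_inv]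
            refine huniq _ hgxC _ (inv_mem hge) ?_
            have hce : (g * e * g⁻¹)⁻¹ * t = t * (g * e * g⁻¹)⁻¹ := Subgroup.mem_centralizer_iff.1 htC _ (inv_mem hge)
            have hxt' : x * t⁻¹ * x⁻¹ = t * e⁻¹ := by
              rw [show x * t⁻¹ * x⁻¹ = (x * t * x⁻¹)⁻¹ by group, hxt]; group
            calc g * x * g⁻¹ * t * (g * x * g⁻¹)⁻¹ = g * (x * (g⁻¹ * t * g) * x⁻¹) * g⁻¹ := by group
              _ = g * t * g⁻¹ * (g * e * g⁻¹)⁻¹ := by rw [h, hxt']; group
              _ = _ := by
                rw [hgt']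
                exact ((Commute.inv_left (show Commute t ((g * e * g⁻¹)⁻¹) from hce.symm))).eq
        rcases key with h | h <;> rw [h] at hgea
        · exact hfe hgea.symm
        · exact hfe' hgea.symm
      obtain ⟨M, hMC, -, hMQ, hMin, -⟩ := exists_complement_in (q := 3) (C := C) (Q := Q) hQC hQp hsyl
        (fun x hx hxn y hy => by
          obtain ⟨e, he, k, hk, hxek⟩ :=
            (hQm _).1 ((Subgroup.mem_normalizer_iff.1 hxn t).1 (Subgroup.mem_sup_right (Subgroup.mem_zpowers t)))
          have hxt : x * t = t * x := by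
            obtain ⟨j, rfl⟩ := Subgroup.mem_zpowers_iff.1 hk
            have hj3 : t ^ j = t ^ (j % 3) := by
              conv_lhs => rw [← Int.mul_ediv_add_emod j 3, zpow_add, zpow_mul,
                show t ^ (3 : ℤ) = 1 by rw [show (3 : ℤ) = ((3 : ℕ) : ℤ) from rfl, zpow_natCast, ← ht3,
                  pow_orderOf_eq_one], one_zpow, one_mul]
            have h0 := Int.emod_nonneg j (by norm_num : (3 : ℤ) ≠ 0)
            have h1 := Int.emod_lt_of_pos j (by norm_num : (0 : ℤ) < 3)
            rw [hj3] at hxek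
            obtain h | h | h : j % 3 = 0 ∨ j % 3 = 1 ∨ j % 3 = 2 := by omega
            · exfalso
              rw [h, zpow_zero, mul_one] at hxek
              refine htE ?_
              have : t = x⁻¹ * e * x := by rw [hxek]; group
              rw [this, mul_assoc, Subgroup.mem_centralizer_iff.1 hx e he, inv_mul_cancel_left]
              exact he
            · rw [h, zpow_one] at hxek
              have := hplus x hx hxn e he hxek.symm
              rw [this, one_mul] at hxek
              exact mul_inv_eq_iff_eq_mul.1 hxek.symm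
            · exfalso
              rw [h, show (2 : ℤ) = ((2 : ℕ) : ℤ) from rfl, zpow_natCast, pow_two,
                eq_inv_of_mul_eq_one_left htc] at hxek
              exact hminus x hx hxn e he hxek.symm
          obtain ⟨f, hf, l, hl, rfl⟩ := (hQm _).1 hy
          obtain ⟨j, rfl⟩ := Subgroup.mem_zpowers_iff.1 hl
          exact (Commute.mul_right (Subgroup.mem_centralizer_iff.1 hx f hf).symm
            ((show Commute x t from hxt).zpow_right j)).eq)
      refine ⟨M, hMC, fun x hx hx2 => hMin x hx fun h => ?_, fun e he k hk hm => ?_⟩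
      · have := h.trans (orderOf_dvd_of_pow_eq_one (show x ^ 2 = 1 by rw [pow_two, hx2]))
        norm_num at this
      · have h1 := hMQ _ hm ((hQm _).2 ⟨e, he, k, hk, rfl⟩)
        have h2 : e = k⁻¹ := eq_inv_of_mul_eq_one_left h1
        have h3 : e = 1 := by
          refine hE.free e he a D.smul_a ?_
          obtain ⟨j, hj⟩ := Subgroup.mem_zpowers_iff.1 (inv_mem hk)
          rw [h2, ← hj]
          exact (mem_pairStab.1 (zpow_mem ht j)).1
        rwa [h3, one_mul] at h1
    · -- `p ≠ 3`
      set Q := Subgroup.zpowers t with hQ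
      have hQp : IsPGroup 3 ↥Q := IsPGroup.of_card (n := 1) (by rw [hQ, Nat.card_zpowers, ht3, pow_one])
      have hnt : ∀ x ∈ C, x ∈ Subgroup.normalizer (Q : Set G) → x * t = t * x := by
        intro x hx hxn
        refine hpres x hx ?_
        obtain ⟨j, hj⟩ := Subgroup.mem_zpowers_iff.1
          ((Subgroup.mem_normalizer_iff.1 hxn t).1 (Subgroup.mem_zpowers t))
        have hj3 : t ^ j = t ^ (j % 3) := by
          conv_lhs => rw [← Int.mul_ediv_add_emod j 3, zpow_add, zpow_mul,
            show t ^ (3 : ℤ) = 1 by rw [show (3 : ℤ) = ((3 : ℕ) : ℤ) from rfl, zpow_natCast, ← ht3,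
              pow_orderOf_eq_one], one_zpow, one_mul]
        have h0 := Int.emod_nonneg j (by norm_num : (3 : ℤ) ≠ 0)
        have h1 := Int.emod_lt_of_pos j (by norm_num : (0 : ℤ) < 3)
        rw [hj3] at hj
        obtain h | h | h : j % 3 = 0 ∨ j % 3 = 1 ∨ j % 3 = 2 := by omega
        · exfalso
          rw [h, zpow_zero] at hj
          have : t = 1 := conj_eq_one_iff.1 hj.symm
          simp [this] at ht3
        · exact Or.inl (by rw [← hj, h, zpow_one])
        · exact Or.inr (by rw [← hj, h, show (2 : ℤ) = ((2 : ℕ) : ℤ) from rfl, zpow_natCast, pow_two,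
            eq_inv_of_mul_eq_one_left htc])
      have hecop : ∀ e ∈ E, ¬ 3 ∣ orderOf e := fun e he h =>
        hp3 ((Nat.prime_dvd_prime_iff_eq Nat.prime_three hE.prime).1
          (h.trans (orderOf_dvd_of_pow_eq_one (hE.pow e he)))).symm
      obtain ⟨M, hMC, -, hMQ, hMin, -⟩ := exists_complement_in (q := 3) (C := C) (Q := Q)
        (Subgroup.zpowers_le.2 htC) hQp (fun x hx ⟨m, hm⟩ hxn => by
          obtain ⟨e, he, k, hk, hxk⟩ := hfac x hx (hnt x hx hxn)
          have hek : Commute e k := by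
            obtain ⟨j, rfl⟩ := Subgroup.mem_zpowers_iff.1 hk
            exact Commute.zpow_right (Subgroup.mem_centralizer_iff.1 htC e he) j
          have he1 : e = 1 := by
            rw [← orderOf_eq_one_iff]
            have h1 : e ^ 3 ^ (m + 1) = 1 := by
              have : (e * k) ^ 3 ^ (m + 1) = 1 := by rw [← hxk, pow_succ, pow_mul, hm, one_pow]
              rwa [hek.mul_pow, show k ^ 3 ^ (m + 1) = 1 by
                rw [pow_succ', pow_mul]
                obtain ⟨j, rfl⟩ := Subgroup.mem_zpowers_iff.1 hk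
                rw [← zpow_natCast (t ^ j) 3, ← zpow_mul, mul_comm, zpow_mul, zpow_natCast, ← ht3,
                  pow_orderOf_eq_one, one_zpow, one_pow], mul_one] at this
            obtain ⟨j, -, hj⟩ := (Nat.dvd_prime_pow Nat.prime_three).1 (orderOf_dvd_of_pow_eq_one h1)
            rcases Nat.eq_zero_or_pos j with rfl | hj0
            · simpa using hj
            · exact absurd (hj ▸ dvd_pow_self 3 hj0.ne') (hecop e he)
          rw [hxk, he1, one_mul]; exact hk)
        (fun x hx hxn y hy => by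
          obtain ⟨j, rfl⟩ := Subgroup.mem_zpowers_iff.1 hy
          exact ((show Commute x t from hnt x hx hxn).zpow_right j).eq)
      refine ⟨M, hMC, fun x hx hx2 => hMin x hx fun h => ?_, fun e he k hk hm => ?_⟩
      · have := h.trans (orderOf_dvd_of_pow_eq_one (show x ^ 2 = 1 by rw [pow_two, hx2]))
        norm_num at this
      · have h1 : e ∈ M := hMin e (hE.mem_centralizer he) (hecop e he)
        have h2 := mul_mem (inv_mem h1) hm
        rw [inv_mul_cancel_left] at h2
        exact hMQ k h2 hk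
  intro x hx hx2
  refine S.involution_mem_of_subgroup D hA hE M hMC (fun v hv hv2 => hVM v (hVC v hv hv2) hv2) ?_ x
    (hVM x hx hx2) hx2
  intro x hx hxa _
  obtain ⟨e, he, k, hk, hxk, -⟩ := S.exists_factor D hA hE (hMC hx) hxa
  obtain ⟨v, hv, hv2, hkv⟩ := S.coset_three ht ht3 hk
  refine ⟨e, he, k, hk, hxk, ?_⟩
  suffices ∀ u ∈ Subgroup.zpowers t, k = v * u → u = 1 by
    rcases hkv with h | h | h
    · rw [h]; exact hv2
    · rw [h, this t (Subgroup.mem_zpowers t) h, mul_one]; exact hv2
    · rw [h, this (t * t) (mul_mem (Subgroup.mem_zpowers t) (Subgroup.mem_zpowers t)) h, mul_one]; exact hv2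
  intro u hu hku
  refine hMt e he u hu ?_
  have hvM : v ∈ M := hVM v (hVC v hv hv2) hv2
  have h1 := mul_mem (inv_mem hvM) hx
  rwa [hxk, hku, show v⁻¹ * (e * (v * u)) = (v⁻¹ * e * v) * u by group,
    show v⁻¹ * e * v = e by rw [mul_assoc, ← S.commute_E D hA hE hv hv2 he, inv_mul_cancel_left]] at h1

/-- In case A the normaliser of `E` preserves the fixed points of `J`. -/
theorem normalizer_preserves_A (hft : ∀ t ∈ (pairStab a b : Subgroup G), orderOf t = 3 →
      (∀ c : Ω, J • c = c → t • c = c) → ∀ c : Ω, t • c = c → J • c = c)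
    (hb : p = 3 → ¬ 9 * Nat.card ↥E ∣ Nat.card G ∧ 3 < fixCard Ω J) {g : G}
    (hg : g ∈ Subgroup.normalizer (E : Set G)) {c : Ω} (hc : J • c = c) : J • g • c = g • c := by
  have hm : g⁻¹ * J * g⁻¹⁻¹ ∈ Subgroup.centralizer (E : Set G) :=
    hE.centralizer_conj (inv_mem hg) (S.mem_centralizer_of_sq D hA hE D.memJ (mul_self_of_orderOf D.ordJ))
  have hw := S.involution_centralizing_A D hA hE hft hb _ hm (by
    rw [show g⁻¹ * J * g⁻¹⁻¹ * (g⁻¹ * J * g⁻¹⁻¹) = g⁻¹ * (J * J) * g by group, mul_self_of_orderOf D.ordJ]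
    group)
  have h := hA _ hw (by
    rw [show g⁻¹ * J * g⁻¹⁻¹ * (g⁻¹ * J * g⁻¹⁻¹) = g⁻¹ * (J * J) * g by group, mul_self_of_orderOf D.ordJ]
    group) c hc
  rw [inv_inv, mul_smul, mul_smul, inv_smul_eq_iff] at h
  exact h

end Setting

end CfsgLib.KimuraFour
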