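import Cfsg.Agent.Lib.Perm.KimuraFour.OddFinalA

/-!
# Odd degree, case A, translations of exponent three
-/

set_option autoImplicit false

namespace CfsgLib.KimuraFour

open MulAction
open scoped Pointwise

variable {G : Type*} [Group G] [Finite G] {Ω : Type*} [MulAction G Ω] [Finite Ω] {a b : Ω} {J : G}
  {p : ℕ} {E : Subgroup G}

local notation "Cent" J:max => Subgroup.centralizer (Singleton.singleton J : Set _)

/-- Conjugate of a subgroup. -/
abbrev conjMap (h : G) (E : Subgroup G) : Subgroup G := E.map (MulAut.conj h).toMonoidHom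

theorem mem_conjMap {h x : G} {E : Subgroup G} : x ∈ conjMap h E ↔ h⁻¹ * x * h ∈ E := by
  constructor
  · rintro ⟨e, he, rfl⟩
    show h⁻¹ * (h * e * h⁻¹) * h ∈ E
    rwa [show h⁻¹ * (h * e * h⁻¹) * h = e by group]
  · intro hx
    exact ⟨_, hx, show h * (h⁻¹ * x * h) * h⁻¹ = x by group⟩

theorem card_conjMap (h : G) (E : Subgroup G) : Nat.card ↥(conjMap h E) = Nat.card ↥E :=
  (Nat.card_congr (E.equivMapOfInjective _ (MulAut.conj h).injective).toEquiv).symm

theorem conj_mem_conjMap {h x e : G} {E : Subgroup G} (hx : h⁻¹ * x * h ∈ Subgroup.normalizer (E : Set G))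
    (he : e ∈ conjMap h E) : x * e * x⁻¹ ∈ conjMap h E := by
  rw [mem_conjMap] at he ⊢
  have := (Subgroup.mem_normalizer_iff.1 hx _).1 he
  rwa [show h⁻¹ * x * h * (h⁻¹ * e * h) * (h⁻¹ * x * h)⁻¹ = h⁻¹ * (x * e * x⁻¹) * h by group] at this

/-- In the alternating group of degree four elements of order three are conjugate up to inversion. -/
theorem Setting.three_conj (S : Setting G Ω a b) {t u : G} (ht : t ∈ (pairStab a b : Subgroup G))
    (ht3 : orderOf t = 3) (hu : u ∈ (pairStab a b : Subgroup G)) (hu3 : orderOf u = 3) :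
    IsConj t u ∨ IsConj t⁻¹ u := by
  obtain ⟨φ, hφ, hr⟩ := S.exists_embed
  obtain ⟨t₁, ht₁⟩ := S.exists_preimage ht φ hr
  obtain ⟨t₂, ht₂⟩ := S.exists_preimage hu φ hr
  rw [← ht₁, orderOf_injective φ hφ] at ht3
  rw [← ht₂, orderOf_injective φ hφ] at hu3
  obtain ⟨x, hx⟩ : ∃ x, x * t₁ * x⁻¹ = t₂ ∨ x * t₁⁻¹ * x⁻¹ = t₂ := by
    have key : ∀ t₁ t₂ : ↥(alternatingGroup (Fin 4)), t₁ * t₁ * t₁ = 1 ∧ t₁ ≠ 1 ∧ t₂ * t₂ * t₂ = 1 ∧ t₂ ≠ 1 →
        ∃ x, x * t₁ * x⁻¹ = t₂ ∨ x * t₁⁻¹ * x⁻¹ = t₂ := by decide +kernel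
    refine key t₁ t₂ ⟨?_, ?_, ?_, ?_⟩
    · have := pow_orderOf_eq_one t₁; rwa [ht3, pow_succ, pow_two] at this
    · rintro rfl; simp at ht3
    · have := pow_orderOf_eq_one t₂; rwa [hu3, pow_succ, pow_two] at this
    · rintro rfl; simp at hu3
  rw [← ht₁, ← ht₂]
  exact hx.imp (fun e => isConj_iff.2 ⟨φ x, by rw [← map_inv, ← map_mul, ← map_mul, e]⟩)
    fun e => isConj_iff.2 ⟨φ x, by rw [← map_inv, ← map_inv, ← map_mul, ← map_mul, e]⟩

namespace Setting

variable (S : Setting G Ω a b) (D : InvData G Ω a b J) (hA : CaseA a b J) (hE : EData Ω J p E)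

include S D hA

theorem pairStab_le_setStab : (pairStab a b : Subgroup G) ≤ setStab Ω J := by
  intro h hh
  refine mem_setStab_of_forall fun c hc => ?_
  have hm : h⁻¹ * J * h ∈ (pairStab a b : Subgroup G) := mul_mem (mul_mem (inv_mem hh) D.memJ) hh
  have h1 := hA _ hm (by
    rw [show h⁻¹ * J * h * (h⁻¹ * J * h) = h⁻¹ * (J * J) * h by group, mul_self_of_orderOf D.ordJ]; group) c hc
  rw [mul_smul, mul_smul, inv_smul_eq_iff] at h1
  exact h1

/-- An element mapping two fixed points of `J` to fixed points of `J` preserves the fixed points. -/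
theorem mem_setStab_of_pair {g : G} (ha : J • g • a = g • a) (hb : J • g • b = g • b) : g ∈ setStab Ω J := by
  obtain ⟨x, hx, hxa, hxb⟩ := D.exists_centralizing D.smul_a D.smul_b ha hb
    D.ne (fun h => D.ne ((MulAction.injective g) h))
  have hh : x⁻¹ * g ∈ (pairStab a b : Subgroup G) := mem_pairStab.2
    ⟨by rw [mul_smul, ← hxa, inv_smul_smul], by rw [mul_smul, ← hxb, inv_smul_smul]⟩
  have := mul_mem (cent_le_setStab J hx) (S.pairStab_le_setStab D hA hh)
  rwa [mul_inv_cancel_left] at this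

theorem card_stab_setStab : Nat.card ↥(stabilizer G a ⊓ setStab Ω J : Subgroup G) * fixCard Ω J =
    12 * (fixCard Ω J * (fixCard Ω J - 1)) := by
  haveI : IsPretransitive ↥(setStab Ω J) ↥(setPts Ω J) := by
    refine ⟨fun c d => ?_⟩
    rcases eq_or_ne c d with e | e
    · exact ⟨1, by rw [one_smul, e]⟩
    · obtain ⟨g, hg, h1, -⟩ := D.exists_centralizing c.2 d.2 d.2 c.2 (fun h => e (Subtype.ext h))
        (fun h => e (Subtype.ext h.symm))
      exact ⟨⟨g, cent_le_setStab J hg⟩, Subtype.ext h1⟩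
  have h1 := (stabilizer ↥(setStab Ω J) (⟨a, D.smul_a⟩ : ↥(setPts Ω J))).card_mul_index
  rw [MulAction.index_stabilizer_of_transitive, S.card_setStab D hA] at h1
  rw [← h1]
  congr 1
  exact Nat.card_congr ⟨fun x => ⟨⟨x.1, x.2.2⟩, Subtype.ext x.2.1⟩,
    fun x => ⟨x.1.1, ⟨congrArg Subtype.val x.2, x.1.2⟩⟩, fun _ => rfl, fun _ => rfl⟩

include hE

variable (hNE : Subgroup.normalizer (E : Set G) = setStab Ω J)
  (hG : Nat.card G = 12 * fixCard Ω J * (fixCard Ω J - 1) * (4 * fixCard Ω J * fixCard Ω J - 1))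

include hNE hG

omit hA hNE in
/-- The order of a three-subgroup is at most `3 i`. -/
theorem three_group_bound (hp : p = 3) {P : Subgroup G} (hP : IsPGroup 3 ↥P) :
    Nat.card ↥P ∣ 3 * fixCard Ω J := by
  haveI : Fact (Nat.Prime 3) := ⟨Nat.prime_three⟩
  obtain ⟨k, hk⟩ := IsPGroup.iff_card.1 (hp ▸ hE.isPGroup : IsPGroup 3 ↥E)
  rw [hE.card_eq D.smul_a] at hk
  have hk1 : 1 ≤ k := by
    rcases k with _ | k
    · have := D.two_le_fixCard; rw [hk] at this; norm_num at this
    · omega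
  obtain ⟨m, hm⟩ := IsPGroup.iff_card.1 hP
  have h := Subgroup.card_subgroup_dvd_card P
  rw [hm, hG] at h
  rw [hm, hk, ← pow_succ']
  obtain ⟨j, hj⟩ : ∃ j, 3 ^ k = 3 * j := ⟨3 ^ (k - 1), by rw [← pow_succ', show k - 1 + 1 = k by omega]⟩
  have hcop : (3 ^ m).Coprime (4 * (fixCard Ω J - 1) * (4 * fixCard Ω J * fixCard Ω J - 1)) := by
    refine Nat.Coprime.pow_left _ ((Nat.Prime.coprime_iff_not_dvd Nat.prime_three).2 fun hd => ?_)
    rw [hk, hj] at hd
    have hj1 : 1 ≤ j := by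
      rcases j with _ | j
      · simp at hj
      · omega
    rcases (Nat.prime_three.dvd_mul).1 hd with h' | h'
    · omega
    · have : 1 ≤ 4 * (3 * j) * (3 * j) := by nlinarith
      obtain ⟨c, hc⟩ := h'
      have e : 4 * (3 * j) * (3 * j) = 3 * (12 * j * j) := by ring
      omega
  rw [show 12 * fixCard Ω J * (fixCard Ω J - 1) * (4 * fixCard Ω J * fixCard Ω J - 1) =
    3 * fixCard Ω J * (4 * (fixCard Ω J - 1) * (4 * fixCard Ω J * fixCard Ω J - 1)) by ring] at h
  have := hcop.dvd_of_dvd_mul_right h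
  rwa [hk, ← pow_succ'] at this

/-- A three-group of order `3 i` normalising a conjugate of `E` contains it. -/
theorem conj_E_le (hp : p = 3) {P : Subgroup G} (hP : IsPGroup 3 ↥P) (hPc : Nat.card ↥P = 3 * fixCard Ω J)
    {h : G} (hPh : P ≤ conjMap h (setStab Ω J)) : conjMap h E ≤ P := by
  haveI : Fact (Nat.Prime 3) := ⟨Nat.prime_three⟩
  have hn : P ≤ Subgroup.normalizer (conjMap h E : Set G) := by
    intro x hx
    have hx' : h⁻¹ * x * h ∈ Subgroup.normalizer (E : Set G) := hNE ▸ mem_conjMap.1 (hPh hx)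
    refine Subgroup.mem_normalizer_iff.2 fun e => ⟨conj_mem_conjMap hx', fun he => ?_⟩
    have h1 := conj_mem_conjMap (x := x⁻¹) (show h⁻¹ * x⁻¹ * h ∈ Subgroup.normalizer (E : Set G) by
      rw [show h⁻¹ * x⁻¹ * h = (h⁻¹ * x * h)⁻¹ by group]; exact inv_mem hx') he
    rwa [show x⁻¹ * (x * e * x⁻¹) * x⁻¹⁻¹ = e by group] at h1
  have hEp : IsPGroup 3 ↥(conjMap h E) := (hp ▸ hE.isPGroup).map _
  have hsup : IsPGroup 3 ↥(P ⊔ conjMap h E : Subgroup G) := hP.to_sup_of_normal_right' hEp hn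
  have hd := Nat.le_of_dvd (by have := D.two_le_fixCard; omega) (S.three_group_bound D hE hG hp hsup)
  rw [← hPc] at hd
  exact le_sup_right.trans (Subgroup.eq_of_le_of_card_ge le_sup_left hd).ge

/-- A three-subgroup of `setStab` fixes another coset. -/
theorem exists_other (hp : p = 3) {P : Subgroup G} (hP : IsPGroup 3 ↥P) (hPW : P ≤ setStab Ω J) :
    ∃ h : G, h ∉ setStab Ω J ∧ P ≤ conjMap h (setStab Ω J) := by
  classical
  haveI : Fact (Nat.Prime 3) := ⟨Nat.prime_three⟩
  set W := setStab Ω J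
  have h3 := hP.card_modEq_card_fixedPoints (G ⧸ W)
  have hi : 3 ∣ fixCard Ω J := by
    obtain ⟨k, hk⟩ := IsPGroup.iff_card.1 (hp ▸ hE.isPGroup : IsPGroup 3 ↥E)
    rw [hE.card_eq D.smul_a] at hk
    rcases k with _ | k
    · have := D.two_le_fixCard; rw [hk] at this; norm_num at this
    · exact ⟨3 ^ k, by rw [hk, pow_succ']⟩
  have hidx : W.index + 1 = 4 * fixCard Ω J * fixCard Ω J := by
    have h1 := W.card_mul_index
    rw [S.card_setStab D hA, hG] at h1
    have := D.two_le_fixCard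
    have h2 : W.index = 4 * fixCard Ω J * fixCard Ω J - 1 := by
      refine Nat.eq_of_mul_eq_mul_left (show 0 < 12 * (fixCard Ω J * (fixCard Ω J - 1)) by
        have : 0 < fixCard Ω J * (fixCard Ω J - 1) := Nat.mul_pos (by omega) (by omega)
        omega) ?_
      rw [h1]; ring
    have : 1 ≤ 4 * fixCard Ω J * fixCard Ω J := by nlinarith
    omega
  by_contra hcon
  push Not at hcon
  have huniq : Nat.card ↥(MulAction.fixedPoints ↥P (G ⧸ W)) = 1 := by
    refine Nat.card_eq_one_iff_unique.2 ⟨⟨?_⟩, ⟨⟨((1 : G) : G ⧸ W), fun x => ?_⟩⟩⟩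
    · have key : ∀ q : ↥(MulAction.fixedPoints ↥P (G ⧸ W)), q.1 = ((1 : G) : G ⧸ W) := by
        rintro ⟨q, hq⟩
        obtain ⟨h, rfl⟩ := QuotientGroup.mk_surjective q
        by_cases hh : h ∈ W
        · exact (QuotientGroup.eq.2 (by simpa using hh)).symm
        · exfalso
          obtain ⟨x, hxP, hx⟩ := SetLike.not_le_iff_exists.1 (hcon h hh)
          refine hx (mem_conjMap.2 ?_)
          have e := hq ⟨x, hxP⟩
          have e' : ((x * h : G) : G ⧸ W) = (h : G ⧸ W) := e
          have := QuotientGroup.eq.1 e'.symm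
          rwa [← mul_assoc] at this
      exact fun q q' => Subtype.ext ((key q).trans (key q').symm)
    · show ((x.1 * 1 : G) : G ⧸ W) = ((1 : G) : G ⧸ W)
      exact QuotientGroup.eq.2 (by simpa using W.inv_mem (hPW x.2))
  rw [huniq, ← Subgroup.index_eq_card] at h3
  obtain ⟨j, hj⟩ := hi
  rw [hj] at hidx
  rw [Nat.ModEq] at h3
  have : 4 * (3 * j) * (3 * j) = 3 * (12 * j * j) := by ring
  omega

variable (hft : ∀ t ∈ (pairStab a b : Subgroup G), orderOf t = 3 →
    (∀ c : Ω, J • c = c → t • c = c) → ∀ c : Ω, t • c = c → J • c = c)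

/-- If an element of order three moves fixed points of `J` then there are at most nine. -/
theorem fixCard_le_nine (hp : p = 3) {t : G} (ht : t ∈ (pairStab a b : Subgroup G)) (ht3 : orderOf t = 3)
    {c₀ : Ω} (hc₀ : J • c₀ = c₀) (hmove : t • c₀ ≠ c₀) : fixCard Ω J ≤ 9 := by
  classical
  haveI : Fact (Nat.Prime 3) := ⟨Nat.prime_three⟩
  obtain ⟨hta, htb⟩ := mem_pairStab.1 ht
  have htW := S.pairStab_le_setStab D hA ht
  have hcE := hE.card_eq D.smul_a
  set T := Subgroup.zpowers t with hT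
  have hTp : IsPGroup 3 ↥T := IsPGroup.of_card (n := 1) (by rw [Nat.card_zpowers, ht3, pow_one])
  have hEp : IsPGroup 3 ↥E := hp ▸ hE.isPGroup
  have hTn : T ≤ Subgroup.normalizer (E : Set G) := Subgroup.zpowers_le.2 (hNE ▸ htW)
  set P := T ⊔ E with hPdef
  have hP : IsPGroup 3 ↥P := hTp.to_sup_of_normal_right' hEp hTn
  have htE : t ∉ E := fun h => by
    rw [hE.free t h a D.smul_a hta, orderOf_one] at ht3; norm_num at ht3
  have hPd := S.three_group_bound D hE hG hp hP
  obtain ⟨k, hk⟩ := IsPGroup.iff_card.1 hEp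
  rw [hcE] at hk
  have hPc : Nat.card ↥P = 3 * fixCard Ω J := by
    obtain ⟨m, hm⟩ := IsPGroup.iff_card.1 hP
    have hlt : Nat.card ↥E < Nat.card ↥P := lt_of_le_of_ne
      (Nat.le_of_dvd Nat.card_pos (Subgroup.card_dvd_of_le le_sup_right)) fun h => htE
        ((Subgroup.eq_of_le_of_card_ge (le_sup_right : E ≤ P) h.ge).symm ▸ (le_sup_left : T ≤ P) (Subgroup.mem_zpowers t))
    rw [hm, hk, ← pow_succ'] at hPd ⊢
    rw [hcE, hm, hk] at hlt
    have := (Nat.pow_lt_pow_iff_right (show 1 < 3 by norm_num)).1 hlt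
    have := (Nat.pow_dvd_pow_iff_le_right (show 1 < 3 by norm_num)).1 hPd
    rw [show m = k + 1 by omega]
  have hPW : P ≤ setStab Ω J := sup_le (Subgroup.zpowers_le.2 htW) (hE.le_cent.trans (cent_le_setStab J))
  obtain ⟨h, hhW, hPh⟩ := S.exists_other D hA hE hNE hG hp hP hPW
  have hE'P := S.conj_E_le D hA hE hNE hG hp hP hPc hPh
  set E' := conjMap h E
  have hne : E' ≠ E := by
    intro e
    refine hhW (hNE ▸ ?_)
    refine Subgroup.mem_normalizer_iff.2 fun x => ⟨fun hx => ?_, fun hx => ?_⟩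
    · have : h * x * h⁻¹ ∈ E' := ⟨x, hx, rfl⟩
      rwa [e] at this
    · rw [← e, mem_conjMap, show h⁻¹ * (h * x * h⁻¹) * h = x by group] at hx
      exact hx
  set K := E ⊓ E' with hK
  have hKi : fixCard Ω J ≤ 3 * Nat.card ↥K := by
    have h1 : E'.relIndex E ≤ E'.relIndex P :=
      Subgroup.relIndex_le_of_le_right le_sup_right Subgroup.FiniteIndex.index_ne_zero
    have h2 := Subgroup.card_mul_index (E'.subgroupOf P)
    rw [Nat.card_congr (Subgroup.subgroupOfEquivOfLe hE'P).toEquiv, card_conjMap, hcE, hPc] at h2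
    have h3 : E'.relIndex P = 3 := Nat.eq_of_mul_eq_mul_left (by have := D.two_le_fixCard; omega)
      (show fixCard Ω J * (E'.subgroupOf P).index = fixCard Ω J * 3 by rw [h2, mul_comm])
    have h4 := Subgroup.card_mul_index (E'.subgroupOf E)
    have h5 : Nat.card ↥(E'.subgroupOf E) = Nat.card ↥K :=
      Nat.card_congr ⟨fun x => ⟨x.1.1, x.1.2, x.2⟩, fun x => ⟨⟨x.1, x.2.1⟩, x.2.2⟩, fun _ => rfl, fun _ => rfl⟩
    rw [hcE, h5] at h4
    rw [← h4, mul_comm]
    exact Nat.mul_le_mul_right _ (h1.trans h3.le)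
  -- `K` commutes with `t`
  have hKt : ∀ x ∈ K, x * t = t * x := by
    intro x hx
    have hEE : E ⊔ E' = P := by
      refine Subgroup.eq_of_le_of_card_ge (sup_le le_sup_right hE'P) ?_
      obtain ⟨m, hm⟩ := IsPGroup.iff_card.1 (hP.to_le (sup_le le_sup_right hE'P : E ⊔ E' ≤ P))
      have hlt : Nat.card ↥E < Nat.card ↥(E ⊔ E' : Subgroup G) := lt_of_le_of_ne
        (Nat.le_of_dvd Nat.card_pos (Subgroup.card_dvd_of_le le_sup_left)) fun h => hne <| by
          have e := Subgroup.eq_of_le_of_card_ge (le_sup_left : E ≤ E ⊔ E') h.ge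
          exact Subgroup.eq_of_le_of_card_ge (le_sup_right.trans e.ge) (by rw [card_conjMap])
      rw [hcE, hm, hk] at hlt
      rw [hPc, hm, hk, ← pow_succ']
      exact Nat.pow_le_pow_right (by norm_num) ((Nat.pow_lt_pow_iff_right (by norm_num)).1 hlt)
    have hle : E ⊔ E' ≤ Subgroup.centralizer ({x} : Set G) := by
      refine sup_le (fun e he => Subgroup.mem_centralizer_singleton_iff.2 (hE.comm e he x hx.1)) fun e he => ?_
      refine Subgroup.mem_centralizer_singleton_iff.2 ?_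
      have := hE.comm _ (mem_conjMap.1 he) _ (mem_conjMap.1 hx.2)
      calc e * x = h * ((h⁻¹ * e * h) * (h⁻¹ * x * h)) * h⁻¹ := by group
        _ = _ := by rw [this]; group
    exact (Subgroup.mem_centralizer_singleton_iff.1
      (hle (hEE.ge ((le_sup_left : T ≤ P) (Subgroup.mem_zpowers t))))).symm
  -- the fixed points of `J` and `t`
  have := Fintype.ofFinite Ω
  let CE : Subgroup G := E ⊓ Subgroup.centralizer ({t} : Set G)
  set f := Nat.card ↥CE with hf
  have hcef : f = Nat.card {c : Ω // J • c = c ∧ t • c = c} := by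
    refine Nat.card_eq_of_bijective (fun e => ⟨e.1 • a, smul_mem_fix (hE.le_cent e.2.1) D.smul_a, ?_⟩) ⟨?_, ?_⟩
    · rw [← mul_smul, ← Subgroup.mem_centralizer_singleton_iff.1 e.2.2, mul_smul, hta]
    · intro e e' he
      refine Subtype.ext (inv_mul_eq_one.1 (hE.free _ (mul_mem (inv_mem e.2.1) e'.2.1) a D.smul_a ?_))
      rw [mul_smul, inv_smul_eq_iff]
      exact (congrArg Subtype.val he).symm
    · rintro ⟨c, hc, htc⟩
      obtain ⟨e, he, hea⟩ := hE.trans a c D.smul_a hc
      refine ⟨⟨e, he, Subgroup.mem_centralizer_singleton_iff.2 ?_⟩, Subtype.ext hea⟩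
      have hm : t * e * t⁻¹ ∈ E := (Subgroup.mem_normalizer_iff.1 (hTn (Subgroup.mem_zpowers t)) e).1 he
      have h1 : e⁻¹ * (t * e * t⁻¹) = 1 := by
        refine hE.free _ (mul_mem (inv_mem he) hm) a D.smul_a ?_
        rw [mul_smul, mul_smul, mul_smul, show t⁻¹ • a = a by rw [inv_smul_eq_iff, hta], hea, htc,
          inv_smul_eq_iff, hea]
      exact (mul_inv_eq_iff_eq_mul.1 (inv_mul_eq_one.1 h1).symm).symm
  have hKf : Nat.card ↥K ≤ f :=
    Nat.le_of_dvd Nat.card_pos (Subgroup.card_dvd_of_le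
      (le_inf inf_le_left fun x hx => Subgroup.mem_centralizer_singleton_iff.2 (hKt x hx)))
  have hfi : 3 * f = fixCard Ω J := by
    obtain ⟨m, hm⟩ := IsPGroup.iff_card.1 (hEp.to_le (inf_le_left : CE ≤ E))
    have hlt : f < fixCard Ω J := by
      rw [hcef, fixCard, Nat.card_eq_fintype_card, Nat.card_eq_fintype_card, Fintype.card_subtype,
        Fintype.card_subtype]
      refine Finset.card_lt_card ⟨fun c hc => ?_, fun h' => hmove ?_⟩
      · simp only [Finset.mem_filter, Finset.mem_univ, true_and] at hc ⊢; exact hc.1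
      · exact ((Finset.mem_filter.1 (h' (Finset.mem_filter.2 ⟨Finset.mem_univ _, hc₀⟩))).2).2
    rw [← hf] at hm
    rw [hm, hk] at hlt
    have hle' : 3 * f ≤ fixCard Ω J := by
      rw [hm, hk, ← pow_succ']
      exact Nat.pow_le_pow_right (by norm_num) ((Nat.pow_lt_pow_iff_right (by norm_num)).1 hlt)
    omega
  -- the normaliser of `⟨t⟩` in the point stabiliser
  set Wa : Subgroup G := stabilizer G a ⊓ setStab Ω J
  set N : Subgroup G := Wa ⊓ Subgroup.normalizer (T : Set G) with hN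
  have hTfix : ∀ k ∈ T, ∀ c : Ω, t • c = c → k • c = c := fun k hk c hc =>
    (Subgroup.zpowers_le.2 (show t ∈ stabilizer G c from hc)) hk
  let Φ : SubMulAction ↥N Ω :=
    { carrier := {c | c ≠ a ∧ J • c = c ∧ t • c = c}
      smul_mem' := fun g c hc => by
        refine ⟨fun e => hc.1 ?_, (g.2.1.2 c).1 hc.2.1, ?_⟩
        · exact (MulAction.injective (g : G)) (e.trans (mem_stabilizer_iff.1 g.2.1.1).symm)
        · have hm : (g : G)⁻¹ * t * g ∈ T :=
            (Subgroup.mem_normalizer_iff.1 g.2.2 _).2 (by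
              rw [show (g : G) * ((g : G)⁻¹ * t * g) * (g : G)⁻¹ = t by group]; exact Subgroup.mem_zpowers t)
          have h := hTfix _ hm c hc.2.2
          rw [mul_smul, mul_smul, inv_smul_eq_iff] at h
          exact h }
  have hnorm : ∀ g : G, g * t * g⁻¹ = t ∨ g * t * g⁻¹ = t⁻¹ → g ∈ Subgroup.normalizer (T : Set G) := by
    intro g hg
    have hle : T.map (MulAut.conj g).toMonoidHom ≤ T := by
      rw [hT, MonoidHom.map_zpowers, Subgroup.zpowers_le]
      show g * t * g⁻¹ ∈ Subgroup.zpowers t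
      rcases hg with h | h <;> rw [h]
      · exact Subgroup.mem_zpowers t
      · exact inv_mem (Subgroup.mem_zpowers t)
    have he := Subgroup.eq_of_le_of_card_ge hle
      (Nat.card_congr (T.equivMapOfInjective _ (MulAut.conj g).injective).toEquiv).le
    refine Subgroup.mem_normalizer_iff.2 fun x => ⟨fun hx => hle ⟨x, hx, rfl⟩, fun hx => ?_⟩
    rw [← he] at hx
    obtain ⟨y, hy, he'⟩ := hx
    exact (MulAut.conj g).injective he' ▸ hy
  haveI : IsPretransitive ↥N ↥Φ := ⟨fun c d => by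
    obtain ⟨g, hga, hgb, hgt⟩ := S.normalizer_t_two ht ht3 (Ne.symm c.2.1) hta c.2.2.2
    obtain ⟨g', hga', hgb', hgt'⟩ := S.normalizer_t_two ht ht3 (Ne.symm d.2.1) hta d.2.2.2
    have hW : ∀ (g : G) (c : ↥Φ), g • a = a → g • b = c.1 → g ∈ setStab Ω J := fun g c h1 h2 =>
      S.mem_setStab_of_pair D hA (by rw [h1]; exact D.smul_a) (by rw [h2]; exact c.2.2.1)
    have m1 : g' * g⁻¹ ∈ stabilizer G a :=
      mul_mem (show g' ∈ stabilizer G a from hga') (inv_mem (show g ∈ stabilizer G a from hga))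
    have m2 : g' * g⁻¹ ∈ setStab Ω J := mul_mem (hW g' d hga' hgb') (inv_mem (hW g c hga hgb))
    have m3 : g' * g⁻¹ ∈ Subgroup.normalizer (T : Set G) := mul_mem (hnorm _ hgt') (inv_mem (hnorm _ hgt))
    refine ⟨⟨g' * g⁻¹, ⟨⟨m1, m2⟩, m3⟩⟩, Subtype.ext ?_⟩
    show (g' * g⁻¹) • (c : Ω) = d
    rw [mul_smul, ← hgb, inv_smul_smul, hgb']⟩
  have hbΦ : b ∈ Φ := ⟨Ne.symm D.ne, D.smul_b, htb⟩
  have hNc : 3 * (f - 1) ∣ Nat.card ↥N := by
    have h1 := (stabilizer ↥N (⟨b, hbΦ⟩ : ↥Φ)).card_mul_index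
    rw [MulAction.index_stabilizer_of_transitive] at h1
    have hΦc : Nat.card ↥Φ = f - 1 := by
      have e : Nat.card {c : Ω // c ≠ a ∧ J • c = c ∧ t • c = c} =
          ((Finset.univ.filter fun c : Ω => J • c = c ∧ t • c = c).erase a).card := by
        rw [Nat.card_eq_fintype_card, Fintype.card_subtype]
        congr 1; ext c; simp
      rw [Finset.card_erase_of_mem (by simp [D.smul_a, hta]), ← Fintype.card_subtype,
        ← Nat.card_eq_fintype_card, ← hcef] at e
      exact e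
    rw [hΦc] at h1
    rw [← h1]
    refine mul_dvd_mul_right ?_ _
    have htN : t ∈ N := ⟨⟨hta, htW⟩, hnorm t (Or.inl (by group))⟩
    have hmem : (⟨t, htN⟩ : ↥N) ∈ stabilizer ↥N (⟨b, hbΦ⟩ : ↥Φ) := Subtype.ext htb
    have := Subgroup.orderOf_dvd_natCard _ hmem
    rwa [Subgroup.orderOf_mk, ht3] at this
  -- the action of `Wa` on the fixed points
  let φ : ↥Wa →* Equiv.Perm ↥(setPts Ω J) :=
    (MulAction.toPermHom ↥(setStab Ω J) ↥(setPts Ω J)).comp (Subgroup.inclusion inf_le_right)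
  have hφ : ∀ w : ↥Wa, φ w = 1 → ∀ c : Ω, J • c = c → (w : G) • c = c := fun w hw c hc =>
    congrArg Subtype.val (Equiv.Perm.ext_iff.1 hw ⟨c, hc⟩)
  have hker : 4 ∣ Nat.card ↥φ.ker := by
    rw [← S.card_inf_cent D]
    refine Dvd.dvd.trans (dvd_of_eq ?_) (Subgroup.card_dvd_of_le (H := (pairStab a b ⊓ Cent J : Subgroup G).subgroupOf Wa) ?_)
    · refine (Nat.card_congr (Subgroup.subgroupOfEquivOfLe ?_).toEquiv).symm
      exact fun x hx => ⟨(mem_pairStab.1 hx.1).1, S.pairStab_le_setStab D hA hx.1⟩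
    · intro w hw
      refine MonoidHom.mem_ker.2 (Equiv.ext fun c => Subtype.ext ?_)
      exact hA (w : G) hw.1 ((S.mem_cent_iff D hw.1).1 hw.2) c.1 c.2
  have hinj : Function.Injective (φ.comp (Subgroup.inclusion (inf_le_left : N ≤ Wa))) := by
    rw [injective_iff_map_eq_one]
    intro n hn
    have hfix : ∀ c : Ω, J • c = c → (n : G) • c = c := hφ _ hn
    by_contra h1
    have hnH : (n : G) ∈ (pairStab a b : Subgroup G) := mem_pairStab.2 ⟨hfix a D.smul_a, hfix b D.smul_b⟩
    obtain ⟨v, hv, hv2, hnv⟩ := S.coset_three ht ht3 hnH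
    have hvfix := hA v hv hv2
    rcases hnv with e | e | e
    · -- an element of the four-group normalising `⟨t⟩`
      have hn2 : (n : G) * n = 1 := by rw [e]; exact hv2
      have hnt := (Subgroup.mem_normalizer_iff.1 n.2.2 t).1 (Subgroup.mem_zpowers t)
      have hw2 : orderOf (n : G) = 2 := orderOf_two_of hn2 fun e' => h1 (Subtype.ext e')
      have hm : t⁻¹ * n * t ∈ (pairStab a b : Subgroup G) := mul_mem (mul_mem (inv_mem ht) hnH) ht
      have hx : t⁻¹ * ((n : G) * t * (n : G)⁻¹) ∈ T := mul_mem (inv_mem (Subgroup.mem_zpowers t)) hnt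
      have hsq := (S.inv_mul hm (by
        rw [show t⁻¹ * n * t * (t⁻¹ * n * t) = t⁻¹ * ((n : G) * n) * t by group, hn2]; group) hnH hn2).2
      have hd : orderOf (t⁻¹ * ((n : G) * t * (n : G)⁻¹)) ∣ 2 := orderOf_dvd_of_pow_eq_one (by
        rw [pow_two, inv_of_orderOf hw2, show t⁻¹ * ((n : G) * t * n) = t⁻¹ * n * t * n by group]
        exact hsq)
      have hd3 := ht3 ▸ orderOf_dvd_of_mem_zpowers hx
      have := Nat.dvd_gcd hd hd3
      norm_num at this
      rw [inv_mul_eq_one] at this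
      exact S.three_moves ht ht3 hnH hw2 (mul_inv_eq_iff_eq_mul.1 this.symm).symm
    all_goals
      refine hmove ?_
      have h2 : v⁻¹ • c₀ = c₀ := by rw [inv_smul_eq_iff, hvfix c₀ hc₀]
      have h3 : (v⁻¹ * (n : G)) • c₀ = c₀ := by rw [mul_smul, hfix c₀ hc₀, h2]
    · rwa [e, inv_mul_cancel_left] at h3
    · rw [e, show v⁻¹ * (v * (t * t)) = t⁻¹ * (t * t * t) by group] at h3
      rwa [show t * t * t = 1 by rw [← pow_orderOf_eq_one t, ht3, pow_succ, pow_two], mul_one,
        inv_smul_eq_iff, eq_comm] at h3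
  have hdiv : 4 * Nat.card ↥N ∣ Nat.card ↥Wa := by
    rw [← φ.ker.card_mul_index, Subgroup.index_ker]
    refine mul_dvd_mul hker ?_
    rw [Nat.card_congr (MonoidHom.ofInjective hinj).toEquiv]
    exact Subgroup.card_dvd_of_le (fun x ⟨n, hn⟩ => ⟨_, hn⟩)
  have hWa := S.card_stab_setStab D hA
  have hWa' : Nat.card ↥Wa = 12 * (fixCard Ω J - 1) := by
    refine Nat.eq_of_mul_eq_mul_right (show 0 < fixCard Ω J by have := D.two_le_fixCard; omega) ?_
    rw [hWa]; ring
  have hfin := ((mul_dvd_mul_left 4 hNc).trans hdiv)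
  rw [hWa', ← hfi, show 4 * (3 * (f - 1)) = 12 * (f - 1) by ring] at hfin
  have h2 := Nat.dvd_of_mul_dvd_mul_left (by norm_num) hfin
  by_contra hcon
  rw [show 3 * f - 1 = 3 * (f - 1) + 2 by omega] at h2
  have h3 := Nat.le_of_dvd (by norm_num) ((Nat.dvd_add_right (dvd_mul_left _ _)).1 h2)
  omega

include hft

/-- If all elements of order three fix the fixed points of `J` there are at most three. -/
theorem fixCard_le_three (hp : p = 3) (hno : ∀ z : G, ¬ CenSwap a b z)
    (hall : ∀ h ∈ (pairStab a b : Subgroup G), ∀ c : Ω, J • c = c → h • c = c) : fixCard Ω J ≤ 3 := by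
  classical
  haveI : Fact (Nat.Prime 3) := ⟨Nat.prime_three⟩
  obtain ⟨s, t, v₀, hd⟩ := S.exists_symData hno
  have ht := hd.htH
  have ht3 := hd.ht
  have htinv : IsConj t t⁻¹ := isConj_iff.2 ⟨s, hd.inv⟩
  have hconjH : ∀ u ∈ (pairStab a b : Subgroup G), orderOf u = 3 → IsConj t u := fun u hu hu3 =>
    (S.three_conj ht ht3 hu hu3).elim id fun h => htinv.trans h
  have htW := S.pairStab_le_setStab D hA ht
  have htF := hall t ht
  have hFt := hft t ht ht3 htF
  have hcE := hE.card_eq D.smul_a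
  have hEp : IsPGroup 3 ↥E := hp ▸ hE.isPGroup
  obtain ⟨k, hk⟩ := IsPGroup.iff_card.1 hEp
  rw [hcE] at hk
  have hEW : E ≤ setStab Ω J := hE.le_cent.trans (cent_le_setStab J)
  have hte : ∀ e ∈ E, e * t = t * e := by
    intro e he
    have hm : t * e * t⁻¹ ∈ E := (Subgroup.mem_normalizer_iff.1 (hNE ▸ htW) e).1 he
    have h1 : e⁻¹ * (t * e * t⁻¹) = 1 := by
      refine hE.free _ (mul_mem (inv_mem he) hm) a D.smul_a ?_
      rw [mul_smul, mul_smul, mul_smul, show t⁻¹ • a = a by rw [inv_smul_eq_iff, htF a D.smul_a],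
        htF _ (smul_mem_fix (hE.le_cent he) D.smul_a), inv_smul_smul]
    exact (mul_inv_eq_iff_eq_mul.1 (inv_mul_eq_one.1 h1).symm).symm
  -- no element of `E` is conjugate to `t`
  have hnc : ∀ e ∈ E, ¬ IsConj t e := by
    intro e he hc
    obtain ⟨g, rfl⟩ := isConj_iff.1 hc
    have he1 : g * t * g⁻¹ ≠ 1 := fun h => by
      rw [conj_eq_one_iff] at h
      rw [h, orderOf_one] at ht3; norm_num at ht3
    have hcJ : J * (g * t * g⁻¹) = g * t * g⁻¹ * J :=
      (Subgroup.mem_centralizer_singleton_iff.1 (hE.le_cent he)).symm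

    have hiodd : ¬ 2 ∣ fixCard Ω J := by
      rw [hk]; intro h; have := Nat.prime_two.dvd_of_dvd_pow h; norm_num at this
    -- `J` moves every fixed point of the conjugate
    let σ : Equiv.Perm {c : Ω // t • c = c} := (MulAction.toPerm (α := G) (β := Ω) (g⁻¹ * J * g)).subtypePerm
      fun c => by
        have key : (g⁻¹ * J * g) * t = t * (g⁻¹ * J * g) := by
          calc g⁻¹ * J * g * t = g⁻¹ * (J * (g * t * g⁻¹)) * g := by group
            _ = _ := by rw [hcJ]; group
        show t • (g⁻¹ * J * g) • c = (g⁻¹ * J * g) • c ↔ t • c = c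
        rw [← mul_smul, ← key, mul_smul, (MulAction.injective _).eq_iff]
    have hbij : fixCard Ω J = Nat.card {c : Ω // t • c = c} :=
      Nat.card_congr (Equiv.subtypeEquivRight fun c => ⟨htF c, hFt c⟩)
    haveI : Fact (Nat.Prime 2) := ⟨Nat.prime_two⟩
    have := Fintype.ofFinite Ω
    have h := Equiv.Perm.card_compl_support_modEq (p := 2) (n := 1) (σ := σ) (Equiv.ext fun c => Subtype.ext (by
      show ((σ ^ 2 ^ 1) c).1 = c.1
      rw [pow_one, pow_two, Equiv.Perm.mul_apply]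
      show (g⁻¹ * J * g) • (g⁻¹ * J * g) • c.1 = c.1
      exact smul_of_mul_self (by
        rw [show g⁻¹ * J * g * (g⁻¹ * J * g) = g⁻¹ * (J * J) * g by group, mul_self_of_orderOf D.ordJ]; group) _))
    rw [show σ.supportᶜ = ∅ by
      ext x
      simp only [Finset.mem_compl, Equiv.Perm.mem_support, Finset.notMem_empty, iff_false, not_not]
      intro hx
      have hx' : (g⁻¹ * J * g) • x.1 = x.1 := congrArg Subtype.val hx
      refine he1 (hE.free _ he (g • x.1) ?_ ?_)
      · rwa [mul_smul, mul_smul, inv_smul_eq_iff] at hx'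
      · rw [mul_smul, mul_smul, inv_smul_smul, x.2], Finset.card_empty, ← Nat.card_eq_fintype_card, ← hbij] at h
    exact hiodd (Nat.modEq_zero_iff_dvd.1 h.symm)
  -- conjugates of `t` fixing `F` pointwise lie in `H`
  have hmemH : ∀ g ∈ setStab Ω J, g * t * g⁻¹ ∈ (pairStab a b : Subgroup G) := by
    intro g hg
    have key : ∀ c : Ω, J • c = c → (g * t * g⁻¹) • c = c := fun c hc => by
      rw [mul_smul, mul_smul, htF _ ((inv_mem hg : g⁻¹ ∈ setStab Ω J) c |>.1 hc), smul_inv_smul]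
    exact mem_pairStab.2 ⟨key a D.smul_a, key b D.smul_b⟩
  have heH : ∀ e ∈ E, e ∈ (pairStab a b : Subgroup G) → e = 1 := fun e he h =>
    hE.free e he a D.smul_a (mem_pairStab.1 h).1
  set T := Subgroup.zpowers t
  have hTn : T ≤ Subgroup.normalizer (E : Set G) := Subgroup.zpowers_le.2 (hNE ▸ htW)
  have hTp : IsPGroup 3 ↥T := IsPGroup.of_card (n := 1) (by rw [Nat.card_zpowers, ht3, pow_one])
  set P := T ⊔ E with hPdef
  have hP : IsPGroup 3 ↥P := hTp.to_sup_of_normal_right' hEp hTn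
  have hPform : ∀ x ∈ P, ∃ e ∈ E, x = e ∨ x = e * t ∨ x = e * t⁻¹ := by
    have ht3' : t * t * t = 1 := by rw [← pow_orderOf_eq_one t, ht3, pow_succ, pow_two]
    intro x hx
    have hx' : x ∈ E ⊔ T := by rw [sup_comm]; exact hx
    obtain ⟨e, he, y, hy, rfl⟩ : ∃ e ∈ E, ∃ y ∈ T, e * y = x := by
      have hset := Subgroup.coe_mul_of_right_le_normalizer_left E T hTn
      have : x ∈ ((E : Set G) * (T : Set G)) := by rw [← hset] at *; exact hx'
      exact Set.mem_mul.1 this
    refine ⟨e, he, ?_⟩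
    obtain ⟨j, rfl⟩ := Subgroup.mem_zpowers_iff.1 hy
    rw [zpow_eq_zpow_emod' j (show t ^ 3 = 1 by rw [pow_succ, pow_two, ht3'])]
    have h1 := Int.emod_nonneg j (show (3 : ℤ) ≠ 0 by norm_num)
    have h2 := Int.emod_lt_of_pos j (show (0 : ℤ) < 3 by norm_num)
    rcases (show j % (3 : ℕ) = 0 ∨ j % (3 : ℕ) = 1 ∨ j % (3 : ℕ) = 2 by omega) with h | h | h <;> rw [h]
    · exact Or.inl (by rw [zpow_zero, mul_one])
    · exact Or.inr (Or.inl (by rw [zpow_one]))
    · refine Or.inr (Or.inr ?_)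
      rw [show t⁻¹ = t * t from (eq_inv_of_mul_eq_one_left ht3').symm, zpow_two]
  have hPcomm : ∀ x ∈ P, ∀ y ∈ P, x * y = y * x := by
    have hc : P ≤ Subgroup.centralizer ({t} : Set G) := sup_le
      (Subgroup.zpowers_le.2 (Subgroup.mem_centralizer_singleton_iff.2 rfl))
      fun e he => Subgroup.mem_centralizer_singleton_iff.2 (hte e he)
    have hcE' : ∀ e ∈ E, P ≤ Subgroup.centralizer ({e} : Set G) := fun e he => sup_le
      (Subgroup.zpowers_le.2 (Subgroup.mem_centralizer_singleton_iff.2 (hte e he).symm))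
      fun e' he' => Subgroup.mem_centralizer_singleton_iff.2 (hE.comm e' he' e he)
    intro x hx y hy
    have h1 : Commute x t := Subgroup.mem_centralizer_singleton_iff.1 (hc hx)
    obtain ⟨e, he, h⟩ := hPform y hy
    have h2 : Commute x e := Subgroup.mem_centralizer_singleton_iff.1 (hcE' e he hx)
    rcases h with rfl | rfl | rfl
    · exact h2.eq
    · exact (h2.mul_right h1).eq
    · exact (h2.mul_right h1.inv_right).eq
  have htE : t ∉ E := fun h => by
    rw [heH t h ht, orderOf_one] at ht3; norm_num at ht3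
  have hPc : Nat.card ↥P = 3 * fixCard Ω J := by
    have hPd := S.three_group_bound D hE hG hp hP
    obtain ⟨m, hm⟩ := IsPGroup.iff_card.1 hP
    have hlt : Nat.card ↥E < Nat.card ↥P := lt_of_le_of_ne
      (Nat.le_of_dvd Nat.card_pos (Subgroup.card_dvd_of_le le_sup_right)) fun h => htE
        ((Subgroup.eq_of_le_of_card_ge (le_sup_right : E ≤ P) h.ge).symm ▸ (le_sup_left : T ≤ P) (Subgroup.mem_zpowers t))
    rw [hm, hk, ← pow_succ'] at hPd ⊢
    rw [hcE, hm, hk] at hlt
    have := (Nat.pow_lt_pow_iff_right (show 1 < 3 by norm_num)).1 hlt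
    have := (Nat.pow_dvd_pow_iff_le_right (show 1 < 3 by norm_num)).1 hPd
    rw [show m = k + 1 by omega]
  have hPW : P ≤ setStab Ω J := sup_le (Subgroup.zpowers_le.2 htW) hEW
  have hetP : ∀ e ∈ E, e * t ∈ P := fun e he =>
    mul_mem ((le_sup_right : E ≤ P) he) ((le_sup_left : T ≤ P) (Subgroup.mem_zpowers t))
  -- the seed
  obtain ⟨e₀, he₀, he₀1, he₀t⟩ : ∃ e ∈ E, e ≠ 1 ∧ IsConj t (e * t) := by
    obtain ⟨g, hgW, hPg⟩ := S.exists_other D hA hE hNE hG hp hP hPW
    obtain ⟨u, huP, hu1, hufix⟩ : ∃ u : G, g * u * g⁻¹ ∈ P ∧ u ≠ 1 ∧ ∀ c : Ω, J • c = c → u • c = c := by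
      by_contra hcon
      push Not at hcon
      let P' := conjMap g⁻¹ P
      have hP'W : P' ≤ setStab Ω J := fun x hx => by
        have h1 := mem_conjMap.1 hx
        rw [inv_inv] at h1
        have := mem_conjMap.1 (hPg h1)
        rwa [show g⁻¹ * (g * x * g⁻¹) * g = x by group] at this
      let φ : ↥(setStab Ω J) →* Equiv.Perm ↥(setPts Ω J) :=
        MulAction.toPermHom ↥(setStab Ω J) ↥(setPts Ω J)
      have hinj : Function.Injective (φ.comp (Subgroup.inclusion hP'W)) := by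
        rw [injective_iff_map_eq_one]
        intro x hx
        by_contra hx1
        obtain ⟨c, hc, hne⟩ := hcon x (by
          have := mem_conjMap.1 x.2; rwa [inv_inv] at this) (fun e => hx1 (Subtype.ext e))
        exact hne (congrArg Subtype.val (Equiv.Perm.ext_iff.1 hx ⟨c, hc⟩))
      have h1 : Nat.card ↥P' ∣ Nat.card ↥φ.range := by
        rw [Nat.card_congr (MonoidHom.ofInjective hinj).toEquiv]
        exact Subgroup.card_dvd_of_le fun x ⟨n, hn⟩ => ⟨_, hn⟩
      have h2 := φ.ker.card_mul_index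
      rw [Subgroup.index_ker, S.card_setStab D hA] at h2
      have h3 : Nat.card ↥φ.ker = 12 := by
        rw [← S.card_H]
        refine Nat.card_congr ⟨fun w => ⟨w.1.1, mem_pairStab.2
          ⟨congrArg Subtype.val (Equiv.Perm.ext_iff.1 w.2 ⟨a, D.smul_a⟩),
            congrArg Subtype.val (Equiv.Perm.ext_iff.1 w.2 ⟨b, D.smul_b⟩)⟩⟩,
          fun h => ⟨⟨h.1, S.pairStab_le_setStab D hA h.2⟩,
            MonoidHom.mem_ker.2 (Equiv.ext fun c => Subtype.ext (hall h.1 h.2 c.1 c.2))⟩, fun _ => rfl, fun _ => rfl⟩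
      rw [h3] at h2
      rw [Nat.eq_of_mul_eq_mul_left (by norm_num) h2, card_conjMap, hPc, mul_comm (fixCard Ω J)] at h1
      have h4 := Nat.dvd_of_mul_dvd_mul_right (by have := D.two_le_fixCard; omega) h1
      have : 3 ∣ fixCard Ω J := by
        rcases k with _ | k
        · have := D.two_le_fixCard; omega
        · exact ⟨3 ^ k, by rw [hk, pow_succ']⟩
      have := D.two_le_fixCard
      omega
    have huH : u ∈ (pairStab a b : Subgroup G) := mem_pairStab.2 ⟨hufix a D.smul_a, hufix b D.smul_b⟩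
    have hu3 : orderOf u = 3 := by
      rcases S.order_cases huH with h | h
      · exfalso
        have h2 := orderOf_two_of h hu1
        have h3 : orderOf (⟨g * u * g⁻¹, huP⟩ : ↥P) = 2 := by
          rw [Subgroup.orderOf_mk, orderOf_conj_eq, h2]
        obtain ⟨j, hj⟩ := hP ⟨g * u * g⁻¹, huP⟩
        have := orderOf_dvd_of_pow_eq_one hj
        rw [h3] at this
        have := Nat.prime_two.dvd_of_dvd_pow this
        norm_num at this
      · exact orderOf_eq_prime (by rw [pow_succ, pow_two, h]) hu1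
    have hx : IsConj t (g * u * g⁻¹) := (hconjH u huH hu3).trans (isConj_iff.2 ⟨g, rfl⟩)
    obtain ⟨e, he, hform⟩ := hPform _ huP
    have hne1 : e ≠ 1 ∨ g * u * g⁻¹ ∈ E := by
      rcases hform with h | h | h
      · exact Or.inr (h ▸ he)
      all_goals
        left
        rintro rfl
        rw [one_mul] at h
        refine hgW (inv_inv g ▸ inv_mem (mem_setStab_of_forall fun c hc => hft u huH hu3 hufix _ ?_))
        have h' : (g * u * g⁻¹) • c = c := by
          rw [h]
          first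
          | exact htF c hc
          | exact inv_smul_eq_iff.2 (htF c hc).symm
        rwa [mul_smul, mul_smul, smul_eq_iff_eq_inv_smul] at h'
    rcases hform with h | h | h
    · exact absurd (h ▸ he) (fun hm => hnc _ hm hx)
    · rcases hne1 with h1 | h1
      · exact ⟨e, he, h1, h ▸ hx⟩
      · exact absurd hx (hnc _ h1)
    · rcases hne1 with h1 | h1
      · refine ⟨e⁻¹, inv_mem he, inv_ne_one.2 h1, ?_⟩
        obtain ⟨w, hw⟩ := isConj_iff.1 (h ▸ hx)
        refine htinv.trans (isConj_iff.2 ⟨w, ?_⟩)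
        rw [show w * t⁻¹ * w⁻¹ = (w * t * w⁻¹)⁻¹ by group, hw, mul_inv_rev, inv_inv, hte _ (inv_mem he)]
      · exact absurd hx (hnc _ h1)
  -- spreading
  have hspread : ∀ e ∈ E, e ≠ 1 → IsConj t (e * t) ∨ IsConj t (e⁻¹ * t) := by
    intro e he he1
    have hF : ∀ x ∈ E, J • x • a = x • a := fun x hx => smul_mem_fix (hE.le_cent hx) D.smul_a
    have hne : ∀ x ∈ E, x ≠ 1 → a ≠ x • a := fun x hx hx1 h => hx1 (hE.free x hx a D.smul_a h.symm)
    obtain ⟨g, hga, hgb, hgt⟩ := S.normalizer_t_two ht ht3 (hne _ he he1) (htF a D.smul_a) (htF _ (hF _ he))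
    obtain ⟨g', hga', hgb', hgt'⟩ :=
      S.normalizer_t_two ht ht3 (hne _ he₀ he₀1) (htF a D.smul_a) (htF _ (hF _ he₀))
    set w := g * g'⁻¹
    have hgW : g ∈ setStab Ω J := S.mem_setStab_of_pair D hA (by rw [hga]; exact D.smul_a) (by rw [hgb]; exact hF _ he)
    have hgW' : g' ∈ setStab Ω J :=
      S.mem_setStab_of_pair D hA (by rw [hga']; exact D.smul_a) (by rw [hgb']; exact hF _ he₀)
    have hwN : w ∈ Subgroup.normalizer (E : Set G) := hNE ▸ mul_mem hgW (inv_mem hgW')
    have hm := (Subgroup.mem_normalizer_iff.1 hwN e₀).1 he₀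
    have hwe : w * e₀ * w⁻¹ = e := by
      refine (inv_mul_eq_one.1 (hE.free _ (mul_mem (inv_mem he) hm) a D.smul_a ?_)).symm
      simp only [w, mul_inv_rev, inv_inv, mul_smul]
      rw [show g⁻¹ • a = a by rw [inv_smul_eq_iff, hga], hga', ← hgb', inv_smul_smul, hgb, inv_smul_smul]
    have hwt : w * t * w⁻¹ = t ∨ w * t * w⁻¹ = t⁻¹ := by
      have hg' : g'⁻¹ * t * g' = t ∨ g'⁻¹ * t * g' = t⁻¹ := by
        rcases hgt' with h | h
        · left; calc g'⁻¹ * t * g' = g'⁻¹ * (g' * t * g'⁻¹) * g' := by rw [h]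
            _ = t := by group
        · right; calc g'⁻¹ * t * g' = g'⁻¹ * (g' * t * g'⁻¹)⁻¹ * g' := by rw [h, inv_inv]
            _ = t⁻¹ := by group
      have key : w * t * w⁻¹ = g * (g'⁻¹ * t * g') * g⁻¹ := by simp only [w]; group
      rcases hg' with h | h <;> rw [key, h]
      · exact hgt
      · rcases hgt with h' | h'
        · right; rw [show g * t⁻¹ * g⁻¹ = (g * t * g⁻¹)⁻¹ by group, h']
        · left; rw [show g * t⁻¹ * g⁻¹ = (g * t * g⁻¹)⁻¹ by group, h', inv_inv]
    have hc : IsConj t (w * (e₀ * t) * w⁻¹) := he₀t.trans (isConj_iff.2 ⟨w, rfl⟩)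
    rw [show w * (e₀ * t) * w⁻¹ = (w * e₀ * w⁻¹) * (w * t * w⁻¹) by group, hwe] at hc
    rcases hwt with h | h
    · rw [h] at hc; exact Or.inl hc
    · right
      rw [h] at hc
      obtain ⟨u, hu⟩ := isConj_iff.1 hc
      refine htinv.trans (isConj_iff.2 ⟨u, ?_⟩)
      rw [show u * t⁻¹ * u⁻¹ = (u * t * u⁻¹)⁻¹ by group, hu, mul_inv_rev, inv_inv, hte _ (inv_mem he)]
  -- each further conjugate of `t` in `P` gives a conjugate of `E`
  have hgive : ∀ e ∈ E, e ≠ 1 → IsConj t (e * t) → ∃ h : G, h * t * h⁻¹ = e * t ∧ conjMap h E ≤ P ∧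
      conjMap h E ≠ E := by
    intro e he he1 hc
    obtain ⟨h, hh⟩ := isConj_iff.1 hc
    have hPh : P ≤ conjMap h (setStab Ω J) := by
      intro x hx
      refine mem_conjMap.2 (mem_setStab_of_forall fun c hc => hFt _ ?_)
      have key : t * (h⁻¹ * x * h) = h⁻¹ * x * h * t := by
        calc t * (h⁻¹ * x * h) = h⁻¹ * ((h * t * h⁻¹) * x) * h := by group
          _ = _ := by rw [hh, hPcomm _ (hetP e he) x hx, ← hh]; group
      rw [← mul_smul, key, mul_smul, htF c hc]
    refine ⟨h, hh, S.conj_E_le D hA hE hNE hG hp hP hPc hPh, fun h' => he1 ?_⟩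
    have hhW : h ∈ setStab Ω J := by
      rw [← hNE]
      refine Subgroup.mem_normalizer_iff.2 fun x => ⟨fun hx => ?_, fun hx => ?_⟩
      · have : h * x * h⁻¹ ∈ conjMap h E := ⟨x, hx, rfl⟩
        rwa [h'] at this
      · rw [← h', mem_conjMap, show h⁻¹ * (h * x * h⁻¹) * h = x by group] at hx
        exact hx
    have := hmemH h hhW
    rw [hh] at this
    refine heH e he ?_
    simpa using mul_mem this (inv_mem ht)
  have hnc' : ∀ h : G, ∀ x ∈ conjMap h E, ¬ IsConj t x := fun h x hx hc =>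
    hnc _ (mem_conjMap.1 hx) (hc.trans (isConj_iff.2 ⟨h⁻¹, by group⟩))
  -- two of them coincide
  have hsame : ∀ h₁ h₂ : G, conjMap h₁ E ≤ P → conjMap h₂ E ≤ P → conjMap h₁ E ≠ E → conjMap h₂ E ≠ E →
      conjMap h₁ E = conjMap h₂ E := by
    intro h₁ h₂ h1P h2P h1E h2E
    by_contra hne
    set E₁ := conjMap h₁ E with hE1
    set E₂ := conjMap h₂ E with hE2
    have hget : ∀ h, conjMap h E ≤ P → conjMap h E ≠ E → ∃ e ∈ E, e * t ∈ conjMap h E := by
      intro h hP' hE'
      obtain ⟨x, hx, hxE⟩ : ∃ x ∈ conjMap h E, x ∉ E := by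
        by_contra hcon; push Not at hcon
        exact hE' (Subgroup.eq_of_le_of_card_ge hcon (by rw [card_conjMap]))
      obtain ⟨e, he, rfl | rfl | rfl⟩ := hPform x (hP' hx)
      · exact absurd he hxE
      · exact ⟨e, he, hx⟩
      · refine ⟨e⁻¹, inv_mem he, ?_⟩
        have := inv_mem hx
        rwa [mul_inv_rev, inv_inv, ← hte _ (inv_mem he)] at this
    obtain ⟨e₁, he₁, het₁⟩ := hget h₁ h1P h1E
    obtain ⟨e₂, he₂, het₂⟩ := hget h₂ h2P h2E
    have hidx : ∀ h, conjMap h E ≤ P → fixCard Ω J ≤ 3 * Nat.card ↥(E ⊓ conjMap h E : Subgroup G) := by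
      intro h hP'
      have h1 : (conjMap h E).relIndex E ≤ (conjMap h E).relIndex P :=
        Subgroup.relIndex_le_of_le_right le_sup_right Subgroup.FiniteIndex.index_ne_zero
      have h2 := Subgroup.card_mul_index ((conjMap h E).subgroupOf P)
      rw [Nat.card_congr (Subgroup.subgroupOfEquivOfLe hP').toEquiv, card_conjMap, hcE, hPc] at h2
      have h3 : (conjMap h E).relIndex P = 3 := Nat.eq_of_mul_eq_mul_left (by have := D.two_le_fixCard; omega)
        (show fixCard Ω J * ((conjMap h E).subgroupOf P).index = fixCard Ω J * 3 by rw [h2, mul_comm])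
      have h4 := Subgroup.card_mul_index ((conjMap h E).subgroupOf E)
      have h5 : Nat.card ↥((conjMap h E).subgroupOf E) = Nat.card ↥(E ⊓ conjMap h E : Subgroup G) :=
        Nat.card_congr ⟨fun x => ⟨x.1.1, x.1.2, x.2⟩, fun x => ⟨⟨x.1, x.2.1⟩, x.2.2⟩, fun _ => rfl, fun _ => rfl⟩
      rw [hcE, h5] at h4
      rw [← h4, mul_comm]
      exact Nat.mul_le_mul_right _ (h1.trans h3.le)
    set K₁ := E ⊓ E₁ with hK1
    set K₂ := E ⊓ E₂ with hK2
    have hK1E : K₁ < E := lt_of_le_of_ne inf_le_left fun e => h1E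
      (Subgroup.eq_of_le_of_card_ge (inf_eq_left.1 e) (by rw [card_conjMap])).symm
    have hK2E : K₂ < E := lt_of_le_of_ne inf_le_left fun e => h2E
      (Subgroup.eq_of_le_of_card_ge (inf_eq_left.1 e) (by rw [card_conjMap])).symm
    have hcardK : ∀ L : Subgroup G, L < E → fixCard Ω J ≤ 3 * Nat.card ↥L → 3 * Nat.card ↥L = fixCard Ω J := by
      intro L hL hi
      obtain ⟨m, hm⟩ := IsPGroup.iff_card.1 (hEp.to_le hL.le)
      have hlt : Nat.card ↥L < Nat.card ↥E := by
        by_contra hc; push Not at hc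
        exact hL.ne (Subgroup.eq_of_le_of_card_ge hL.le hc)
      rw [hcE, hm, hk] at hlt
      refine le_antisymm ?_ hi
      rw [hm, hk, ← pow_succ']
      exact Nat.pow_le_pow_right (by norm_num) ((Nat.pow_lt_pow_iff_right (by norm_num)).1 hlt)
    -- `e₁ * e₂` lies in `K₁ ⊔ K₂`
    obtain ⟨x₁, hx₁, x₂, hx₂, hprod⟩ : ∃ x₁ ∈ K₁, ∃ x₂ ∈ K₂, x₁ * x₂ = (e₁ * e₂)⁻¹ := by
      have hmul : ∀ x ∈ K₁ ⊔ K₂, ∃ x₁ ∈ K₁, ∃ x₂ ∈ K₂, x₁ * x₂ = x := by
        intro x hx
        have hn : K₂ ≤ Subgroup.normalizer (K₁ : Set G) := fun y hy => Subgroup.mem_normalizer_iff.2 fun z =>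
          ⟨fun hz => by rwa [hE.comm y hy.1 z hz.1, mul_inv_cancel_right],
            fun hz => by
              have hzE : z ∈ E := by
                have := mul_mem (mul_mem (E.inv_mem hy.1) hz.1) hy.1
                rwa [show y⁻¹ * (y * z * y⁻¹) * y = z by group] at this
              rwa [hE.comm y hy.1 z hzE, mul_inv_cancel_right] at hz⟩
        have : x ∈ ((K₁ : Set G) * (K₂ : Set G)) := by
          rw [← Subgroup.coe_mul_of_right_le_normalizer_left K₁ K₂ hn]; exact hx
        exact Set.mem_mul.1 this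
      by_cases hKK : K₁ = K₂
      · have he12 : e₁ * e₂ ∈ K₁ := by
          have hidx' : (K₁.subgroupOf E).index = 3 := by
            have h4 := Subgroup.card_mul_index (K₁.subgroupOf E)
            rw [Nat.card_congr (Subgroup.subgroupOfEquivOfLe hK1E.le).toEquiv, hcE,
              ← hcardK _ hK1E (hidx h₁ h1P)] at h4
            exact Nat.eq_of_mul_eq_mul_left Nat.card_pos (by rw [h4, mul_comm])
          by_contra hne12
          have h12 : e₁⁻¹ * e₂ ∈ K₁ := by
            haveI : (K₁.subgroupOf E).Normal := ⟨fun x hx g => by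
              rwa [show g * x * g⁻¹ = x from Subtype.ext (by
                show (g : G) * x * (g : G)⁻¹ = x
                rw [hE.comm g g.2 x x.2, mul_inv_cancel_right])]⟩
            have hq : Nat.card (↥E ⧸ K₁.subgroupOf E) = 3 := by rw [← Subgroup.index_eq_card]; exact hidx'
            set q₁ : ↥E ⧸ K₁.subgroupOf E := QuotientGroup.mk ⟨e₁, he₁⟩ with hq1
            set q₂ : ↥E ⧸ K₁.subgroupOf E := QuotientGroup.mk ⟨e₂, he₂⟩ with hq2
            have n1 : q₁ ≠ 1 := fun h => htE (by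
              have hm : e₁ ∈ K₁ := (QuotientGroup.eq_one_iff (N := K₁.subgroupOf E) _).1 h
              have ht1 : t ∈ E₁ := by
                have := mul_mem (E₁.inv_mem hm.2) het₁; rwa [inv_mul_cancel_left] at this
              exact absurd (IsConj.refl t) (hnc' h₁ t ht1))
            have n2 : q₂ ≠ 1 := fun h => htE (by
              have hm : e₂ ∈ K₁ := (QuotientGroup.eq_one_iff (N := K₁.subgroupOf E) _).1 h
              rw [hKK] at hm
              have ht2 : t ∈ E₂ := by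
                have := mul_mem (E₂.inv_mem hm.2) het₂; rwa [inv_mul_cancel_left] at this
              exact absurd (IsConj.refl t) (hnc' h₂ t ht2))
            have n3 : q₁ * q₂ ≠ 1 := fun h => hne12 ((QuotientGroup.eq_one_iff _).1 h :)
            have hq12 : q₁⁻¹ * q₂ = 1 := by
              by_contra h
              have hsub : ({1, q₁, q₂, q₁ * q₂} : Finset (↥E ⧸ K₁.subgroupOf E)).card ≤ 3 := by
                have := Fintype.ofFinite (↥E ⧸ K₁.subgroupOf E)
                rw [← hq, Nat.card_eq_fintype_card]; exact Finset.card_le_univ _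
              rw [Finset.card_insert_of_notMem (by simp [Ne.symm n1, Ne.symm n2, Ne.symm n3]),
                Finset.card_insert_of_notMem (by
                  simp only [Finset.mem_insert, Finset.mem_singleton, not_or]
                  exact ⟨fun e => h (by rw [e, inv_mul_cancel]), fun e => n2 (by simpa using e)⟩),
                Finset.card_insert_of_notMem (by
                  simp only [Finset.mem_singleton]; exact fun e => n1 (by simpa using e)),
                Finset.card_singleton] at hsub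
              omega
            exact ((QuotientGroup.eq_one_iff _).1 (show ((⟨e₁, he₁⟩⁻¹ * ⟨e₂, he₂⟩ : ↥E) :
              ↥E ⧸ K₁.subgroupOf E) = 1 from hq12) :)
          -- then `E₁ = E₂`
          refine hne (Subgroup.eq_of_le_of_card_ge (fun x hx => ?_) (by rw [card_conjMap, card_conjMap]))
          have hK12 : ∀ y ∈ K₁, y ∈ E₂ := fun y hy => by rw [hKK] at hy; exact hy.2
          have he1t2 : e₁ * t ∈ E₂ := by
            have := mul_mem (inv_mem (hK12 _ h12)) het₂
            rwa [mul_inv_rev, inv_inv, hE.comm e₂⁻¹ (inv_mem he₂) e₁ he₁, ← mul_assoc, inv_mul_cancel_right] at this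
          obtain ⟨e, he, rfl | rfl | rfl⟩ := hPform x (h1P hx)
          · exact hK12 _ ⟨he, hx⟩
          · have hm : e * e₁⁻¹ ∈ E₁ := by
              have := mul_mem hx (inv_mem het₁)
              rwa [mul_inv_rev, ← mul_assoc, mul_inv_cancel_right] at this
            have := mul_mem (hK12 _ ⟨mul_mem he (E.inv_mem he₁), hm⟩) he1t2
            rwa [← mul_assoc, inv_mul_cancel_right] at this
          · have hc1 : Commute (e₁ * t) (e * t⁻¹) := hPcomm _ (hetP _ he₁) _ (h1P hx)
            have hm : e * e₁ ∈ E₁ := by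
              have h' := mul_mem hx het₁
              rwa [show e * t⁻¹ * (e₁ * t) = e * e₁ by
                rw [hte e₁ he₁, mul_assoc, inv_mul_cancel_left]] at h'
            have := mul_mem (hK12 _ ⟨mul_mem he he₁, hm⟩) (inv_mem he1t2)
            rwa [show e * e₁ * (e₁ * t)⁻¹ = e * t⁻¹ by
              rw [hte e₁ he₁]; group] at this
        exact ⟨(e₁ * e₂)⁻¹, inv_mem he12, 1, one_mem _, mul_one _⟩
      · refine hmul _ ?_
        have htop : K₁ ⊔ K₂ = E := by
          refine Subgroup.eq_of_le_of_card_ge (sup_le hK1E.le hK2E.le) ?_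
          by_contra hlt
          push Not at hlt
          have hs : K₁ ⊔ K₂ < E := lt_of_le_of_ne (sup_le hK1E.le hK2E.le) fun e => by rw [e] at hlt; omega
          have h1 := hcardK _ hK1E (hidx h₁ h1P)
          have h2 := hcardK _ hK2E (hidx h₂ h2P)
          have hs1 : Nat.card ↥K₁ ≤ Nat.card ↥(K₁ ⊔ K₂ : Subgroup G) :=
            Nat.le_of_dvd Nat.card_pos (Subgroup.card_dvd_of_le le_sup_left)
          have h3 := hcardK _ hs (by omega)
          refine hKK ((Subgroup.eq_of_le_of_card_ge (le_sup_left : K₁ ≤ K₁ ⊔ K₂) (by omega)).trans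
            (Subgroup.eq_of_le_of_card_ge (le_sup_right : K₂ ≤ K₁ ⊔ K₂) (by omega)).symm)
        rw [htop]
        exact inv_mem (mul_mem he₁ he₂)
    -- the contradiction
    set e := e₁ * x₁ with he'
    have heE : e ∈ E := mul_mem he₁ hx₁.1
    have h1 : e * t ∈ E₁ := by
      rw [he', hE.comm e₁ he₁ x₁ hx₁.1, mul_assoc]
      exact mul_mem hx₁.2 het₁
    have h2 : e⁻¹ * t ∈ E₂ := by
      have hx : e⁻¹ = x₂ * e₂ := by
        refine inv_eq_of_mul_eq_one_right ?_
        rw [he', show e₁ * x₁ * (x₂ * e₂) = e₁ * (x₁ * x₂) * e₂ by group, hprod, mul_inv_rev,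
          hE.comm e₂⁻¹ (inv_mem he₂) e₁⁻¹ (inv_mem he₁)]
        group
      rw [hx, mul_assoc]
      exact mul_mem hx₂.2 het₂
    have he1 : e ≠ 1 := fun h => by
      rw [h, one_mul] at h1
      exact hnc' h₁ t h1 (IsConj.refl t)
    rcases hspread e heE he1 with h | h
    · exact hnc' h₁ _ h1 h
    · exact hnc' h₂ _ h2 h
  -- at most one element
  have huniq : ∀ e ∈ E, ∀ e' ∈ E, e ≠ 1 → e' ≠ 1 → IsConj t (e * t) → IsConj t (e' * t) → e = e' := by
    intro e he e' he' h1 h1' hc hc'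
    obtain ⟨h, hh, hP1, hE1⟩ := hgive e he h1 hc
    obtain ⟨h', hh', hP2, hE2⟩ := hgive e' he' h1' hc'
    have heq := hsame h h' hP1 hP2 hE1 hE2
    have hw : h⁻¹ * h' ∈ setStab Ω J := by
      rw [← hNE]
      refine Subgroup.mem_normalizer_iff.2 fun x => ⟨fun hx => ?_, fun hx => ?_⟩
      · have : h' * x * h'⁻¹ ∈ conjMap h' E := ⟨x, hx, rfl⟩
        rw [← heq, mem_conjMap] at this
        rwa [show h⁻¹ * h' * x * (h⁻¹ * h')⁻¹ = h⁻¹ * (h' * x * h'⁻¹) * h by group]
      · have : h * (h⁻¹ * h' * x * (h⁻¹ * h')⁻¹) * h⁻¹ ∈ conjMap h E := ⟨_, hx, rfl⟩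
        rw [heq, mem_conjMap] at this
        rwa [show h'⁻¹ * (h * (h⁻¹ * h' * x * (h⁻¹ * h')⁻¹) * h⁻¹) * h' = x by group] at this
    have hu := hmemH _ hw
    set u := h⁻¹ * h' * t * (h⁻¹ * h')⁻¹ with hud
    have hcu : u * t = t * u := by
      calc u * t = h⁻¹ * ((h' * t * h'⁻¹) * (h * t * h⁻¹)) * h := by rw [hud]; group
        _ = h⁻¹ * ((h * t * h⁻¹) * (h' * t * h'⁻¹)) * h := by rw [hh, hh', hPcomm _ (hetP e' he') _ (hetP e he)]
        _ = _ := by rw [hud]; group
    obtain ⟨j, hj⟩ := Subgroup.mem_zpowers_iff.1 (S.three_cent ht ht3 hu hcu)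
    have hval : e' * t = (e * t) ^ j := by
      rw [← hh', ← hh, conj_zpow, hj, hud]; group
    rw [Commute.mul_zpow (hte e he)] at hval
    have hm : t ^ (j - 1) ∈ E := by
      have : t ^ (j - 1) = (e ^ j)⁻¹ * e' := by
        rw [zpow_sub, zpow_one, ← mul_inv_eq_iff_eq_mul.2 hval]
        group
      rw [this]; exact mul_mem (inv_mem (zpow_mem he j)) he'
    have hj1 := heH _ hm (zpow_mem ht _)
    rw [← orderOf_dvd_iff_zpow_eq_one, ht3] at hj1
    obtain ⟨q, hq⟩ := hj1
    rw [show j = 1 + ((3 : ℕ) : ℤ) * q by omega, zpow_add, zpow_add, zpow_one, zpow_one, zpow_mul, zpow_mul,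
      zpow_natCast, zpow_natCast] at hval
    have he3 : e ^ 3 = 1 := by have := hE.pow e he; rwa [hp] at this
    rw [he3, ← ht3, pow_orderOf_eq_one, one_zpow, mul_one, mul_one] at hval
    exact (mul_right_cancel hval).symm
  -- count
  have := Fintype.ofFinite G
  have hsub : (Finset.univ.filter fun e => e ∈ E) ⊆ ({1, e₀, e₀⁻¹} : Finset G) := by
    intro e he
    simp only [Finset.mem_filter, Finset.mem_univ, true_and] at he
    simp only [Finset.mem_insert, Finset.mem_singleton]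
    by_cases he1 : e = 1
    · exact Or.inl he1
    rcases hspread e he he1 with h | h
    · exact Or.inr (Or.inl (huniq e he e₀ he₀ he1 he₀1 h he₀t))
    · exact Or.inr (Or.inr (by rw [← huniq e⁻¹ (inv_mem he) e₀ he₀ (inv_ne_one.2 he1) he₀1 h he₀t, inv_inv]))
  rw [← hcE, Nat.card_eq_fintype_card, Fintype.card_subtype]
  exact (Finset.card_le_card hsub).trans Finset.card_le_three

end Setting

end CfsgLib.KimuraFour
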