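import Cfsg.Agent.Lib.Perm.KimuraFour.Fifteen
import Cfsg.Agent.Lib.Perm.KimuraFour.OddThree
import Cfsg.Agent.Lib.Perm.KimuraFour.OddCaseB

/-!
# Odd degree
-/

set_option autoImplicit false

namespace CfsgLib.KimuraFour

open MulAction

variable {G : Type*} [Group G] [Finite G] {Ω : Type*} [MulAction G Ω] [Finite Ω] {a b : Ω} {J : G}

local notation "Cent" J:max => Subgroup.centralizer (Singleton.singleton J : Set _)

namespace Setting

variable (S : Setting G Ω a b) (D : InvData G Ω a b J) (hA : CaseA a b J) (hodd : Odd (fixCard Ω J))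

include S D hA hodd

/-- The translations in case A. -/
theorem caseA_data : ∃ (p k : ℕ) (E : Subgroup G), EData Ω J p E ∧ 0 < k ∧ fixCard Ω J = p ^ k := by
  classical
  have := Fintype.ofFinite Ω
  haveI : Nonempty ↥(fixPts Ω J) := ⟨D.fa⟩
  obtain ⟨p, N, R, hmem⟩ := exists_kernel_sharp (G := ↥(inducedPerm Ω J)) D.two_induced
    (by rw [card_fixPts]; exact D.two_le_fixCard) (S.sharp_of_caseA D hA)
  obtain ⟨k, hk⟩ := R.card_pow
  rw [card_fixPts] at hk
  have hk1 : k ≠ 0 := fun h => by
    have := D.two_le_fixCard; rw [hk, h, pow_zero] at this; omega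
  have hp : Odd p := by
    rw [hk] at hodd
    exact (Nat.odd_pow_iff hk1).1 hodd
  have hs : SqStab a b J := fun h hh hc => (S.mem_cent_iff D hh).1 (Subgroup.mem_centralizer_singleton_iff.2 hc)
  obtain ⟨E, hE⟩ := D.exists_eData hs (S.card_inf_cent D).le R hp fun x hx hfree => (hmem x).2 (Or.inr hfree)
  exact ⟨p, k, E, hE, Nat.pos_of_ne_zero hk1, hk⟩

/-- In case A with `n = i (2 i - 1)` the degree is fifteen. -/
theorem six_caseA (hno : ∀ z : G, ¬ CenSwap a b z)
    (hn : Nat.card Ω = fixCard Ω J * (2 * fixCard Ω J - 1)) : fixCard Ω J = 3 := by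
  classical
  obtain ⟨p, k, E, hE, hk1, hk⟩ := S.caseA_data D hA hodd
  haveI := Fact.mk hE.prime
  by_contra hne
  set i := fixCard Ω J with hi
  have hi2 := D.two_le_fixCard
  rw [← hi] at hi2
  have hpi : p ∣ i := by rw [hk]; exact dvd_pow_self p hk1.ne'
  have hp2 : p ≠ 2 := fun h => by have := hE.odd; rw [h] at this; exact absurd this (by decide)
  have hG : Nat.card G = 12 * i * (i - 1) * (4 * i * i - 1) := by
    rw [card_eq_pairStab S.two S.ne, S.card_H, hn]
    obtain ⟨q, hq⟩ : ∃ q, i = q + 2 := ⟨i - 2, by omega⟩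
    rw [hq, show 2 * (q + 2) - 1 = 2 * q + 3 by omega, show (q + 2) - 1 = q + 1 by omega,
      show (q + 2) * (2 * q + 3) - 1 = (q + 1) * (2 * q + 5) by ring_nf; omega,
      show 4 * (q + 2) * (q + 2) - 1 = (2 * q + 3) * (2 * q + 5) by ring_nf; omega]
    ring
  have hcE : Nat.card ↥E = i := hE.card_eq D.smul_a
  have hfree : ¬ p ∣ (i - 1) * (4 * i * i - 1) := by
    intro h
    rcases (hE.prime.dvd_mul).1 h with h1 | h1
    · have := Nat.dvd_sub hpi h1
      rw [show i - (i - 1) = 1 by omega] at this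
      exact hE.prime.one_lt.ne' (Nat.dvd_one.1 this)
    · have := Nat.dvd_sub (hpi.trans (dvd_mul_left i (4 * i))) h1
      rw [show 4 * i * i - (4 * i * i - 1) = 1 by
        have : 1 ≤ 4 * i * i := by nlinarith
        omega] at this
      exact hE.prime.one_lt.ne' (Nat.dvd_one.1 this)
  have hb3 : p = 3 → ¬ 9 * i ∣ Nat.card G := by
    rintro rfl h
    rw [hG, show 12 * i * (i - 1) * (4 * i * i - 1) = (3 * (4 * ((i - 1) * (4 * i * i - 1)))) * i by ring] at h
    have h' := Nat.dvd_of_mul_dvd_mul_left (show 0 < 3 by norm_num)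
      (show 3 * 3 ∣ _ from Nat.dvd_of_mul_dvd_mul_right (show 0 < i by omega) h)
    exact hfree (((Nat.prime_three.dvd_mul).1 h').resolve_left (by norm_num))
  have hbne : p ≠ 3 → ¬ p * i ∣ Nat.card G := by
    intro hp3 h
    rw [hG, show 12 * i * (i - 1) * (4 * i * i - 1) = (2 ^ 2 * 3 * ((i - 1) * (4 * i * i - 1))) * i by ring] at h
    rcases (hE.prime.dvd_mul).1 (Nat.dvd_of_mul_dvd_mul_right (show 0 < i by omega) h) with h1 | h1
    · rcases (hE.prime.dvd_mul).1 h1 with h2 | h2
      · exact hp2 ((Nat.prime_dvd_prime_iff_eq hE.prime Nat.prime_two).1 (hE.prime.dvd_of_dvd_pow h2))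
      · exact hp3 ((Nat.prime_dvd_prime_iff_eq hE.prime Nat.prime_three).1 h2)
    · exact hfree h1
  have hft : ∀ t ∈ (pairStab a b : Subgroup G), orderOf t = 3 →
      (∀ c : Ω, J • c = c → t • c = c) → ∀ c : Ω, t • c = c → J • c = c :=
    fun t ht ht3 htF => S.three_fix_eq D hA hE hodd (by
      by_cases hp3 : p = 3
      · exact Or.inr ⟨hp3, hb3 hp3⟩
      · exact Or.inl (hbne hp3)) ht ht3 htF
  have hi3 : p = 3 → 3 < i := fun h => by
    subst h
    rcases k with _ | _ | k
    · omega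
    · exact absurd (by simpa using hk) hne
    · rw [hk, show 3 ^ (k + 2) = 3 * (3 * 3 ^ k) by ring]
      have := Nat.one_le_pow k 3 (by norm_num)
      omega
  have hNE : Subgroup.normalizer (E : Set G) = setStab Ω J := by
    refine le_antisymm (fun g hg => mem_setStab_of_forall fun c hc => ?_) (S.setStab_normalizes D hA hE hodd)
    exact S.normalizer_preserves_A D hA hE hft (fun h => ⟨hcE ▸ hb3 h, hi3 h⟩) hg hc
  by_cases hp3 : p = 3
  · have hall : ∀ h ∈ (pairStab a b : Subgroup G), ∀ c : Ω, J • c = c → h • c = c := by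
      obtain ⟨t, ht, ht3⟩ := S.exists_three
      by_cases htF : ∀ c : Ω, J • c = c → t • c = c
      · intro h hh c hc
        obtain ⟨v, hv, hv2, he⟩ := S.coset_three ht ht3 hh
        have hvc := hA v hv hv2 c hc
        rcases he with rfl | rfl | rfl
        · exact hvc
        · rw [mul_smul, htF c hc, hvc]
        · rw [mul_smul, mul_smul, htF c hc, htF c hc, hvc]
      · exfalso
        push Not at htF
        obtain ⟨c₀, hc₀, hmove⟩ := htF
        have h9 := S.fixCard_le_nine D hA hE hNE hG hp3 ht ht3 hc₀ hmove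
        have hi9 : i = 9 := by
          have h3 := hi3 hp3
          rw [hp3] at hk
          rcases k with _ | _ | _ | k
          · omega
          · rw [hk] at h3; norm_num at h3
          · rw [hk]; rfl
          · rw [← hi, hk, show 3 ^ (k + 3) = 27 * 3 ^ k by ring] at h9
            have := Nat.one_le_pow k 3 (by norm_num)
            omega
        exact S.not_153 D (by rw [hn, hi9]) hi9
    have h3 := S.fixCard_le_three D hA hE hNE hG hft hp3 hno hall
    have := hi3 hp3
    omega
  · have hidx := index_modEq_one hE.isPGroup (hcE ▸ hbne hp3) hNE.le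
    have h1 := (setStab Ω J).card_mul_index
    rw [S.card_setStab D hA, hG, ← hi] at h1
    have h2 : (setStab Ω J).index = 4 * i * i - 1 := by
      refine Nat.eq_of_mul_eq_mul_left (show 0 < 12 * (i * (i - 1)) by
        have : 0 < i * (i - 1) := Nat.mul_pos (by omega) (by omega); omega) ?_
      rw [h1]; ring
    have h3 : p ∣ (setStab Ω J).index + 1 := by
      rw [h2, show 4 * i * i - 1 + 1 = i * (4 * i) by
        have : 1 ≤ 4 * i * i := by nlinarith
        zify [this]; ring]
      exact dvd_mul_of_dvd_left hpi _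
    have h4 : p ∣ 2 := ((hidx.add_right 1).dvd_iff dvd_rfl).1 h3
    exact hp2 ((Nat.prime_dvd_prime_iff_eq hE.prime Nat.prime_two).1 h4)

/-- In case A the degree is not `i (4 i - 1) / 3`. -/
theorem four_caseA (hn : 3 * Nat.card Ω = fixCard Ω J * (4 * fixCard Ω J - 1)) : False := by
  classical
  obtain ⟨p, k, E, hE, hk1, hk⟩ := S.caseA_data D hA hodd
  haveI := Fact.mk hE.prime
  set i := fixCard Ω J with hi
  have hi2 := D.two_le_fixCard
  rw [← hi] at hi2
  have hpi : p ∣ i := by rw [hk]; exact dvd_pow_self p hk1.ne'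
  have hp2 : p ≠ 2 := fun h => by have := hE.odd; rw [h] at this; exact absurd this (by decide)
  have hG : 3 * Nat.card G = 4 * i * (i - 1) * ((4 * i - 1) * (4 * i + 3)) := by
    rw [card_eq_pairStab S.two S.ne, S.card_H]
    obtain ⟨q, hq⟩ : ∃ q, i = q + 2 := ⟨i - 2, by omega⟩
    rw [hq] at hn ⊢
    obtain ⟨n, hn'⟩ : ∃ n, Nat.card Ω = n + 1 := ⟨Nat.card Ω - 1, by
      rcases Nat.eq_zero_or_pos (Nat.card Ω) with h | h
      · exfalso; have := fixCard_le (Ω := Ω) J; rw [← hi] at this; omega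
      · omega⟩
    rw [hn'] at hn
    rw [hn', show n + 1 - 1 = n by omega]
    rw [show 4 * (q + 2) - 1 = 4 * q + 7 by omega] at hn ⊢
    rw [show q + 2 - 1 = q + 1 by omega]
    have h3n : 3 * n = (q + 1) * (4 * q + 11) := by ring_nf at hn ⊢; omega
    calc 3 * ((n + 1) * n * 12) = 4 * (3 * (n + 1)) * (3 * n) := by ring
      _ = _ := by rw [hn, h3n]; ring
  have hcE : Nat.card ↥E = i := hE.card_eq D.smul_a
  have h1 := (setStab Ω J).card_mul_index
  rw [S.card_setStab D hA, ← hi] at h1
  have h2 : 9 * (setStab Ω J).index = (4 * i - 1) * (4 * i + 3) := by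
    refine Nat.eq_of_mul_eq_mul_left (show 0 < 4 * i * (i - 1) from Nat.mul_pos (by omega) (by omega)) ?_
    rw [← hG, ← h1]; ring
  have hp3 : p ≠ 3 := by
    rintro rfl
    obtain ⟨j, hj⟩ := hpi
    rw [hj, show 4 * (3 * j) + 3 = 3 * (4 * j + 1) by ring] at h2
    have h3 : 3 ∣ (4 * (3 * j) - 1) * (4 * j + 1) := ⟨(setStab Ω J).index, by
      refine Nat.eq_of_mul_eq_mul_left (show 0 < 3 by norm_num) ?_
      linarith⟩
    rcases (Nat.prime_three.dvd_mul).1 h3 with h4 | h4
    · omega
    · rcases k with _ | _ | k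
      · omega
      · have : j = 1 := by rw [hk] at hj; omega
        subst this; omega
      · rw [hk, show 3 ^ (k + 2) = 3 * (3 * 3 ^ k) by ring] at hj
        omega
  have hb : ¬ p * i ∣ Nat.card G := by
    intro h
    have h' : 3 * (p * i) ∣ 4 * i * (i - 1) * ((4 * i - 1) * (4 * i + 3)) := hG ▸ mul_dvd_mul_left 3 h
    rw [show 3 * (p * i) = (3 * p) * i by ring,
      show 4 * i * (i - 1) * ((4 * i - 1) * (4 * i + 3)) = (4 * (i - 1) * (4 * i - 1) * (4 * i + 3)) * i by ring] at h'
    have h3 := (dvd_mul_left p 3).trans (Nat.dvd_of_mul_dvd_mul_right (show 0 < i by omega) h')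
    rcases (hE.prime.dvd_mul).1 h3 with h4 | h4
    · rcases (hE.prime.dvd_mul).1 h4 with h5 | h5
      · rcases (hE.prime.dvd_mul).1 h5 with h6 | h6
        · exact hp2 ((Nat.prime_dvd_prime_iff_eq hE.prime Nat.prime_two).1
            (hE.prime.dvd_of_dvd_pow (show p ∣ 2 ^ 2 from h6)))
        · have := Nat.dvd_sub hpi h6
          rw [show i - (i - 1) = 1 by omega] at this
          exact hE.prime.one_lt.ne' (Nat.dvd_one.1 this)
      · have := Nat.dvd_sub (dvd_mul_of_dvd_right hpi 4) h5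
        rw [show 4 * i - (4 * i - 1) = 1 by omega] at this
        exact hE.prime.one_lt.ne' (Nat.dvd_one.1 this)
    · exact hp3 ((Nat.prime_dvd_prime_iff_eq hE.prime Nat.prime_three).1
        ((Nat.dvd_add_right (dvd_mul_of_dvd_right hpi 4)).1 h4))
  have hft : ∀ t ∈ (pairStab a b : Subgroup G), orderOf t = 3 →
      (∀ c : Ω, J • c = c → t • c = c) → ∀ c : Ω, t • c = c → J • c = c :=
    fun t ht ht3 htF => S.three_fix_eq D hA hE hodd (Or.inl hb) ht ht3 htF
  have hidx := index_modEq_one hE.isPGroup (hcE ▸ hb) (W := setStab Ω J) fun g hg =>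
    mem_setStab_of_forall fun c hc => S.normalizer_preserves_A D hA hE hft (fun h => absurd h hp3) hg hc
  have h5 : 9 * (setStab Ω J).index + 3 = i * (16 * i + 8) := by
    rw [h2]
    have : 1 ≤ 4 * i := by omega
    zify [this]; ring
  have h6 : p ∣ 2 ^ 2 * 3 := (((hidx.mul_left 9).add_right 3).dvd_iff dvd_rfl).1 (h5 ▸ dvd_mul_of_dvd_left hpi _)
  rcases (hE.prime.dvd_mul).1 h6 with h7 | h7
  · exact hp2 ((Nat.prime_dvd_prime_iff_eq hE.prime Nat.prime_two).1 (hE.prime.dvd_of_dvd_pow h7))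
  · exact hp3 ((Nat.prime_dvd_prime_iff_eq hE.prime Nat.prime_three).1 h7)

omit hA hodd in
/-- Odd degree: the alternating group of degree seven or an isolated involution. -/
theorem odd_degree (hn : Odd (Nat.card Ω)) :
    (Nat.card Ω = 15 ∧ Nonempty (G ≃* ↥(alternatingGroup (Fin 7)))) ∨
      ∃ z : G, Cfsg.IsIsolatedInvolution z := by
  have hodd : Odd (fixCard Ω J) := by
    have h := parity_fixCard (Ω := Ω) (mul_self_of_orderOf D.ordJ)
    rw [Nat.odd_iff] at hn ⊢
    omega
  rcases S.cases D with ⟨hno, hd⟩ | ⟨z, hz, h1, h2, -⟩ | ⟨z, hz, h1, h2, -⟩ | ⟨z, hz, -, -, hd⟩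
  · by_cases hA : CaseA a b J
    · have hi := S.six_caseA D hA hodd hno hd
      have h15 : Nat.card Ω = 15 := by rw [hd, hi]
      refine Or.inl ⟨h15, S.iso_fifteen D h15 hi fun y hy h7 => ?_⟩
      have h := Subgroup.orderOf_dvd_natCard _ (Subgroup.mem_centralizer_singleton_iff.2 hy)
      rw [h7, S.card_cent_four D, hi] at h
      norm_num at h
    · exact (S.not_six_caseB D hA hodd hno hd).elim
  · exact absurd (S.even_of_one D hz h1 h2) (Nat.not_even_iff_odd.2 hn)
  · exact Or.inr ⟨z, S.isolated_three D hz h1 h2 hn⟩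
  · by_cases hA : CaseA a b J
    · exact (S.four_caseA D hA hodd hd).elim
    · exact (S.not_four_caseB D hA hodd hd).elim

end Setting

end CfsgLib.KimuraFour
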