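import Cfsg.Agent.Lib.Core.FPFComplement
import Cfsg.Agent.Lib.ClassSizes.Kulakoff

/-!
# Elements of prime order in a fixed point free group of odd order
-/

set_option autoImplicit false

namespace CfsgLib.KimuraFour

open Subgroup CfsgLib.Core CfsgLib.Core.FPF

variable {G : Type*} [Group G] [Finite G] {A K : Subgroup G}
  (hAK : A ≤ normalizer (K : Set G))
  (hfpf : ∀ a ∈ A, a ≠ 1 → K ⊓ centralizer {a} = ⊥) (hK : K ≠ ⊥)

include hAK hfpf hK

/-- A fixed point free group of odd order has at most one subgroup of each prime order. -/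
theorem zpowers_eq_of_prime_order (hodd : ¬ 2 ∣ Nat.card A) {x y : G} (hx : x ∈ A) (hy : y ∈ A) {r : ℕ}
    (hr : r.Prime) (hxr : orderOf x = r) (hyr : orderOf y = r) : zpowers x = zpowers y := by
  haveI := Fact.mk hr
  haveI := isZGroup_of_odd hAK hfpf hK hodd
  haveI : IsCyclic (commutator A) := IsZGroup.isCyclic_commutator A
  letI : CommGroup (commutator A) := IsCyclic.commGroup
  haveI : IsMulCommutative (commutator A) := ⟨⟨mul_comm⟩⟩
  have hcop := IsZGroup.coprime_commutator_index (G := A)
  have ho : ∀ {u : G} (hu : u ∈ A), orderOf u = r → orderOf (⟨u, hu⟩ : A) = r := fun hu h => by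
    rw [Subgroup.orderOf_mk]; exact h
  by_cases hrD : r ∣ Nat.card (commutator A)
  · -- both elements lie in the derived group
    have hmem : ∀ u : A, orderOf u = r → u ∈ commutator A := by
      intro u hu
      rw [← QuotientGroup.eq_one_iff, ← orderOf_eq_one_iff]
      refine Nat.eq_one_of_dvd_coprimes hcop ((orderOf_map_dvd (QuotientGroup.mk' (commutator A)) u).trans
        (hu ▸ hrD)) ?_
      rw [Subgroup.index_eq_card]
      exact orderOf_dvd_natCard _
    set x' : commutator A := ⟨⟨x, hx⟩, hmem _ (ho hx hxr)⟩
    set y' : commutator A := ⟨⟨y, hy⟩, hmem _ (ho hy hyr)⟩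
    have key : zpowers x' = zpowers y' := by
      have hx' : orderOf x' = r := by rw [← Subgroup.orderOf_coe]; exact ho hx hxr
      have hy' : orderOf y' = r := by rw [← Subgroup.orderOf_coe]; exact ho hy hyr
      exact CfsgLib.ClassSizes.Kulakoff.eq_of_card_eq_of_isCyclic (by rw [Nat.card_zpowers, Nat.card_zpowers, hx', hy'])
    have := congrArg (Subgroup.map (A.subtype.comp (commutator A).subtype)) key
    rwa [MonoidHom.map_zpowers, MonoidHom.map_zpowers] at this
  -- otherwise they are central
  have hcentral : ∀ u : A, orderOf u = r → ∀ g : A, g * u * g⁻¹ = u := by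
    intro u hu g
    have hcopD : (Nat.card (zpowers u)).Coprime (Nat.card (commutator A)) := by
      rw [Nat.card_zpowers, hu]
      exact hr.coprime_iff_not_dvd.2 hrD
    have hcent : zpowers u ≤ centralizer (commutator A : Set A) := by
      refine abelian_centralizes_of_prime_order Subgroup.le_normalizer_of_normal hcopD fun v hv hvp w hw => ?_
      have hn : ∀ h : A, h * v * h⁻¹ ∈ zpowers v := by
        intro h
        let σ : commutator A →* commutator A :=
          { toFun := fun z => ⟨h * z * h⁻¹, (inferInstance : (commutator A).Normal).conj_mem _ z.2 h⟩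
            map_one' := Subtype.ext (by simp)
            map_mul' := fun z z' => Subtype.ext (by simp only [Subgroup.coe_mul]; group) }
        obtain ⟨m, hm⟩ := MonoidHom.map_cyclic σ
        have hgm : h * v * h⁻¹ = v ^ m := congrArg Subtype.val (hm ⟨v, hv⟩)
        exact hgm ▸ zpow_mem (mem_zpowers v) m
      haveI hnv : (zpowers v).Normal := ⟨fun n hn' h => by
        obtain ⟨i, rfl⟩ := mem_zpowers_iff.mp hn'
        rw [← conj_zpow]
        exact zpow_mem (hn h) i⟩
      have hun : (u : G) ∈ normalizer (zpowers (v : G) : Set G) := by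
        have h := le_normalizer_map (H := zpowers v) A.subtype
          (mem_map_of_mem _ ((normalizer_eq_top (H := zpowers v)).symm ▸ mem_top u))
        rwa [MonoidHom.map_zpowers] at h
      have hc := commute_of_prime_orders hAK hfpf hK u.2 v.2
        (by rw [Subgroup.orderOf_coe, hu]; exact hr) (by rw [Subgroup.orderOf_coe]; exact hvp) hun
      obtain ⟨i, rfl⟩ := mem_zpowers_iff.mp hw
      exact ((show Commute u v from Subtype.ext hc).zpow_left i).eq
    set d := g * u * g⁻¹ * u⁻¹ with hd
    have hdD : d ∈ commutator A := Subgroup.commutator_mem_commutator (mem_top g) (mem_top u)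
    have hdu : Commute d u := (mem_centralizer_iff.mp (hcent (mem_zpowers u)) d hdD)
    have hdr : d ^ r = 1 := by
      have h1 : d * u = g * u * g⁻¹ := by rw [hd]; group
      have h2 : (d * u) ^ r = 1 := by rw [h1, conj_pow, ← hu, pow_orderOf_eq_one]; group
      rwa [hdu.mul_pow, show u ^ r = 1 by rw [← hu]; exact pow_orderOf_eq_one u, mul_one] at h2
    have hd1 : d = 1 := by
      by_contra hne
      refine hrD ?_
      rw [← orderOf_eq_prime hdr hne]
      have := orderOf_dvd_natCard (⟨d, hdD⟩ : commutator A)
      rwa [Subgroup.orderOf_mk] at this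
    rw [hd, mul_inv_eq_one] at hd1
    exact hd1
  have hxy : x * y = y * x := by
    have h := congrArg Subtype.val (hcentral ⟨x, hx⟩ (ho hx hxr) ⟨y, hy⟩)
    exact (mul_inv_eq_iff_eq_mul.1 h).symm
  have hn : zpowers y ≤ normalizer (zpowers x : Set G) :=
    zpowers_le.2 (centralizer_le_normalizer _ (mem_centralizer_iff.2 fun w hw => by
      obtain ⟨i, rfl⟩ := mem_zpowers_iff.mp hw
      exact (show Commute x y from hxy).zpow_left i))
  have hp : IsPGroup r ↥(zpowers y ⊔ zpowers x : Subgroup G) :=
    (IsPGroup.of_card (n := 1) (by rw [Nat.card_zpowers, hyr, pow_one]) : IsPGroup r ↥(zpowers y)).to_sup_of_normal_right'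
      (IsPGroup.of_card (n := 1) (by rw [Nat.card_zpowers, hxr, pow_one])) hn
  exact subgroup_order_prime_unique hAK hfpf hK (sup_le (zpowers_le.2 hy) (zpowers_le.2 hx)) hr hp le_sup_right
    le_sup_left (by rw [Nat.card_zpowers, hxr]) (by rw [Nat.card_zpowers, hyr])

end CfsgLib.KimuraFour
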