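import Cfsg.Agent.Lib.Perm.KimuraFour.SylowTools

/-!
# Odd degree, case A: only the degree fifteen survives
-/

set_option autoImplicit false

namespace CfsgLib.KimuraFour

open MulAction

variable {G : Type*} [Group G] [Finite G] {Ω : Type*} [MulAction G Ω] [Finite Ω] {a b : Ω} {J : G}
  {p : ℕ} {E : Subgroup G}

local notation "Cent" J:max => Subgroup.centralizer (Singleton.singleton J : Set _)

/-- In `ZMod 3` a nineteenth power equals one only for one. -/
theorem pow_nineteen_zmod_three : ∀ x : ZMod 3, x ^ 19 - 1 = 0 → x - 1 = 0 := by decide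

/-- Degree 153 does not occur. -/
theorem Setting.not_153 (S : Setting G Ω a b) (D : InvData G Ω a b J) (hn : Nat.card Ω = 153)
    (hi : fixCard Ω J = 9) : False := by
  classical
  haveI : Fact (Nat.Prime 19) := ⟨by norm_num⟩
  haveI : Fact (Nat.Prime 3) := ⟨Nat.prime_three⟩
  haveI : IsPretransitive G Ω := isPretransitive_of_is_two_pretransitive (h2 := S.two)
  have hG : Nat.card G = 153 * 152 * 12 := by rw [card_eq_pairStab S.two S.ne, hn, S.card_H]
  set U := stabilizer G a with hU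
  have hUc : Nat.card ↥U = 1824 := by
    have h1 := U.card_mul_index
    rw [hU, MulAction.index_stabilizer_of_transitive, hn, hG] at h1
    rw [hU]
    omega
  have hHU : (pairStab a b : Subgroup G) ≤ U := fun h hh => (mem_pairStab.1 hh).1
  have hCJ : ∀ v ∈ (pairStab a b : Subgroup G), orderOf v = 2 → ∀ y : G, y * v = v * y → ¬ orderOf y = 19 := by
    intro v hv hv2 y hy h19
    obtain ⟨h, -, he⟩ := D.conjJ v hv hv2
    have hm : h⁻¹ * y * h ∈ Cent J := Subgroup.mem_centralizer_singleton_iff.2 (by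
      have hJ : J = h⁻¹ * v * h := by rw [← he]; group
      rw [hJ]
      calc h⁻¹ * y * h * (h⁻¹ * v * h) = h⁻¹ * (y * v) * h := by group
        _ = _ := by rw [hy]; group)
    have h1 := Subgroup.orderOf_dvd_natCard _ hm
    rw [S.card_cent_four D, hi, show orderOf (h⁻¹ * y * h) = orderOf y by simpa using orderOf_conj_eq h⁻¹ y,
      h19] at h1
    norm_num at h1
  obtain ⟨P⟩ : Nonempty (Sylow 19 ↥U) := inferInstance
  have hPc : Nat.card ↥(P : Subgroup ↥U) = 19 := by
    rw [P.card_eq_multiplicity, hUc, show 1824 = 19 ^ 1 * 96 by norm_num,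
      Nat.factorization_mul (by norm_num) (by norm_num), Finsupp.add_apply,
      Nat.factorization_eq_zero_of_not_dvd (show ¬ 19 ∣ 96 by norm_num)]
    simp [(Fact.out : (19 : ℕ).Prime).factorization_self]
  obtain ⟨y, hy⟩ : ∃ y : ↥(P : Subgroup ↥U), orderOf y = 19 := exists_prime_orderOf_dvd_card' 19 (by rw [hPc])
  have hy' : orderOf (((y : ↥U) : G)) = 19 := by rw [Subgroup.orderOf_coe, Subgroup.orderOf_coe, hy]
  set Q := Subgroup.zpowers ((y : ↥U) : G) with hQ
  have hQP : (P : Subgroup ↥U) = Subgroup.zpowers (y : ↥U) := by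
    refine (Subgroup.eq_of_le_of_card_ge (Subgroup.zpowers_le.2 y.2) ?_).symm
    rw [hPc, Nat.card_zpowers, Subgroup.orderOf_coe, hy]
  have hQU : Q ≤ U := Subgroup.zpowers_le.2 (y : ↥U).2
  have hnQ : ∀ x : ↥U, x ∈ Subgroup.normalizer ((P : Subgroup ↥U) : Set ↥U) ↔
      (x : G) ∈ Subgroup.normalizer (Q : Set G) := by
    intro x
    have hmem : ∀ z : ↥U, z ∈ (P : Subgroup ↥U) ↔ (z : G) ∈ Q := by
      intro z
      rw [hQP, hQ, Subgroup.mem_zpowers_iff, Subgroup.mem_zpowers_iff]
      constructor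
      · rintro ⟨j, rfl⟩; exact ⟨j, by simp⟩
      · rintro ⟨j, hj⟩; exact ⟨j, Subtype.ext (by simpa using hj)⟩
    simp only [Subgroup.mem_normalizer_iff]
    constructor
    · intro h z
      constructor
      · intro hz; exact (hmem _).1 ((h ⟨z, hQU hz⟩).1 ((hmem _).2 hz))
      · intro hz
        have hzU : z ∈ U := by
          have := mul_mem (mul_mem (inv_mem x.2) (hQU hz)) x.2
          rwa [show (x : G)⁻¹ * ((x : G) * z * (x : G)⁻¹) * x = z by group] at this
        exact (hmem ⟨z, hzU⟩).1 ((h ⟨z, hzU⟩).2 ((hmem _).2 hz))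
    · intro h z
      exact ((hmem z).trans (h (z : G))).trans (hmem (x * z * x⁻¹ : ↥U)).symm
  have hn19 : Nat.card (Sylow 19 ↥U) ∣ 96 ∧ Nat.card (Sylow 19 ↥U) % 19 = 1 := by
    refine ⟨?_, by simpa [Nat.ModEq] using card_sylow_modEq_one 19 ↥U⟩
    have h1 := P.card_dvd_index
    have h2 := (P : Subgroup ↥U).card_mul_index
    rw [hPc, hUc] at h2
    rwa [show (P : Subgroup ↥U).index = 96 by omega] at h1
  have hcases : Nat.card (Sylow 19 ↥U) = 1 ∨ Nat.card (Sylow 19 ↥U) = 96 := by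
    have hle := Nat.le_of_dvd (by norm_num) hn19.1
    have h1 := hn19.2
    have h2 := hn19.1
    interval_cases h : Nat.card (Sylow 19 ↥U) <;> omega
  obtain ⟨t, ht, ht3⟩ := S.exists_three
  rcases hcases with h1 | h96
  · -- the normal case
    have hnorm : ∀ v ∈ (pairStab a b : Subgroup G), v ∈ Subgroup.normalizer (Q : Set G) := by
      intro v hv
      refine (hnQ ⟨v, hHU hv⟩).1 ?_
      haveI := (Nat.card_eq_one_iff_unique.1 h1).1
      haveI := P.normal_of_subsingleton
      rw [Subgroup.normalizer_eq_top]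
      exact Subgroup.mem_top _
    set y' := ((y : ↥U) : G) with hy'd
    have hinv : ∀ v ∈ (pairStab a b : Subgroup G), orderOf v = 2 → v * y' * v⁻¹ = y'⁻¹ := by
      intro v hv hv2
      obtain ⟨k, hk⟩ := Subgroup.mem_zpowers_iff.1
        ((Subgroup.mem_normalizer_iff.1 (hnorm v hv) y').1 (Subgroup.mem_zpowers y'))
      have h2 : y' ^ (k * k) = y' ^ (1 : ℤ) := by
        rw [zpow_mul, hk, conj_zpow, hk, zpow_one]
        calc v * (v * y' * v⁻¹) * v⁻¹ = (v * v) * y' * (v * v)⁻¹ := by group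
          _ = y' := by rw [mul_self_of_orderOf hv2]; group
      have hd : (19 : ℤ) ∣ k * k - 1 := by
        rw [show (19 : ℤ) = ((orderOf y' : ℕ) : ℤ) by rw [hy']; rfl, orderOf_dvd_iff_zpow_eq_one, zpow_sub, h2,
          zpow_one, mul_inv_cancel]
      rw [show k * k - 1 = (k - 1) * (k + 1) by ring] at hd
      rcases (Int.prime_iff_natAbs_prime.2 (by norm_num : (19 : ℤ).natAbs.Prime)).dvd_mul.1 hd with h | h
      · exfalso
        rw [show (19 : ℤ) = ((orderOf y' : ℕ) : ℤ) by rw [hy']; rfl, orderOf_dvd_iff_zpow_eq_one, zpow_sub,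
          zpow_one, mul_inv_eq_one] at h
        refine hCJ v hv hv2 y' ?_ hy'
        rw [h] at hk
        exact (mul_inv_eq_iff_eq_mul.1 hk.symm).symm
      · rw [show (19 : ℤ) = ((orderOf y' : ℕ) : ℤ) by rw [hy']; rfl, orderOf_dvd_iff_zpow_eq_one, zpow_add,
          zpow_one] at h
        rw [← hk]
        exact eq_inv_of_mul_eq_one_left h
    have hv : t * J * t⁻¹ ∈ (pairStab a b : Subgroup G) := mul_mem (mul_mem ht D.memJ) (inv_mem ht)
    have hv2 : orderOf (t * J * t⁻¹) = 2 := (orderOf_conj_eq t J).trans D.ordJ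
    obtain ⟨hc, hsq⟩ := S.inv_mul D.memJ (mul_self_of_orderOf D.ordJ) hv (mul_self_of_orderOf hv2)
    have hne : J * (t * J * t⁻¹) ≠ 1 := fun h => S.three_moves ht ht3 D.memJ D.ordJ (mul_inv_eq_iff_eq_mul.1
      (((eq_inv_of_mul_eq_one_left h).trans (inv_of_orderOf hv2)).symm))
    have hw2 := orderOf_two_of hsq hne
    have h3 := hinv _ (mul_mem D.memJ hv) hw2
    have h4 : J * (t * J * t⁻¹) * y' * (J * (t * J * t⁻¹))⁻¹ = y' := by
      calc J * (t * J * t⁻¹) * y' * (J * (t * J * t⁻¹))⁻¹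
          = J * ((t * J * t⁻¹) * y' * (t * J * t⁻¹)⁻¹) * J⁻¹ := by group
        _ = (J * y' * J⁻¹)⁻¹ := by rw [hinv _ hv hv2]; group
        _ = y' := by rw [hinv J D.memJ D.ordJ, inv_inv]
    rw [h4] at h3
    have h5 : y' * y' = 1 := by nth_rw 2 [h3]; exact mul_inv_cancel y'
    have h6 := orderOf_dvd_of_pow_eq_one (show y' ^ 2 = 1 by rw [pow_two, h5])
    rw [hy'] at h6
    norm_num at h6
  · -- self-normalising Sylow subgroup
    have hself : ∀ x ∈ U, x ∈ Subgroup.normalizer (Q : Set G) → x ∈ Q := by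
      intro x hx hxn
      have hN : Nat.card ↥(Subgroup.normalizer ((P : Subgroup ↥U) : Set ↥U)) = 19 := by
        have h := (Subgroup.normalizer ((P : Subgroup ↥U) : Set ↥U)).card_mul_index
        have hi' : (Subgroup.normalizer ((P : Subgroup ↥U) : Set ↥U)).index = 96 := by
          rw [← h96, Sylow.card_eq_index_normalizer P]; rfl
        rw [hi', hUc] at h
        omega
      have hPN : (P : Subgroup ↥U) = Subgroup.normalizer ((P : Subgroup ↥U) : Set ↥U) :=
        Subgroup.eq_of_le_of_card_ge Subgroup.le_normalizer (by rw [hPc, hN])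
      have h := (hnQ ⟨x, hx⟩).2 hxn
      rw [← hPN, hQP, Subgroup.mem_zpowers_iff] at h
      obtain ⟨j, hj⟩ := h
      exact Subgroup.mem_zpowers_iff.2 ⟨j, by simpa using congrArg Subtype.val hj⟩
    have hQp : IsPGroup 19 ↥Q := IsPGroup.of_card (n := 1) (by rw [hQ, Nat.card_zpowers, hy', pow_one])
    obtain ⟨M, hMU, hMn, hMQ, hMin, hMo⟩ := exists_complement_in (q := 19) (C := U) (Q := Q) hQU hQp
      (fun x hx _ hxn => hself x hx hxn) (fun x hx hxn z hz => by
        obtain ⟨i, rfl⟩ := Subgroup.mem_zpowers_iff.1 (hself x hx hxn)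
        obtain ⟨j, rfl⟩ := Subgroup.mem_zpowers_iff.1 hz
        rw [← zpow_add, ← zpow_add, add_comm])
    have hMc : ¬ 19 ∣ Nat.card ↥M := fun h => by
      obtain ⟨z, hz⟩ := exists_prime_orderOf_dvd_card' 19 h
      exact hMo z z.2 (by rw [Subgroup.orderOf_coe, hz])
    have hQn : Q ≤ Subgroup.normalizer (M : Set G) := by
      intro g hg
      refine Subgroup.mem_normalizer_iff.2 fun x => ⟨hMn g (hQU hg) x, fun h => ?_⟩
      have := hMn g⁻¹ (inv_mem (hQU hg)) _ h
      rwa [show g⁻¹ * (g * x * g⁻¹) * g⁻¹⁻¹ = x by group] at this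
    have hcop : (Nat.card ↥Q).Coprime (Nat.card ↥M) := by
      rw [hQ, Nat.card_zpowers, hy']
      exact (Nat.Prime.coprime_iff_not_dvd (by norm_num)).2 hMc
    obtain ⟨R, hR⟩ := CfsgLib.Core.exists_invariant_sylow hQn hcop
      (Or.inl (by haveI := hQp.isNilpotent; infer_instance)) 3
    have ht3M : 3 ∣ Nat.card ↥M := by
      have htM : t ∈ M := hMin t (hHU ht) (by rw [ht3]; norm_num)
      exact ht3 ▸ Subgroup.orderOf_dvd_natCard M htM
    have hRc : Nat.card ↥((R : Subgroup ↥M).map M.subtype) = 3 := by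
      rw [Nat.card_congr ((R : Subgroup ↥M).equivMapOfInjective _ M.subtype_injective).symm.toEquiv]
      obtain ⟨k, hk⟩ := IsPGroup.iff_card.1 R.isPGroup'
      have h1 : 3 ∣ Nat.card ↥(R : Subgroup ↥M) := R.dvd_card_of_dvd_card ht3M
      have h2 : Nat.card ↥(R : Subgroup ↥M) ∣ 1824 :=
        ((Subgroup.card_subgroup_dvd_card _).trans (Subgroup.card_dvd_of_le hMU)).trans (hUc ▸ dvd_rfl)
      rw [hk] at h1 h2 ⊢
      rcases k with _ | _ | k
      · norm_num at h1
      · norm_num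
      · exfalso
        have := (pow_dvd_pow 3 (show 2 ≤ k + 2 by omega)).trans h2
        norm_num at this
    set R' := (R : Subgroup ↥M).map M.subtype
    obtain ⟨r, hr⟩ : ∃ r : ↥R', orderOf r = 3 := exists_prime_orderOf_dvd_card' 3 (by rw [hRc])
    have hr' : orderOf (r : G) = 3 := by rw [Subgroup.orderOf_coe, hr]
    have hRz : R' = Subgroup.zpowers (r : G) :=
      (Subgroup.eq_of_le_of_card_ge (Subgroup.zpowers_le.2 r.2) (by rw [hRc, Nat.card_zpowers, hr'])).symm
    set y' := ((y : ↥U) : G) with hy'd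
    obtain ⟨k, hk⟩ := Subgroup.mem_zpowers_iff.1 (hRz.le
      ((Subgroup.mem_normalizer_iff.1 (hR (Subgroup.mem_zpowers y')) (r : G)).1 r.2))
    have hcom : Commute y' (r : G) := by
      have hpow : ∀ n : ℕ, y' ^ n * r * (y' ^ n)⁻¹ = (r : G) ^ (k ^ n) := by
        intro n
        induction n with
        | zero => simp
        | succ n ih =>
          calc y' ^ (n + 1) * r * (y' ^ (n + 1))⁻¹ = y' * (y' ^ n * r * (y' ^ n)⁻¹) * y'⁻¹ := by group
            _ = (y' * r * y'⁻¹) ^ (k ^ n) := by rw [ih, conj_zpow]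
            _ = _ := by rw [← hk, ← zpow_mul, pow_succ' k n]
      have h19 := hpow 19
      rw [← hy', pow_orderOf_eq_one, one_mul, inv_one, mul_one, hy'] at h19
      have hd : (3 : ℤ) ∣ k ^ 19 - 1 := by
        have := (orderOf_dvd_iff_zpow_eq_one (x := (r : G)) (i := k ^ 19 - 1)).2
          (by rw [zpow_sub, ← h19, zpow_one, mul_inv_cancel])
        rw [hr'] at this
        exact_mod_cast this
      have hk1 : (3 : ℤ) ∣ k - 1 := by
        have e3 : ∀ x : ℤ, ((x : ZMod 3) = 0 ↔ (3 : ℤ) ∣ x) := fun x => by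
          exact_mod_cast ZMod.intCast_zmod_eq_zero_iff_dvd x 3
        rw [← e3] at hd ⊢
        push_cast at hd ⊢
        generalize (k : ZMod 3) = x at hd ⊢
        exact pow_nineteen_zmod_three x hd
      have hk2 := (orderOf_dvd_iff_zpow_eq_one (x := (r : G)) (i := k - 1)).1
        (by rw [hr']; exact_mod_cast hk1)
      rw [zpow_sub, zpow_one, mul_inv_eq_one] at hk2
      rw [hk2] at hk
      exact (mul_inv_eq_iff_eq_mul.1 hk.symm)
    have hrU : (r : G) ∈ U := hMU (Subgroup.map_subtype_le _ r.2)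
    have hrQ : (r : G) ∈ Q := hself _ hrU (by
      refine Subgroup.mem_normalizer_iff.2 fun z => ⟨fun hz => ?_, fun hz => ?_⟩
      · obtain ⟨j, rfl⟩ := Subgroup.mem_zpowers_iff.1 hz
        rw [(hcom.symm.zpow_right j).eq, mul_inv_cancel_right]
        exact hz
      · obtain ⟨j, hj⟩ := Subgroup.mem_zpowers_iff.1 hz
        have : z = y' ^ j := by
          calc z = (r : G)⁻¹ * ((r : G) * z * (r : G)⁻¹) * r := by group
            _ = (r : G)⁻¹ * (y' ^ j * r) := by rw [← hj, mul_assoc]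
            _ = _ := by rw [← (hcom.symm.zpow_right j).eq, inv_mul_cancel_left]
        exact Subgroup.mem_zpowers_iff.2 ⟨j, this.symm⟩)
    have h := orderOf_dvd_of_mem_zpowers hrQ
    rw [hr', hy'] at h
    norm_num at h

namespace Setting

variable (S : Setting G Ω a b) (D : InvData G Ω a b J) (hA : CaseA a b J) (hE : EData Ω J p E)
  (hodd : Odd (fixCard Ω J))

include S D hA hE hodd

/-- A swapping involution preserving the fixed points and fixing exactly one of them. -/
theorem exists_swap_preserving {t : G} (ht : t ∈ (pairStab a b : Subgroup G)) (ht3 : orderOf t = 3) :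
    ∃ (s : G) (c : Ω), orderOf s = 2 ∧ s • a = b ∧ s ∈ setStab Ω J ∧ J • c = c ∧ s • c = c ∧
      (s * t * s⁻¹ = t ∨ s * t * s⁻¹ = t⁻¹ ∨ ∃ t' ∈ (pairStab a b : Subgroup G), orderOf t' = 3 ∧
        s * t' * s⁻¹ = t'⁻¹) := by
  classical
  have := Fintype.ofFinite Ω
  obtain ⟨s, hs2, hsa, hsJ, hrest⟩ : ∃ s : G, orderOf s = 2 ∧ s • a = b ∧
      (∀ c : Ω, J • c = c → J • s • c = s • c) ∧
      (s * t * s⁻¹ = t ∨ s * t * s⁻¹ = t⁻¹ ∨ ∃ t' ∈ (pairStab a b : Subgroup G), orderOf t' = 3 ∧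
        s * t' * s⁻¹ = t'⁻¹) := by
    by_cases hz : ∃ z : G, CenSwap a b z
    · obtain ⟨z, hz⟩ := hz
      refine ⟨z, hz.1, hz.2.1, fun c hc => ?_, Or.inl ?_⟩
      · rw [← mul_smul, ← hz.2.2 J D.memJ, mul_smul, hc]
      · rw [hz.2.2 t ht, mul_inv_cancel_right]
    · push Not at hz
      obtain ⟨s, t', v, hd⟩ := S.exists_symData hz
      obtain ⟨s', hd', -⟩ := hd.exists_at S D.memJ D.ordJ
      refine ⟨s', hd'.hs, hd'.hsa, fun c hc => ?_, Or.inr (Or.inr ⟨t', hd'.htH, hd'.ht, hd'.inv⟩)⟩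
      rw [← mul_smul, ← mul_inv_eq_iff_eq_mul.1 hd'.fix, mul_smul, hc]
  have hmem : s ∈ setStab Ω J := mem_setStab_of_forall hsJ
  obtain ⟨c, hc, hsc⟩ : ∃ c : Ω, J • c = c ∧ s • c = c := by
    refine Classical.byContradiction fun hcon => ?_
    push Not at hcon
    let σ : Equiv.Perm {c : Ω // J • c = c} :=
      (MulAction.toPerm (α := G) (β := Ω) s).subtypePerm fun c => (hmem c).symm
    haveI : Fact (Nat.Prime 2) := ⟨Nat.prime_two⟩
    have h := Equiv.Perm.card_compl_support_modEq (p := 2) (n := 1) (σ := σ) (Equiv.ext fun c => Subtype.ext (by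
      show ((σ ^ 2 ^ 1) c).1 = c.1
      rw [pow_one, pow_two, Equiv.Perm.mul_apply]
      show s • s • c.1 = c.1
      exact smul_of_mul_self (mul_self_of_orderOf hs2) _))
    rw [show σ.supportᶜ = ∅ by
      ext x
      simp only [Finset.mem_compl, Equiv.Perm.mem_support, Finset.notMem_empty, iff_false, not_not]
      exact fun h => hcon x.1 x.2 (congrArg Subtype.val h), Finset.card_empty, ← Nat.card_eq_fintype_card] at h
    exact (Nat.not_even_iff_odd.2 hodd) (even_iff_two_dvd.2 (Nat.modEq_zero_iff_dvd.1 h.symm))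
  exact ⟨s, c, hs2, hsa, hmem, hc, hsc, hrest⟩

/-- If an element of order three fixes the fixed points of `J`, it has no further fixed points. -/
theorem three_fix_eq (hbound : ¬ p * fixCard Ω J ∣ Nat.card G ∨ (p = 3 ∧ ¬ 9 * fixCard Ω J ∣ Nat.card G))
    {t : G} (ht : t ∈ (pairStab a b : Subgroup G)) (ht3 : orderOf t = 3)
    (htF : ∀ c : Ω, J • c = c → t • c = c) : ∀ c : Ω, t • c = c → J • c = c := by
  classical
  haveI := S.faithful
  have := Fintype.ofFinite Ω
  have htc : t * t * t = 1 := by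
    have := pow_orderOf_eq_one t
    rwa [ht3, pow_succ, pow_two] at this
  have hti : ∀ c : Ω, J • c = c → t⁻¹ • c = c := fun c hc => by rw [inv_smul_eq_iff, htF c hc]
  -- `t` commutes with `E`
  have hte : ∀ e ∈ E, e * t = t * e := by
    intro e he
    rcases eq_or_ne e 1 with rfl | he1
    · simp
    have hw : t⁻¹ * J * t ∈ (pairStab a b : Subgroup G) := mul_mem (mul_mem (inv_mem ht) D.memJ) ht
    have hm : t * e * t⁻¹ ∈ E := by
      refine hE.sat _ (Subgroup.mem_centralizer_singleton_iff.2 ?_) (by rw [conj_pow, hE.pow e he]; group)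
        fun c hc hfc => he1 (hE.free e he c hc ?_)
      · have := S.commute_E D hA hE hw (by
          rw [show t⁻¹ * J * t * (t⁻¹ * J * t) = t⁻¹ * (J * J) * t by group, mul_self_of_orderOf D.ordJ]
          group) he
        calc t * e * t⁻¹ * J = t * (e * (t⁻¹ * J * t)) * t⁻¹ := by group
          _ = t * ((t⁻¹ * J * t) * e) * t⁻¹ := by rw [this]
          _ = _ := by group
      · rw [mul_smul, mul_smul, hti c hc] at hfc
        exact (MulAction.injective t) (hfc.trans (htF c hc).symm)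
    have h : e⁻¹ * (t * e * t⁻¹) = 1 := by
      refine hE.free _ (mul_mem (inv_mem he) hm) a D.smul_a ?_
      rw [mul_smul, mul_smul, mul_smul, hti a D.smul_a, htF _ (smul_mem_fix (hE.le_cent he) D.smul_a),
        inv_smul_smul]
    exact (mul_inv_eq_iff_eq_mul.1 (inv_mul_eq_one.1 h).symm).symm
  obtain ⟨s, c₀, hs2, hsa, hsS, hc₀, hsc₀, hst⟩ := S.exists_swap_preserving D hA hE hodd ht ht3
  have hall : ∀ h ∈ (pairStab a b : Subgroup G), ∀ c : Ω, J • c = c → h • c = c := by
    intro h hh c hc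
    obtain ⟨v, hv, hv2, he⟩ := S.coset_three ht ht3 hh
    have hvc := hA v hv hv2 c hc
    rcases he with rfl | rfl | rfl
    · exact hvc
    · rw [mul_smul, htF c hc, hvc]
    · rw [mul_smul, mul_smul, htF c hc, htF c hc, hvc]
  -- we may replace `t` by an element inverted or centralised by `s`
  obtain ⟨u, huH, hu3, huT, husu⟩ : ∃ u ∈ (pairStab a b : Subgroup G), orderOf u = 3 ∧
      (∃ w ∈ (pairStab a b : Subgroup G), w * t * w⁻¹ = u ∨ w * t * w⁻¹ = u⁻¹) ∧
      (s * u * s⁻¹ = u ∨ s * u * s⁻¹ = u⁻¹) := by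
    rcases hst with h | h | ⟨t', ht', ht3', h⟩
    · exact ⟨t, ht, ht3, ⟨1, one_mem _, Or.inl (by group)⟩, Or.inl h⟩
    · exact ⟨t, ht, ht3, ⟨1, one_mem _, Or.inl (by group)⟩, Or.inr h⟩
    · refine ⟨t', ht', ht3', ?_, Or.inr h⟩
      obtain ⟨w, hw1, hw2, hw3⟩ := S.normalizer_t_two ht ht3 S.ne (mem_pairStab.1 ht).1 (mem_pairStab.1 ht).2
      obtain ⟨φ, hφ, hr⟩ := S.exists_embed
      obtain ⟨t₁, ht₁⟩ := S.exists_preimage ht φ hr
      obtain ⟨t₂, ht₂⟩ := S.exists_preimage ht' φ hr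
      rw [← ht₁, orderOf_injective φ hφ] at ht3
      rw [← ht₂, orderOf_injective φ hφ] at ht3'
      obtain ⟨x, hx⟩ : ∃ x, x * t₁ * x⁻¹ = t₂ ∨ x * t₁ * x⁻¹ = t₂⁻¹ := by
        have key : ∀ t₁ t₂ : ↥(alternatingGroup (Fin 4)), t₁ * t₁ * t₁ = 1 ∧ t₁ ≠ 1 ∧ t₂ * t₂ * t₂ = 1 ∧ t₂ ≠ 1 →
            ∃ x, x * t₁ * x⁻¹ = t₂ ∨ x * t₁ * x⁻¹ = t₂⁻¹ := by decide +kernel
        refine key t₁ t₂ ⟨?_, ?_, ?_, ?_⟩
        · have := pow_orderOf_eq_one t₁; rwa [ht3, pow_succ, pow_two] at this
        · rintro rfl; simp at ht3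
        · have := pow_orderOf_eq_one t₂; rwa [ht3', pow_succ, pow_two] at this
        · rintro rfl; simp at ht3'
      refine ⟨φ x, hr ▸ ⟨x, rfl⟩, ?_⟩
      rw [← ht₁, ← ht₂]
      exact hx.imp (fun e => by rw [← map_inv, ← map_mul, ← map_mul, e])
        fun e => by rw [← map_inv, ← map_mul, ← map_mul, e, map_inv]
  -- the fixed points of `u` coincide with those of `J` iff those of `t` do
  suffices hu : ∀ c : Ω, u • c = c → J • c = c by
    obtain ⟨w, hw, hwtu⟩ := huT
    intro c hc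
    have h1 : u • w • c = w • c := by
      rcases hwtu with h | h
      · rw [← h, smul_eq_iff_conj]; exact hc
      · rw [show u = (w * t * w⁻¹)⁻¹ by rw [h, inv_inv], inv_smul_eq_iff]
        exact ((smul_eq_iff_conj w t c c).2 hc).symm
    have h2 := hu _ h1
    rwa [hall w hw _ (by
      have h3 := hall w⁻¹ (inv_mem hw) _ h2
      rw [inv_smul_smul] at h3
      exact h3 ▸ h2)] at h2
  have huF := hall u huH
  have hue : ∀ e ∈ E, e * u = u * e := by
    intro e he
    obtain ⟨v, hv, hv2, hu'⟩ := S.coset_three ht ht3 huH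
    have h1 : Commute e v := (S.commute_E D hA hE hv hv2 he).symm
    rcases hu' with rfl | rfl | rfl
    · exact h1.eq
    · exact (h1.mul_right (hte e he)).eq
    · exact (h1.mul_right (Commute.mul_right (hte e he) (hte e he))).eq
  -- `s` has one fixed point among those of `u`
  have hs1 : ∀ d : Ω, u • d = d → s • d = d → d = c₀ := by
    intro d hud hsd
    by_contra hne
    obtain ⟨g, hg1, hg2⟩ := exists_smul_pair S.two S.ne hne
    change g • a = d at hg1
    change g • b = c₀ at hg2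
    have hm : ∀ x : G, x • d = d → x • c₀ = c₀ → g⁻¹ * x * g ∈ (pairStab a b : Subgroup G) := by
      intro x h1 h2
      rw [← conj_mem_pairStab_iff g, show g * (g⁻¹ * x * g) * g⁻¹ = x by group, hg1, hg2]
      exact mem_pairStab.2 ⟨h1, h2⟩
    have hS := hm s hsd hsc₀
    have hU := hm u hud (huF c₀ hc₀)
    have hU3 : orderOf (g⁻¹ * u * g) = 3 := by simpa using (orderOf_conj_eq g⁻¹ u).trans hu3
    have hS2 : orderOf (g⁻¹ * s * g) = 2 := by simpa using (orderOf_conj_eq g⁻¹ s).trans hs2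
    rcases husu with h | h
    · refine S.three_moves hU hU3 hS hS2 ?_
      have h' : s * u = u * s := mul_inv_eq_iff_eq_mul.1 h
      calc g⁻¹ * u * g * (g⁻¹ * s * g) = g⁻¹ * (u * s) * g := by group
        _ = _ := by rw [← h']; group
    · set S' := g⁻¹ * s * g
      set U' := g⁻¹ * u * g
      have hinv : S' * U' * S'⁻¹ = U'⁻¹ := by
        calc S' * U' * S'⁻¹ = g⁻¹ * (s * u * s⁻¹) * g := by simp only [S', U']; group
          _ = _ := by rw [h]; simp only [U']; group
      have hm : S' * (U' * S' * U'⁻¹) = U' ^ (-2 : ℤ) := by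
        calc S' * (U' * S' * U'⁻¹) = (S' * U' * S'⁻¹) * (S' * S') * U'⁻¹ := by group
          _ = _ := by rw [hinv, mul_self_of_orderOf hS2]; group
      have hw : U' * S' * U'⁻¹ ∈ (pairStab a b : Subgroup G) := mul_mem (mul_mem hU hS) (inv_mem hU)
      obtain ⟨-, hsq⟩ := S.inv_mul hS (mul_self_of_orderOf hS2) hw
        (mul_self_of_orderOf ((orderOf_conj_eq U' S').trans hS2))
      rw [hm] at hsq
      have : U' ^ (-4 : ℤ) = 1 := by rw [← hsq, ← zpow_add]; norm_num
      rw [← orderOf_dvd_iff_zpow_eq_one, hU3] at this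
      norm_num at this
  -- `s` inverts `E`
  have hsi := inv_of_orderOf hs2
  have hss := mul_self_of_orderOf hs2
  have hsn : ∀ e ∈ E, s * e * s⁻¹ ∈ E := by
    intro e he
    rcases eq_or_ne e 1 with rfl | he1
    · simp [one_mem]
    refine hE.sat _ (Subgroup.mem_centralizer_singleton_iff.2 ?_) (by rw [conj_pow, hE.pow e he]; group) ?_
    · have hw : s⁻¹ * J * s ∈ (pairStab a b : Subgroup G) := by
        have := S.conj_mem_of_swap hsa (Setting.swap_back hs2 hsa) D.memJ
        rw [hsi] at this ⊢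
        exact this
      have := S.commute_E D hA hE hw (by
        rw [show s⁻¹ * J * s * (s⁻¹ * J * s) = s⁻¹ * (J * J) * s by group, mul_self_of_orderOf D.ordJ]; group) he
      calc s * e * s⁻¹ * J = s * (e * (s⁻¹ * J * s)) * s⁻¹ := by group
        _ = s * ((s⁻¹ * J * s) * e) * s⁻¹ := by rw [this]
        _ = _ := by group
    · intro c hc h
      rw [mul_smul, mul_smul] at h
      exact he1 (hE.free e he _ ((inv_mem hsS : s⁻¹ ∈ setStab Ω J) c |>.1 hc) ((MulAction.injective s)
        (show s • (e • s⁻¹ • c) = s • s⁻¹ • c by rw [h, smul_inv_smul])))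
  have hinvE : ∀ e ∈ E, s * e * s⁻¹ = e⁻¹ := by
    intro e he
    have hf := hsn e he
    set f := s * e * s⁻¹ with hfdef
    have hback : s * f * s⁻¹ = e := by
      calc s * f * s⁻¹ = (s * s) * e * (s * s)⁻¹ := by rw [hfdef]; group
        _ = e := by rw [hss]; group
    have h1 : s * (e * f) * s⁻¹ = e * f := by
      calc s * (e * f) * s⁻¹ = (s * e * s⁻¹) * (s * f * s⁻¹) := by group
        _ = f * e := by rw [hback]
        _ = _ := hE.comm f hf e he
    have hef := mul_mem he hf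
    have hu_ef : u • (e * f) • c₀ = (e * f) • c₀ := by rw [← mul_smul, ← hue _ hef, mul_smul, huF c₀ hc₀]
    have hs_ef : s • (e * f) • c₀ = (e * f) • c₀ := by
      rw [← mul_smul, mul_inv_eq_iff_eq_mul.1 h1, mul_smul, hsc₀]
    exact eq_inv_of_mul_eq_one_right (hE.free _ hef c₀ hc₀ (hs1 _ hu_ef hs_ef))
  -- `E` is semiregular on the fixed points of `u`
  have hfree : ∀ e ∈ E, e ≠ 1 → ∀ c : Ω, u • c = c → e • c ≠ c := by
    intro e he he1 d hud hed
    have hus : u • s • d = s • d := by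
      rcases husu with h | h
      · rw [← mul_smul, ← mul_inv_eq_iff_eq_mul.1 h, mul_smul, hud]
      · have h' : u * s = s * u⁻¹ := by
          calc u * s = (s * u * s⁻¹)⁻¹ * s := by rw [h, inv_inv]
            _ = _ := by group
        rw [← mul_smul, h', mul_smul, show u⁻¹ • d = d by rw [inv_smul_eq_iff, hud]]
    by_cases hsd : s • d = d
    · exact he1 (hE.free e he d ((hs1 d hud hsd) ▸ hc₀) hed)
    have hese : e • s • d = s • d := by
      have h := hinvE _ (inv_mem he)
      rw [inv_inv] at h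
      rw [← h, mul_smul, mul_smul, inv_smul_smul, show e⁻¹ • d = d by rw [inv_smul_eq_iff, hed]]
    obtain ⟨g, hg1, hg2⟩ := exists_smul_pair S.two S.ne (Ne.symm hsd)
    change g • a = d at hg1
    change g • b = s • d at hg2
    have hm : ∀ x : G, x • d = d → x • s • d = s • d → g⁻¹ * x * g ∈ (pairStab a b : Subgroup G) := by
      intro x h1 h2
      rw [← conj_mem_pairStab_iff g, show g * (g⁻¹ * x * g) * g⁻¹ = x by group, hg1, hg2]
      exact mem_pairStab.2 ⟨h1, h2⟩
    have hU := hm u hud hus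
    have hEm := hm e hed hese
    have hU3 : orderOf (g⁻¹ * u * g) = 3 := by simpa using (orderOf_conj_eq g⁻¹ u).trans hu3
    obtain ⟨j, hj⟩ := Subgroup.mem_zpowers_iff.1 (S.three_cent hU hU3 hEm (by
      calc g⁻¹ * e * g * (g⁻¹ * u * g) = g⁻¹ * (e * u) * g := by group
        _ = _ := by rw [hue e he]; group))
    have hej : e = u ^ j := by
      have h1 := congrArg (fun x => g * x * g⁻¹) hj
      calc e = g * (g⁻¹ * e * g) * g⁻¹ := by group
        _ = g * ((g⁻¹ * u * g) ^ j) * g⁻¹ := h1.symm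
        _ = (g * (g⁻¹ * u * g) * g⁻¹) ^ j := (conj_zpow).symm
        _ = _ := by congr 1; group
    refine he1 (hE.free e he a D.smul_a ?_)
    rw [hej]
    exact (mem_pairStab.1 (zpow_mem huH j)).1
  obtain ⟨q, m, hq, hm, hdvd, hqp⟩ := S.exists_pow_fixCard_three huH hu3
  have hcardE := hE.card_eq D.smul_a
  -- `q = p`
  obtain ⟨e, he, he1⟩ : ∃ e ∈ E, e ≠ 1 := by
    obtain ⟨e, he, hea⟩ := hE.trans a b D.smul_a D.smul_b
    exact ⟨e, he, fun h => S.ne (by rw [← hea, h, one_smul])⟩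
  obtain rfl : q = p := hqp p e hE.prime (hE.pow e he) (hue e he) (fun c hc => hfree e he he1 c hc)
  haveI : Fact (Nat.Prime q) := ⟨hq⟩
  obtain ⟨k, hk⟩ := IsPGroup.iff_card.1 hE.isPGroup
  rw [hcardE] at hk
  have hle : fixCard Ω J ≤ fixCard Ω u :=
    Nat.card_le_card_of_injective (fun c : {c : Ω // J • c = c} => (⟨c.1, huF c.1 c.2⟩ : {c : Ω // u • c = c}))
      fun c d h => Subtype.ext (congrArg (fun x => x.1) h :)
  have heq : fixCard Ω u = fixCard Ω J := by
    by_contra hne
    have hlt : k < m := by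
      have : q ^ k < q ^ m := by rw [← hk, ← hm]; omega
      exact (Nat.pow_lt_pow_iff_right hq.one_lt).1 this
    rw [hm] at hdvd
    rcases hbound with hb | ⟨h3, hb⟩
    · refine hb (dvd_trans ?_ ((dvd_mul_left _ 3).trans hdvd))
      rw [hk, ← pow_succ']; exact pow_dvd_pow q hlt
    · subst h3
      refine hb (dvd_trans ?_ hdvd)
      rw [hk, show (9 : ℕ) * 3 ^ k = 3 * 3 ^ (k + 1) by ring]
      exact mul_dvd_mul_left 3 (pow_dvd_pow 3 hlt)
  intro c hc
  have hbij : Function.Bijective (fun c : {c : Ω // J • c = c} => (⟨c.1, huF c.1 c.2⟩ : {c : Ω // u • c = c})) :=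
    (Nat.bijective_iff_injective_and_card _).2 ⟨fun c d h => Subtype.ext (congrArg (fun x => x.1) h :), heq.symm⟩
  obtain ⟨⟨d, hd⟩, he'⟩ := hbij.2 ⟨c, hc⟩
  have : d = c := congrArg Subtype.val he'
  exact this ▸ hd

/-- Elements of `setStab` normalise `E`. -/
theorem setStab_normalizes : setStab Ω J ≤ Subgroup.normalizer (E : Set G) := by
  have key : ∀ g ∈ setStab Ω J, ∀ e ∈ E, g * e * g⁻¹ ∈ E := by
    intro g hg e he
    rcases eq_or_ne e 1 with rfl | he1
    · simp [one_mem]
    obtain ⟨x, hx, hxa, hxb⟩ := D.exists_centralizing D.smul_a D.smul_b ((hg a).1 D.smul_a) ((hg b).1 D.smul_b)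
      D.ne (fun h => D.ne ((MulAction.injective g) h))
    have hh : x⁻¹ * g ∈ (pairStab a b : Subgroup G) := mem_pairStab.2
      ⟨by rw [mul_smul, ← hxa, inv_smul_smul], by rw [mul_smul, ← hxb, inv_smul_smul]⟩
    set h := x⁻¹ * g with hdef
    have hgh : g = x * h := by rw [hdef]; group
    have hhS : h ∈ setStab Ω J := mul_mem (inv_mem (cent_le_setStab J hx)) hg
    have hmem : h * e * h⁻¹ ∈ E := by
      refine hE.sat _ (Subgroup.mem_centralizer_singleton_iff.2 ?_) (by rw [conj_pow, hE.pow e he]; group) ?_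
      · have hw : h⁻¹ * J * h ∈ (pairStab a b : Subgroup G) := mul_mem (mul_mem (inv_mem hh) D.memJ) hh
        calc h * e * h⁻¹ * J = h * (e * (h⁻¹ * J * h)) * h⁻¹ := by group
          _ = h * ((h⁻¹ * J * h) * e) * h⁻¹ := by
            rw [S.commute_E D hA hE hw (by
              rw [show h⁻¹ * J * h * (h⁻¹ * J * h) = h⁻¹ * (J * J) * h by group, mul_self_of_orderOf D.ordJ]
              group) he]
          _ = _ := by group
      · intro c hc h'
        rw [mul_smul, mul_smul] at h'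
        exact he1 (hE.free e he _ ((inv_mem hhS : h⁻¹ ∈ setStab Ω J) c |>.1 hc) ((MulAction.injective h)
          (show h • (e • h⁻¹ • c) = h • h⁻¹ • c by rw [h', smul_inv_smul])))
    rw [hgh, show x * h * e * (x * h)⁻¹ = x * (h * e * h⁻¹) * x⁻¹ by group]
    exact (Subgroup.mem_normalizer_iff.1 (hE.norm hx) _).1 hmem
  intro g hg
  refine Subgroup.mem_normalizer_iff.2 fun e => ⟨key g hg e, fun h => ?_⟩
  have := key g⁻¹ (inv_mem hg) _ h
  rwa [show g⁻¹ * (g * e * g⁻¹) * g⁻¹⁻¹ = e by group] at this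

end Setting

end CfsgLib.KimuraFour
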