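import Cfsg.Agent.Lib.Perm.KimuraFour.Translation
import Cfsg.Agent.Lib.Perm.KimuraFour.Complement

/-!
# The centraliser of an odd translation group
-/

set_option autoImplicit false

namespace CfsgLib.KimuraFour

open MulAction

variable {G : Type*} [Group G] [Finite G] {Ω : Type*} [MulAction G Ω] [Finite Ω]

local notation "Cent" J:max => Subgroup.centralizer (Singleton.singleton J : Set _)

namespace EData

variable {J : G} {p : ℕ} {E : Subgroup G}

theorem mem_centralizer (hE : EData Ω J p E) {e : G} (he : e ∈ E) : e ∈ Subgroup.centralizer (E : Set G) :=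
  Subgroup.mem_centralizer_iff.2 fun y hy => hE.comm y hy e he

theorem card_eq (hE : EData Ω J p E) {a : Ω} (ha : J • a = a) : Nat.card ↥E = fixCard Ω J := by
  refine Nat.card_congr (Equiv.ofBijective (fun e : E =>
    (⟨(e : G) • a, smul_mem_fix (hE.le_cent e.2) ha⟩ : {c : Ω // J • c = c})) ⟨fun x y h => ?_, fun d => ?_⟩)
  · have h' : (x : G) • a = (y : G) • a := congrArg Subtype.val h
    refine Subtype.ext (inv_mul_eq_one.1 (hE.free _ (mul_mem (inv_mem x.2) y.2) a ha ?_))
    rw [mul_smul, ← h', inv_smul_smul]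
  · obtain ⟨e, he, hea⟩ := hE.trans a d.1 ha d.2
    exact ⟨⟨e, he⟩, Subtype.ext hea⟩

theorem isPGroup (hE : EData Ω J p E) : IsPGroup p ↥E :=
  fun x => ⟨1, Subtype.ext (by simpa using hE.pow x x.2)⟩

theorem odd_orderOf (hE : EData Ω J p E) {e : G} (he : e ∈ E) : Odd (orderOf e) := by
  rcases (Nat.dvd_prime hE.prime).1 (orderOf_dvd_of_pow_eq_one (hE.pow e he)) with h | h <;> rw [h]
  · exact odd_one
  · exact hE.odd

theorem odd_card (hE : EData Ω J p E) : Odd (Nat.card ↥E) := by
  haveI := Fact.mk hE.prime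
  obtain ⟨k, hk⟩ := IsPGroup.iff_card.1 hE.isPGroup
  rw [hk]; exact hE.odd.pow

/-- An element centralising `E` which maps one fixed point of `J` to another agrees with an element of `E`. -/
theorem exists_mul_fix (hE : EData Ω J p E) {x : G} (hx : x ∈ Subgroup.centralizer (E : Set G)) {a : Ω}
    (ha : J • a = a) (hxa : J • x • a = x • a) :
    ∃ e ∈ E, ∀ c : Ω, J • c = c → (e⁻¹ * x) • c = c := by
  obtain ⟨e, he, hea⟩ := hE.trans a (x • a) ha hxa
  refine ⟨e, he, fun c hc => ?_⟩
  obtain ⟨f, hf, rfl⟩ := hE.trans a c ha hc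
  have h1 : f * (e⁻¹ * x) = e⁻¹ * x * f := by
    rw [← mul_assoc, ← hE.comm e⁻¹ (inv_mem he) f hf, mul_assoc, Subgroup.mem_centralizer_iff.1 hx f hf,
      mul_assoc]
  rw [← mul_smul, ← h1, mul_smul, mul_smul, ← hea, inv_smul_smul]

/-- An element of `Cent J` fixing two fixed points corresponding under `e` commutes with `e`. -/
theorem commute_of_map (hE : EData Ω J p E) {v e : G} (hv : v ∈ Cent J) (he : e ∈ E) {a : Ω} (ha : J • a = a)
    (hva : v • a = a) (hvea : v • e • a = e • a) : v * e = e * v := by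
  have hm : v * e * v⁻¹ ∈ E := (Subgroup.mem_normalizer_iff.1 (hE.norm hv) e).1 he
  have h : e⁻¹ * (v * e * v⁻¹) = 1 := by
    refine hE.free _ (mul_mem (inv_mem he) hm) a ha ?_
    rw [mul_smul, mul_smul, mul_smul, show v⁻¹ • a = a by rw [inv_smul_eq_iff, hva], hvea, inv_smul_smul]
  exact mul_inv_eq_iff_eq_mul.1 (inv_mul_eq_one.1 h).symm

theorem centralizer_conj (_hE : EData Ω J p E) {u x : G} (hu : u ∈ Subgroup.normalizer (E : Set G))
    (hx : x ∈ Subgroup.centralizer (E : Set G)) : u * x * u⁻¹ ∈ Subgroup.centralizer (E : Set G) := by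
  refine Subgroup.mem_centralizer_iff.2 fun y hy => ?_
  have hy' : u⁻¹ * y * u ∈ E := by
    have := (Subgroup.mem_normalizer_iff.1 (inv_mem hu) y).1 hy
    rwa [inv_inv] at this
  calc y * (u * x * u⁻¹) = u * ((u⁻¹ * y * u) * x) * u⁻¹ := by group
    _ = u * (x * (u⁻¹ * y * u)) * u⁻¹ := by rw [Subgroup.mem_centralizer_iff.1 hx _ hy']
    _ = _ := by group

end EData

/-- A nontrivial element `e` of odd prime order `p` on `p ^ k` points and an element centralising it: two
fixed points. -/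
theorem InvData.eq_one_of_commute {a b : Ω} {J : G} (D : InvData G Ω a b J) (hs : SqStab a b J)
    {p k : ℕ} [Fact p.Prime] (hp : Odd p) (hi : fixCard Ω J = p ^ k) {x w e : G} (hw : IsConj J w)
    (hxw : x * w = w * x) (hew : e * w = w * e) (hxe : x * e = e * x) {r : ℕ} [Fact r.Prime] (hr2 : r ≠ 2)
    (hrp : r ≠ p) (hx : ∃ m, x ^ r ^ m = 1) (hep : e ^ p = 1) (he : e ≠ 1) : x = 1 := by
  classical
  have := Fintype.ofFinite Ω
  obtain ⟨m, hm⟩ := hx
  have hwF := D.fixCard_of_conj hw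
  rw [hi] at hwF
  -- the elements act on the fixed points of `w`
  let σ : Equiv.Perm {c : Ω // w • c = c} := (MulAction.toPerm x : Equiv.Perm Ω).subtypePerm fun c => by
    show w • x • c = x • c ↔ w • c = c
    rw [← mul_smul, ← hxw, mul_smul]; exact (MulAction.injective x).eq_iff
  have hσ : ∀ n : ℕ, ∀ c, ((σ ^ n) c : {c : Ω // w • c = c}).1 = (x ^ n) • c.1 := by
    intro n
    induction n with
    | zero => simp
    | succ n ih => intro c; rw [pow_succ', Equiv.Perm.mul_apply, pow_succ', mul_smul, ← ih c]; rfl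
  obtain ⟨d, hd, hxd⟩ : ∃ d, w • d = d ∧ x • d = d := by
    by_contra hcon
    push Not at hcon
    have h := Equiv.Perm.card_compl_support_modEq (p := r) (n := m) (σ := σ) (Equiv.ext fun c => Subtype.ext (by
      rw [hσ, hm, one_smul]; rfl))
    rw [show σ.supportᶜ = ∅ by
      ext c
      simp only [Finset.mem_compl, Equiv.Perm.mem_support, Finset.notMem_empty, iff_false, not_not]
      exact fun h => hcon c.1 c.2 (congrArg Subtype.val h), Finset.card_empty, ← Nat.card_eq_fintype_card] at h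
    have h' : (r : ℕ) ∣ Nat.card {c : Ω // w • c = c} := (Nat.modEq_zero_iff_dvd.1 h.symm)
    rw [show Nat.card {c : Ω // w • c = c} = p ^ k from hwF] at h'
    exact hrp ((Nat.prime_dvd_prime_iff_eq Fact.out Fact.out).1 ((Fact.out : r.Prime).dvd_of_dvd_pow h'))
  have hord : Odd (orderOf x) := by
    obtain ⟨j, -, hj⟩ := (Nat.dvd_prime_pow (Fact.out : r.Prime)).1 (orderOf_dvd_of_pow_eq_one hm)
    rw [hj]
    exact ((Fact.out : r.Prime).odd_of_ne_two hr2).pow
  by_cases hed : e • d = d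
  · -- then `e` fixes a second point
    exfalso
    let τ : Equiv.Perm {c : Ω // w • c = c} := (MulAction.toPerm e : Equiv.Perm Ω).subtypePerm fun c => by
      show w • e • c = e • c ↔ w • c = c
      rw [← mul_smul, ← hew, mul_smul]; exact (MulAction.injective e).eq_iff
    have hτ : ∀ n : ℕ, ∀ c, ((τ ^ n) c : {c : Ω // w • c = c}).1 = (e ^ n) • c.1 := by
      intro n
      induction n with
      | zero => simp
      | succ n ih => intro c; rw [pow_succ', Equiv.Perm.mul_apply, pow_succ', mul_smul, ← ih c]; rfl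
    have h := Equiv.Perm.card_compl_support_modEq (p := p) (n := 1) (σ := τ) (Equiv.ext fun c => Subtype.ext (by
      rw [hτ, pow_one, hep, one_smul]; rfl))
    have h0 : p ∣ Fintype.card {c : Ω // w • c = c} := by
      rw [← Nat.card_eq_fintype_card, show Nat.card {c : Ω // w • c = c} = p ^ k from hwF]
      refine dvd_pow_self p ?_
      rintro rfl
      have := D.two_le_fixCard
      rw [hi] at this
      simp at this
    have hpd : p ∣ τ.supportᶜ.card := (Nat.modEq_zero_iff_dvd.1 (h.trans (Nat.modEq_zero_iff_dvd.2 h0)))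
    have hmem : (⟨d, hd⟩ : {c : Ω // w • c = c}) ∈ τ.supportᶜ := by
      simp only [Finset.mem_compl, Equiv.Perm.mem_support, not_not]
      exact Subtype.ext hed
    have h1 : 1 < τ.supportᶜ.card := lt_of_lt_of_le (Fact.out : p.Prime).one_lt
      (Nat.le_of_dvd (Finset.card_pos.2 ⟨_, hmem⟩) hpd)
    obtain ⟨d', hd', hne⟩ := Finset.exists_mem_ne h1 ⟨d, hd⟩
    simp only [Finset.mem_compl, Equiv.Perm.mem_support, not_not] at hd'
    refine he (D.eq_one_of_fix_two hs hw hew ?_ (fun h' => hne (Subtype.ext h')) d'.2 hd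
      (congrArg Subtype.val hd') hed)
    rcases (Nat.dvd_prime (Fact.out : p.Prime)).1 (orderOf_dvd_of_pow_eq_one hep) with h' | h' <;> rw [h']
    · exact odd_one
    · exact hp
  · refine D.eq_one_of_fix_two hs hw hxw hord hed ?_ hd ?_ hxd
    · rw [← mul_smul, ← hew, mul_smul, hd]
    · rw [← mul_smul, hxe, mul_smul, hxd]

/-- When the pointwise stabiliser of the fixed points meets `Cent J` in `⟨J⟩`: the involutions centralising `E`. -/
theorem involution_centralizing {a b : Ω} {J : G} (D : InvData G Ω a b J)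
    (hker : ∀ x, x * J = J * x → (∀ c : Ω, J • c = c → x • c = c) → x = 1 ∨ x = J)
    {p : ℕ} {E : Subgroup G} (hE : EData Ω J p E) {v : G} (hv : orderOf v = 2) (hvJ : v ≠ J)
    (hvc : v * J = J * v) (hvn : v ∈ Subgroup.normalizer (E : Set G))
    (hR : ∀ w, w = v ∨ w = v * J → ∀ x ∈ Subgroup.centralizer (E : Set G), x * w = w * x →
      J * x * J⁻¹ = x⁻¹ → ∀ r : ℕ, r.Prime → r ≠ 2 → r ≠ p → (∃ m, x ^ r ^ m = 1) → x = 1)
    (hb : ¬ p * Nat.card ↥E ∣ Nat.card G ∨
      (¬ p * p * Nat.card ↥E ∣ Nat.card G ∧ ∃ s ∈ Cent J, s * v * s⁻¹ = v * J)) :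
    ∀ x ∈ Subgroup.centralizer (E : Set G), x * x = 1 → x = 1 ∨ x = J := by
  classical
  haveI : Fact (Nat.Prime 2) := ⟨Nat.prime_two⟩
  haveI := Fact.mk hE.prime
  set C := Subgroup.centralizer (E : Set G)
  have hJ2 := mul_self_of_orderOf D.ordJ
  have hJi := inv_of_orderOf D.ordJ
  have hJC : J ∈ C := Subgroup.mem_centralizer_iff.2 fun e he =>
    Subgroup.mem_centralizer_singleton_iff.1 (hE.le_cent he)
  have hJn : J ∈ Subgroup.normalizer (E : Set G) := hE.norm (Subgroup.mem_centralizer_singleton_iff.2 rfl)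
  -- the centraliser of `J` inside `C`
  have hCJ : ∀ x ∈ C, x * J = J * x → ∃ e ∈ E, x = e ∨ x = e * J := by
    intro x hx hxJ
    obtain ⟨e, he, hfix⟩ := hE.exists_mul_fix hx D.smul_a
      (smul_mem_fix (Subgroup.mem_centralizer_singleton_iff.2 hxJ) D.smul_a)
    refine ⟨e, he, ?_⟩
    have hc : e⁻¹ * x * J = J * (e⁻¹ * x) := by
      rw [mul_assoc, hxJ, ← mul_assoc, Subgroup.mem_centralizer_singleton_iff.1 (inv_mem (hE.le_cent he)),
        mul_assoc]
    rcases hker _ hc hfix with h | h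
    · exact Or.inl (inv_mul_eq_one.1 h).symm
    · exact Or.inr (by rw [← h]; group)
  set Q : Subgroup G := Subgroup.zpowers J with hQ
  have hQm : ∀ y ∈ Q, y = 1 ∨ y = J := by
    intro y hy
    rw [hQ, ← mem_powers_iff_mem_zpowers] at hy
    obtain ⟨k, rfl⟩ := hy
    rcases Nat.even_or_odd k with ⟨m, rfl⟩ | ⟨m, rfl⟩
    · left; show J ^ (m + m) = 1; rw [← two_mul, pow_mul, pow_two, hJ2, one_pow]
    · right; show J ^ (2 * m + 1) = J; rw [pow_succ, pow_mul, pow_two, hJ2, one_pow, one_mul]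
  have hQp : IsPGroup 2 ↥Q := fun y => ⟨1, Subtype.ext (by
    rcases hQm y.1 y.2 with h | h <;> simp [h, pow_two, hJ2])⟩
  have hnorm : ∀ x, x ∈ Subgroup.normalizer (Q : Set G) → x * J = J * x := by
    intro x hx
    have h1 := (Subgroup.mem_normalizer_iff.1 hx J).1 (Subgroup.mem_zpowers J)
    rcases hQm _ h1 with h | h
    · exfalso
      have : J = 1 := conj_eq_one_iff.1 h
      simpa [this] using D.ordJ
    · exact mul_inv_eq_iff_eq_mul.1 h
  obtain ⟨L, hLC, hLn, -, hLin, hLodd⟩ := exists_complement_in (q := 2) (C := C) (Q := Q)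
    (Subgroup.zpowers_le.2 hJC) hQp (fun x hx ⟨k, hk⟩ hxn => by
      obtain ⟨e, he, hxe⟩ := hCJ x hx (hnorm x hxn)
      have heJ : e * J = J * e := Subgroup.mem_centralizer_singleton_iff.1 (hE.le_cent he)
      have he1 : e ^ 2 ^ (k + 1) = 1 := by
        rcases hxe with rfl | rfl
        · rw [pow_succ, pow_mul, hk, one_pow]
        · rw [Commute.mul_pow heJ] at hk
          calc e ^ 2 ^ (k + 1) = (e ^ 2 ^ k * J ^ 2 ^ k) ^ 2 * (J ^ 2) ^ (2 ^ k) := by
                rw [Commute.mul_pow (Commute.pow_pow heJ _ _), ← pow_mul, ← pow_mul, ← pow_mul, ← pow_succ,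
                  mul_assoc, ← pow_add, mul_comm 2 (2 ^ k), ← pow_succ, ← two_mul, pow_mul J 2, pow_two, hJ2,
                  one_pow, mul_one]
            _ = 1 := by rw [hk, pow_two J, hJ2, one_pow, one_pow, one_mul]
      have : e = 1 := by
        rw [← orderOf_eq_one_iff]
        obtain ⟨j, -, hj⟩ := (Nat.dvd_prime_pow Nat.prime_two).1 (orderOf_dvd_of_pow_eq_one he1)
        have ho := hE.odd_orderOf he
        rcases Nat.eq_zero_or_pos j with rfl | hj0
        · simpa using hj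
        · rw [hj] at ho; exact absurd ho (Nat.not_odd_iff_even.2 (Nat.even_pow.2 ⟨even_two, hj0.ne'⟩))
      rcases hxe with rfl | rfl <;> simp [this, hQ, Subgroup.mem_zpowers])
    (fun x _ hxn y hy => by
      rcases hQm y hy with rfl | rfl
      · simp
      · exact hnorm x hxn)
  have hLo : ∀ x ∈ L, Odd (orderOf x) := fun x hx => Nat.not_even_iff_odd.1 fun h => hLodd x hx h.two_dvd
  have hL : Odd (Nat.card ↥L) := by
    by_contra h
    obtain ⟨x, hx⟩ := exists_prime_orderOf_dvd_card' 2 ((Nat.not_odd_iff_even.1 h).two_dvd)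
    exact hLodd x x.2 (by rw [Subgroup.orderOf_coe, hx])
  have hEL : ∀ e ∈ E, e ∈ L := fun e he => hLin e (hE.mem_centralizer he) fun h =>
    (Nat.not_even_iff_odd.2 (hE.odd_orderOf he)) (even_iff_two_dvd.2 h)
  have hconjL : ∀ u ∈ Subgroup.normalizer (E : Set G), ∀ x ∈ L, u * x * u⁻¹ ∈ L := fun u hu x hx =>
    hLin _ (hE.centralizer_conj hu (hLC hx)) (by rw [orderOf_conj_eq]; exact hLodd x hx)
  have hnL : ∀ u ∈ Subgroup.normalizer (E : Set G), u ∈ Subgroup.normalizer (L : Set G) := fun u hu =>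
    Subgroup.mem_normalizer_iff.2 fun x => ⟨hconjL u hu x, fun h => by
      have := hconjL u⁻¹ (inv_mem hu) _ h
      rwa [show u⁻¹ * (u * x * u⁻¹) * u⁻¹⁻¹ = x by group] at this⟩
  have hLJ : ∀ x ∈ L, x * J = J * x → x ∈ E := by
    intro x hx hxJ
    obtain ⟨e, he, rfl | rfl⟩ := hCJ x (hLC hx) hxJ
    · exact he
    · exfalso
      have h1 : e⁻¹ * (e * J) ∈ L := mul_mem (inv_mem (hEL e he)) hx
      rw [inv_mul_cancel_left] at h1
      exact hLodd J h1 (by rw [D.ordJ])
  have hv2 := mul_self_of_orderOf hv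
  have hvJn : v * J ∈ Subgroup.normalizer (E : Set G) := mul_mem hvn hJn
  have hwJ : ∀ w, w = v ∨ w = v * J → w * J = J * w := by
    rintro w (rfl | rfl)
    · exact hvc
    · rw [mul_assoc, hJ2, ← mul_assoc, ← hvc, mul_assoc, hJ2]
  -- `L` is a `p`-group
  have hLp : ∀ r : ℕ, r.Prime → r ≠ p → ¬ r ∣ Nat.card ↥L := by
    intro r hr hrp hd
    haveI := Fact.mk hr
    have hr2 : r ≠ 2 := fun e => (Nat.not_even_iff_odd.2 hL) (even_iff_two_dvd.2 (e ▸ hd))
    let A : Subgroup G := Subgroup.closure {J, v}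
    have hAn : A ≤ Subgroup.normalizer (L : Set G) := by
      rw [Subgroup.closure_le]
      rintro y (rfl | rfl)
      exacts [hnL _ hJn, hnL _ hvn]
    have hA : IsPGroup 2 ↥A := by
      intro y
      refine ⟨1, ?_⟩
      haveI : IsMulCommutative ↥A := Subgroup.isMulCommutative_closure (by
        rintro x (rfl | rfl) z (rfl | rfl) <;> first | rfl | exact hvc.symm | exact hvc)
      refine Subgroup.closure_induction (p := fun g hg => (⟨g, hg⟩ : A) ^ 2 ^ 1 = 1) ?_ ?_ ?_ ?_ y.2
      · rintro x (rfl | rfl) <;> exact Subtype.ext (by simp [pow_two, hJ2, hv2])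
      · exact Subtype.ext (by simp)
      · intro x z hx hz h1 h2
        rw [show (⟨x * z, mul_mem hx hz⟩ : A) = ⟨x, hx⟩ * ⟨z, hz⟩ from rfl,
          Commute.mul_pow (mul_comm' _ _), h1, h2, one_mul]
      · intro x hx h1
        rw [show (⟨x⁻¹, inv_mem hx⟩ : A) = (⟨x, hx⟩ : A)⁻¹ from rfl, inv_pow, h1, inv_one]
    have hcop : (Nat.card ↥A).Coprime (Nat.card ↥L) := by
      obtain ⟨k, hk⟩ := IsPGroup.iff_card.1 hA
      rw [hk]
      exact Nat.Coprime.pow_left k ((Nat.Prime.coprime_iff_not_dvd Nat.prime_two).2 fun h =>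
        (Nat.not_even_iff_odd.2 hL) (even_iff_two_dvd.2 h))
    obtain ⟨P, hP⟩ := CfsgLib.Core.exists_invariant_sylow hAn hcop
      (Or.inl (by haveI := hA.isNilpotent; infer_instance)) r
    set R := (P : Subgroup ↥L).map L.subtype with hRdef
    have hRL : R ≤ L := Subgroup.map_subtype_le _
    have hRp : IsPGroup r ↥R := P.isPGroup'.map L.subtype
    have hJR : J ∈ Subgroup.normalizer (R : Set G) := hP (Subgroup.subset_closure (by simp))
    have hvR : v ∈ Subgroup.normalizer (R : Set G) := hP (Subgroup.subset_closure (by simp))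
    have hR1 : ∀ x ∈ R, x * J = J * x → x = 1 := by
      intro x hx hxJ
      obtain ⟨m, hm⟩ := hRp ⟨x, hx⟩
      have h1 : orderOf x ∣ r ^ m := orderOf_dvd_of_pow_eq_one (by simpa using congrArg Subtype.val hm)
      have h2 : orderOf x ∣ p := orderOf_dvd_of_pow_eq_one (hE.pow x (hLJ x (hRL hx) hxJ))
      exact orderOf_eq_one_iff.1 (Nat.eq_one_of_dvd_coprimes
        (((Nat.coprime_primes hr hE.prime).2 hrp).pow_left m) h1 h2)
    have hRw : ∀ w, w = v ∨ w = v * J → ∀ x ∈ R, x * w = w * x → x = 1 := by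
      intro w hw x hx hxw
      have hxJm : J * x * J⁻¹ ∈ R := (Subgroup.mem_normalizer_iff.1 hJR x).1 hx
      set y := x⁻¹ * (J * x * J⁻¹) with hy
      have hyR : y ∈ R := mul_mem (inv_mem hx) hxJm
      have hyw : y * w = w * y := by
        refine (Commute.mul_left (Commute.inv_left hxw) ?_).eq
        exact Commute.mul_left (Commute.mul_left (hwJ w hw).symm hxw) (Commute.inv_left (hwJ w hw).symm)
      have hyinv : J * y * J⁻¹ = y⁻¹ := by
        rw [hy, hJi]
        calc J * (x⁻¹ * (J * x * J)) * J = J * x⁻¹ * J * x * (J * J) := by group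
          _ = J⁻¹ * x⁻¹ * J⁻¹ * x := by rw [hJ2, mul_one, hJi]
          _ = _ := by group
      obtain ⟨m, hm⟩ := hRp ⟨y, hyR⟩
      have h1 := hR w hw y (hLC (hRL hyR)) hyw hyinv r hr hr2 hrp
        ⟨m, by simpa using congrArg Subtype.val hm⟩
      rw [hy, inv_mul_eq_one, eq_comm] at h1
      exact hR1 x hx (mul_inv_eq_iff_eq_mul.1 h1).symm
    have hRodd : Odd (Nat.card ↥R) := hL.of_dvd_nat (Subgroup.card_dvd_of_le hRL)
    have hbot : R ≤ ⊥ := le_of_four hRodd hv D.ordJ hvc hvJ hvR hJR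
      (fun x hx h => Subgroup.mem_bot.2 (hRw v (Or.inl rfl) x hx h))
      (fun x hx h => Subgroup.mem_bot.2 (hR1 x hx h))
      (fun x hx h => Subgroup.mem_bot.2 (hRw (v * J) (Or.inr rfl) x hx h))
    have hPbot : (P : Subgroup ↥L) = ⊥ := by
      apply Subgroup.map_injective L.subtype_injective
      rw [Subgroup.map_bot]
      exact le_bot_iff.1 hbot
    have h3 := P.dvd_card_of_dvd_card hd
    rw [hPbot, Subgroup.card_bot] at h3
    exact hr.not_dvd_one h3
  have hELle : E ≤ L := fun e he => hEL e he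
  obtain ⟨n, hn⟩ : ∃ n, Nat.card ↥L = p ^ n :=
    ⟨_, Nat.eq_prime_pow_of_unique_prime_dvd (Nat.card_pos.ne') fun {d} hd hdvd =>
      not_imp_not.1 (hLp d hd) hdvd⟩
  obtain ⟨k, hk⟩ := IsPGroup.iff_card.1 hE.isPGroup
  have hdvdG : Nat.card ↥L ∣ Nat.card G := Subgroup.card_subgroup_dvd_card L
  -- `L = E`
  have hLE : L ≤ E := by
    have hkn : k ≤ n := by
      have := Nat.le_of_dvd Nat.card_pos (Subgroup.card_dvd_of_le hELle)
      rw [hk, hn] at this
      exact (Nat.pow_le_pow_iff_right hE.prime.one_lt).1 this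
    rcases Nat.eq_or_lt_of_le hkn with h | h
    · exact (Subgroup.eq_of_le_of_card_ge hELle (by rw [hk, hn, h])).ge
    exfalso
    rcases hb with hb | ⟨hb, s, hs, hsv⟩
    · exact hb ((by rw [hk, hn, ← pow_succ']; exact pow_dvd_pow p h : p * Nat.card ↥E ∣ Nat.card ↥L).trans hdvdG)
    have hn1 : n = k + 1 := by
      by_contra hne
      exact hb ((by rw [hk, hn, ← pow_two, ← pow_add]; exact pow_dvd_pow p (by omega) :
        p * p * Nat.card ↥E ∣ Nat.card ↥L).trans hdvdG)
    have hidx : (E.subgroupOf L).index = p := by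
      have h1 := (E.subgroupOf L).card_mul_index
      rw [Nat.card_congr (Subgroup.subgroupOfEquivOfLe hELle).toEquiv, hk, hn, hn1, pow_succ] at h1
      exact Nat.eq_of_mul_eq_mul_left (pow_pos hE.prime.pos k) h1
    haveI hEn : (E.subgroupOf L).Normal := ⟨fun x hx g => by
      show (g : G) * x * (g : G)⁻¹ ∈ E
      rw [← Subgroup.mem_centralizer_iff.1 (hLC g.2) x hx, mul_inv_cancel_right]
      exact hx⟩
    -- if `u` fixes an element of `L` outside `E`, it acts trivially on `L/E`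
    have htriv : ∀ u ∈ Subgroup.normalizer (E : Set G), ∀ l ∈ L, l ∉ E → u * l = l * u →
        ∀ x ∈ L, x⁻¹ * (u * x * u⁻¹) ∈ E := by
      intro u hu l hl hlE hul x hx
      haveI := isCyclic_of_prime_card (p := p) (α := ↥L ⧸ E.subgroupOf L) (by rw [← Subgroup.index, hidx])
      have hne : (QuotientGroup.mk ⟨l, hl⟩ : ↥L ⧸ E.subgroupOf L) ≠ 1 := fun e =>
        hlE ((QuotientGroup.eq_one_iff (N := E.subgroupOf L) (⟨l, hl⟩ : ↥L)).1 e)
      have hgen := zpowers_eq_top_of_prime_card (p := p) (by rw [← Subgroup.index, hidx]) hne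
      obtain ⟨j, hj⟩ := Subgroup.mem_zpowers_iff.1 (hgen ▸ Subgroup.mem_top (QuotientGroup.mk (⟨x, hx⟩ : ↥L)))
      rw [← QuotientGroup.mk_zpow, QuotientGroup.eq] at hj
      have he : (l ^ j)⁻¹ * x ∈ E := hj
      have e1 : x⁻¹ * (u * x * u⁻¹) = ((l ^ j)⁻¹ * x)⁻¹ * (u * ((l ^ j)⁻¹ * x) * u⁻¹) := by
        have hc : u * (l ^ j)⁻¹ = (l ^ j)⁻¹ * u := (Commute.inv_right (Commute.zpow_right hul j)).eq
        rw [mul_inv_rev, inv_inv, ← mul_assoc u, hc]
        group
      rw [e1]
      exact mul_mem (inv_mem he) ((Subgroup.mem_normalizer_iff.1 hu _).1 he)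
    obtain ⟨l₀, hl₀, hl₀E⟩ : ∃ l ∈ L, l ∉ E := by
      by_contra hcon
      push Not at hcon
      have := Subgroup.card_dvd_of_le (show L ≤ E from hcon)
      rw [hn, hk] at this
      have := Nat.le_of_dvd (pow_pos hE.prime.pos k) this
      exact absurd ((Nat.pow_le_pow_iff_right hE.prime.one_lt).1 this) (by omega)
    have hsn : s ∈ Subgroup.normalizer (E : Set G) := hE.norm hs
    have hsJ : s * J = J * s := Subgroup.mem_centralizer_singleton_iff.1 hs
    obtain ⟨l, hl, hlE, hlv⟩ : ∃ l ∈ L, l ∉ E ∧ v * l = l * v := by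
      by_contra hcon
      push Not at hcon
      refine hl₀E (le_of_four hL hv D.ordJ hvc hvJ (hnL _ hvn) (hnL _ hJn)
        (fun x hx h => by_contra fun hxE => hcon x hx hxE h.symm) hLJ ?_ hl₀)
      intro x hx h
      by_contra hxE
      have hxm : s⁻¹ * x * s⁻¹⁻¹ ∈ L := hconjL _ (inv_mem hsn) x hx
      refine hcon _ hxm (fun hE' => hxE ?_) ?_
      · have := (Subgroup.mem_normalizer_iff.1 hsn _).1 hE'
        rwa [show s * (s⁻¹ * x * s⁻¹⁻¹) * s⁻¹ = x by group] at this
      · have hvs : v = s⁻¹ * (v * J) * s := by rw [← hsv]; group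
        conv_lhs => rw [hvs]
        conv_rhs => rw [hvs]
        calc s⁻¹ * (v * J) * s * (s⁻¹ * x * s⁻¹⁻¹) = s⁻¹ * ((v * J) * x) * s := by group
          _ = _ := by rw [← h]; group
    have hvt := htriv v hvn l hl hlE hlv
    have hvJt := htriv (v * J) hvJn (s * l * s⁻¹) (hconjL _ hsn l hl) (fun hE' => hlE (by
        have := (Subgroup.mem_normalizer_iff.1 (inv_mem hsn) _).1 hE'
        rwa [show s⁻¹ * (s * l * s⁻¹) * s⁻¹⁻¹ = l by group] at this)) (by
      rw [← hsv]
      calc s * v * s⁻¹ * (s * l * s⁻¹) = s * (v * l) * s⁻¹ := by group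
        _ = _ := by rw [hlv]; group)
    -- hence `J` acts trivially
    have hJt : l⁻¹ * (J * l * J⁻¹) ∈ E := by
      have h1 := hvJt l hl
      have hm : J * l * J⁻¹ ∈ L := hconjL J hJn l hl
      have h2 := hvt _ hm
      rw [show v * J * l * (v * J)⁻¹ = v * (J * l * J⁻¹) * v⁻¹ by group] at h1
      have := mul_mem h1 (inv_mem h2)
      rwa [show l⁻¹ * (v * (J * l * J⁻¹) * v⁻¹) * ((J * l * J⁻¹)⁻¹ * (v * (J * l * J⁻¹) * v⁻¹))⁻¹ =
        l⁻¹ * (J * l * J⁻¹) by group] at this
    set e := l⁻¹ * (J * l * J⁻¹) with he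
    have hJl : J * l * J⁻¹ = l * e := by rw [he]; group
    have heJ : J * e * J⁻¹ = e := by
      rw [← Subgroup.mem_centralizer_singleton_iff.1 (hE.le_cent hJt), mul_inv_cancel_right]
    have h3 : l * (e * e) = l * 1 := by
      rw [mul_one]
      calc l * (e * e) = (J * l * J⁻¹) * (J * e * J⁻¹) := by
            rw [heJ, hJl]; exact (mul_assoc l e e).symm
        _ = J * (l * e) * J⁻¹ := by group
        _ = J * (J * l * J⁻¹) * J⁻¹ := by rw [hJl]
        _ = (J * J) * l * (J * J)⁻¹ := by group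
        _ = l := by rw [hJ2]; group
    have he2 : e = 1 := by
      have h4 : orderOf e ∣ 2 := orderOf_dvd_of_pow_eq_one (by rw [pow_two]; exact mul_left_cancel h3)
      rcases (Nat.dvd_prime Nat.prime_two).1 h4 with h5 | h5
      · exact orderOf_eq_one_iff.1 h5
      · have := hE.odd_orderOf hJt; rw [h5] at this; exact absurd this (by decide)
    rw [he2, mul_one] at hJl
    exact hlE (hLJ l hl (mul_inv_eq_iff_eq_mul.1 hJl).symm)
  intro x hx hx2
  have hxi : x⁻¹ = x := inv_eq_of_mul_eq_one_right hx2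
  have hsq : ∀ e ∈ E, e * e = 1 → e = 1 := by
    intro e he h
    rcases (Nat.dvd_prime Nat.prime_two).1 (orderOf_dvd_of_pow_eq_one (show e ^ 2 = 1 by rw [pow_two, h]))
      with h' | h'
    · exact orderOf_eq_one_iff.1 h'
    · have := hE.odd_orderOf he; rw [h'] at this; exact absurd this (by decide)
  have hfin : ∀ y ∈ C, y * y = 1 → y * J = J * y → y = 1 ∨ y = J := by
    intro y hy hy2 hyJ
    obtain ⟨e, he, rfl | rfl⟩ := hCJ y hy hyJ
    · exact Or.inl (hsq y he hy2)
    · refine Or.inr ?_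
      rw [hsq e he ?_, one_mul]
      have hc := Subgroup.mem_centralizer_singleton_iff.1 (hE.le_cent he)
      calc e * e = e * (J * J) * e := by rw [hJ2, mul_one]
        _ = e * J * (J * e) := by simp only [mul_assoc]
        _ = 1 := by rw [← hc]; exact hy2
  refine hfin x hx hx2 ?_
  have hxJC : x * J ∈ C := mul_mem hx hJC
  have hinv : J * (x * J) * J⁻¹ = (x * J)⁻¹ := by
    rw [mul_inv_rev, hxi, hJi]
    calc J * (x * J) * J = J * x * (J * J) := by group
      _ = J * x := by rw [hJ2, mul_one]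
  rcases Nat.even_or_odd (orderOf (x * J)) with ⟨m, hm⟩ | hodd
  · have hm0 : 0 < m := by have := orderOf_pos (x * J); omega
    set c := (x * J) ^ m with hc
    have hc2 : c * c = 1 := by rw [hc, ← pow_add, ← hm, pow_orderOf_eq_one]
    have hcJ : c * J = J * c := by
      refine (mul_inv_eq_iff_eq_mul.1 ?_).symm
      rw [hc, ← conj_pow, hinv, inv_pow, ← hc]
      exact inv_eq_of_mul_eq_one_right hc2
    rcases hfin c (pow_mem hxJC m) hc2 hcJ with h | h
    · exfalso
      have := orderOf_le_of_pow_eq_one hm0 h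
      omega
    · have hcom : Commute c (x * J) := Commute.pow_self _ _
      rw [h] at hcom
      have h1 : J * x * J = x * J * J := by rw [mul_assoc J x J]; exact hcom.eq
      exact (mul_right_cancel h1).symm
  · have hmem := hLE (hLin _ hxJC fun h => (Nat.not_even_iff_odd.2 hodd) (even_iff_two_dvd.2 h))
    have hcc := Subgroup.mem_centralizer_singleton_iff.1 (hE.le_cent hmem)
    have h1 : x * J * J = J * (x * J) := hcc
    have h2 : x = J * (x * J) := by rw [← h1, mul_assoc, hJ2, mul_one]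
    calc x * J = J * (x * J) * J := by rw [← h2]
      _ = J * x * (J * J) := by group
      _ = _ := by rw [hJ2, mul_one]

end CfsgLib.KimuraFour
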