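import Cfsg.Agent.Lib.Perm.KimuraFour.Basic
import Cfsg.Agent.Lib.Perm.KimuraFour.Alt

/-!
# Two-point stabiliser isomorphic to the alternating group of degree four: the swapping elements
-/

set_option autoImplicit false

namespace CfsgLib.KimuraFour

open MulAction

variable {G : Type*} [Group G] {Ω : Type*} [MulAction G Ω]

/-- The standing hypotheses. -/
structure Setting (G : Type*) [Group G] (Ω : Type*) [MulAction G Ω] (a b : Ω) : Prop where
  two : IsMultiplyPretransitive G Ω 2
  faithful : FaithfulSMul G Ω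
  ne : a ≠ b
  iso : Nonempty (↥(pairStab (G := G) a b) ≃* ↥(alternatingGroup (Fin 4)))

namespace Setting

variable {a b : Ω} (S : Setting G Ω a b)

include S

local notation "H" => (pairStab a b : Subgroup G)

theorem card_H : Nat.card ↥(H) = 12 := by
  obtain ⟨e⟩ := S.iso
  rw [Nat.card_congr e.toEquiv, Alt.card_four]

/-- Transport of a universally quantified fact through the isomorphism. -/
theorem exists_embed : ∃ f : ↥(alternatingGroup (Fin 4)) →* G, Function.Injective f ∧ f.range = H := by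
  obtain ⟨e⟩ := S.iso
  refine ⟨(H).subtype.comp e.symm.toMonoidHom, Subtype.val_injective.comp e.symm.injective, ?_⟩
  ext x
  refine ⟨fun ⟨y, hy⟩ => hy ▸ (e.symm y).2, fun hx => ⟨e ⟨x, hx⟩, ?_⟩⟩
  simp

theorem exists_preimage {x : G} (hx : x ∈ H) :
    ∀ f : ↥(alternatingGroup (Fin 4)) →* G, f.range = H → ∃ y, f y = x := fun f hf => by
  rw [← hf] at hx; exact hx

theorem inv_conj {x y : G} (hx : x ∈ H) (hx2 : orderOf x = 2) (hy : y ∈ H) (hy2 : orderOf y = 2) :
    ∃ h ∈ H, h * x * h⁻¹ = y := by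
  obtain ⟨f, hf, hr⟩ := S.exists_embed
  obtain ⟨x', rfl⟩ := S.exists_preimage hx f hr
  obtain ⟨y', rfl⟩ := S.exists_preimage hy f hr
  rw [orderOf_injective f hf] at hx2 hy2
  obtain ⟨h, hh⟩ := Alt.inv_conj x' y' (mul_self_of_orderOf hx2) (by rintro rfl; simp at hx2)
    (mul_self_of_orderOf hy2) (by rintro rfl; simp at hy2)
  exact ⟨f h, hr ▸ ⟨h, rfl⟩, by rw [← map_inv, ← map_mul, ← map_mul, hh]⟩

theorem inv_mul {x y : G} (hx : x ∈ H) (hx2 : x * x = 1) (hy : y ∈ H) (hy2 : y * y = 1) :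
    x * y = y * x ∧ (x * y) * (x * y) = 1 := by
  obtain ⟨f, hf, hr⟩ := S.exists_embed
  obtain ⟨x', rfl⟩ := S.exists_preimage hx f hr
  obtain ⟨y', rfl⟩ := S.exists_preimage hy f hr
  simp only [← map_mul] at hx2 hy2 ⊢
  obtain ⟨h1, h2⟩ := Alt.inv_mul x' y' (hf (by rw [hx2, map_one])) (hf (by rw [hy2, map_one]))
  exact ⟨by rw [h1], by rw [h2, map_one]⟩

theorem inv_third {x y z : G} (hx : x ∈ H) (hx2 : orderOf x = 2) (hy : y ∈ H) (hy2 : orderOf y = 2)
    (hz : z ∈ H) (hz2 : orderOf z = 2) (hxy : x ≠ y) (hxz : x ≠ z) (hyz : y ≠ z) : x * y = z := by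
  obtain ⟨f, hf, hr⟩ := S.exists_embed
  obtain ⟨x', rfl⟩ := S.exists_preimage hx f hr
  obtain ⟨y', rfl⟩ := S.exists_preimage hy f hr
  obtain ⟨z', rfl⟩ := S.exists_preimage hz f hr
  rw [orderOf_injective f hf] at hx2 hy2 hz2
  rw [← map_mul, Alt.inv_third (mul_self_of_orderOf hx2) (by rintro rfl; simp at hx2)
    (mul_self_of_orderOf hy2) (by rintro rfl; simp at hy2) (mul_self_of_orderOf hz2)
    (by rintro rfl; simp at hz2) (fun e => hxy (by rw [e])) (fun e => hxz (by rw [e])) (fun e => hyz (by rw [e]))]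

theorem sq_of_commute {g x : G} (hg : g ∈ H) (hx : x ∈ H) (hx2 : orderOf x = 2) (h : g * x = x * g) :
    g * g = 1 := by
  obtain ⟨f, hf, hr⟩ := S.exists_embed
  obtain ⟨g', rfl⟩ := S.exists_preimage hg f hr
  obtain ⟨x', rfl⟩ := S.exists_preimage hx f hr
  rw [orderOf_injective f hf] at hx2
  simp only [← map_mul] at h
  rcases Alt.inv_conj_self g' x' (mul_self_of_orderOf hx2) (hf h) with e | e
  · simp [e] at hx2
  · rw [← map_mul, e, map_one]

theorem order_cases {g : G} (hg : g ∈ H) : g * g = 1 ∨ g * g * g = 1 := by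
  obtain ⟨f, -, hr⟩ := S.exists_embed
  obtain ⟨g', rfl⟩ := S.exists_preimage hg f hr
  rcases Alt.order_cases g' with e | e
  · exact Or.inl (by rw [← map_mul, e, map_one])
  · exact Or.inr (by rw [← map_mul, ← map_mul, e, map_one])

theorem exists_three : ∃ t ∈ H, orderOf t = 3 := by
  obtain ⟨f, hf, hr⟩ := S.exists_embed
  obtain ⟨t, ht, ht1⟩ := Alt.exists_three
  refine ⟨f t, hr ▸ ⟨t, rfl⟩, ?_⟩
  rw [orderOf_injective f hf]
  exact orderOf_eq_prime (by rw [pow_succ, pow_two, ht]) ht1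

theorem three_cent {t g : G} (ht : t ∈ H) (ht3 : orderOf t = 3) (hg : g ∈ H) (h : g * t = t * g) :
    g ∈ Subgroup.zpowers t := by
  obtain ⟨f, hf, hr⟩ := S.exists_embed
  obtain ⟨t', rfl⟩ := S.exists_preimage ht f hr
  obtain ⟨g', rfl⟩ := S.exists_preimage hg f hr
  rw [orderOf_injective f hf] at ht3
  simp only [← map_mul] at h
  have h3 : t' * t' * t' = 1 := by
    have := pow_orderOf_eq_one t'
    rwa [ht3, pow_succ, pow_two] at this
  rcases Alt.three_cent t' g' h3 (by rintro rfl; simp at ht3) (hf h) with e | e | e <;> subst e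
  · rw [map_one]; exact one_mem _
  · exact Subgroup.mem_zpowers _
  · rw [map_mul]; exact mul_mem (Subgroup.mem_zpowers _) (Subgroup.mem_zpowers _)

theorem center_trivial {g : G} (hg : g ∈ H) (h : ∀ k ∈ H, g * k = k * g) : g = 1 := by
  obtain ⟨f, hf, hr⟩ := S.exists_embed
  obtain ⟨g', rfl⟩ := S.exists_preimage hg f hr
  rw [Alt.center_trivial g' fun k => hf (by rw [map_mul, map_mul]; exact h (f k) (hr ▸ ⟨k, rfl⟩)), map_one]

theorem coset_three {t g : G} (ht : t ∈ H) (ht3 : orderOf t = 3) (hg : g ∈ H) :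
    ∃ v ∈ H, v * v = 1 ∧ (g = v ∨ g = v * t ∨ g = v * (t * t)) := by
  obtain ⟨f, hf, hr⟩ := S.exists_embed
  obtain ⟨t', rfl⟩ := S.exists_preimage ht f hr
  obtain ⟨g', rfl⟩ := S.exists_preimage hg f hr
  rw [orderOf_injective f hf] at ht3
  have h3 : t' * t' * t' = 1 := by
    have := pow_orderOf_eq_one t'
    rwa [ht3, pow_succ, pow_two] at this
  obtain ⟨v, hv, hc⟩ := Alt.coset_three t' g' h3 (by rintro rfl; simp at ht3)
  refine ⟨f v, hr ▸ ⟨v, rfl⟩, by rw [← map_mul, hv, map_one], ?_⟩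
  rcases hc with e | e | e <;> subst e
  · exact Or.inl rfl
  · exact Or.inr (Or.inl (map_mul _ _ _))
  · exact Or.inr (Or.inr (by rw [map_mul, map_mul]))

theorem three_moves {t v : G} (ht : t ∈ H) (ht3 : orderOf t = 3) (hv : v ∈ H) (hv2 : orderOf v = 2) :
    t * v ≠ v * t := by
  intro h
  have h1 := orderOf_dvd_of_mem_zpowers (S.three_cent ht ht3 hv h.symm)
  rw [hv2, ht3] at h1
  norm_num at h1

theorem three_cycle {t v w : G} (ht : t ∈ H) (ht3 : orderOf t = 3) (hv : v ∈ H) (hv2 : orderOf v = 2)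
    (hw : w ∈ H) (hw2 : orderOf w = 2) : w = v ∨ w = t * v * t⁻¹ ∨ w = t⁻¹ * v * t := by
  obtain ⟨f, hf, hr⟩ := S.exists_embed
  obtain ⟨t', rfl⟩ := S.exists_preimage ht f hr
  obtain ⟨v', rfl⟩ := S.exists_preimage hv f hr
  obtain ⟨w', rfl⟩ := S.exists_preimage hw f hr
  rw [orderOf_injective f hf] at ht3 hv2 hw2
  have h3 : t' * t' * t' = 1 := by
    have := pow_orderOf_eq_one t'
    rwa [ht3, pow_succ, pow_two] at this
  rcases Alt.three_cycle h3 (by rintro rfl; simp at ht3) (mul_self_of_orderOf hv2)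
    (by rintro rfl; simp at hv2) (mul_self_of_orderOf hw2) (by rintro rfl; simp at hw2) with e | e | e <;>
    subst e
  · exact Or.inl rfl
  · exact Or.inr (Or.inl (by simp))
  · exact Or.inr (Or.inr (by simp))

theorem exists_invData [Finite G] : ∃ J : G, InvData G Ω a b J := by
  obtain ⟨J, hJ⟩ : ∃ J : ↥(H), orderOf J = 2 := by
    haveI : Fact (Nat.Prime 2) := ⟨Nat.prime_two⟩
    exact exists_prime_orderOf_dvd_card' 2 (by rw [S.card_H]; norm_num)
  refine ⟨J, S.two, S.ne, by simpa using hJ, J.2, fun x hx hx2 => ?_⟩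
  exact S.inv_conj J.2 (by simpa using hJ) hx hx2

theorem isConj_of_mem {J : G} (D : InvData G Ω a b J) {x : G} (hx : x ∈ H) (hx2 : orderOf x = 2) :
    IsConj J x := by
  obtain ⟨h, -, hh⟩ := D.conjJ x hx hx2
  exact isConj_iff.2 ⟨h, hh⟩

theorem gamma_eq {J : G} (D : InvData G Ω a b J) : InvData.gamma a b J = 3 := by
  classical
  obtain ⟨f, hf, hr⟩ := S.exists_embed
  have hfm : ∀ v, f v ∈ H := fun v => hr ▸ ⟨v, rfl⟩
  have e : {x : ↥(alternatingGroup (Fin 4)) // x * x = 1 ∧ x ≠ 1} ≃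
      {x : G // IsConj J x ∧ x • a = a ∧ x • b = b} := by
    refine Equiv.ofBijective (fun x => ⟨f x.1, S.isConj_of_mem D (hfm _) (by
      rw [orderOf_injective f hf]; exact orderOf_two_of x.2.1 x.2.2), mem_pairStab.1 (hfm _)⟩) ⟨?_, ?_⟩
    · exact fun x y h => Subtype.ext (hf (congrArg Subtype.val h))
    · rintro ⟨x, hx1, hx2⟩
      obtain ⟨y, rfl⟩ := S.exists_preimage (mem_pairStab.2 hx2) f hr
      have ho := D.orderOf_of_conj hx1
      rw [orderOf_injective f hf] at ho
      exact ⟨⟨y, mul_self_of_orderOf ho, by rintro rfl; simp at ho⟩, rfl⟩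
  rw [InvData.gamma, ← Nat.card_congr e, Nat.card_eq_fintype_card, Fintype.card_subtype, Alt.inv_count]

theorem conj_mem_of_swap {g x : G} (hg : g • a = b) (hg' : g • b = a) (hx : x ∈ H) : g * x * g⁻¹ ∈ H := by
  have h := (conj_mem_pairStab_iff g x).2 hx
  rw [hg, hg'] at h
  obtain ⟨h1, h2⟩ := mem_pairStab.1 h
  exact mem_pairStab.2 ⟨h2, h1⟩

omit S in
theorem swap_back {g : G} (hg : orderOf g = 2) (hga : g • a = b) : g • b = a := by
  rw [← hga, smul_of_mul_self (mul_self_of_orderOf hg)]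

theorem exists_swap_conj [Finite G] [Finite Ω] {J : G} (D : InvData G Ω a b J) :
    ∃ x : G, IsConj J x ∧ x • a = b := by
  haveI := S.faithful
  obtain ⟨c, hc⟩ : ∃ c : Ω, J • c ≠ c := by
    by_contra hcon
    push Not at hcon
    have : J = 1 := eq_of_smul_eq_smul fun c : Ω => by rw [hcon, one_smul]
    simpa [this] using D.ordJ
  obtain ⟨g, hg1, hg2⟩ := exists_smul_pair S.two (Ne.symm hc) S.ne
  refine ⟨g * J * g⁻¹, isConj_iff.2 ⟨g, rfl⟩, ?_⟩
  change g • c = a at hg1
  change g • J • c = b at hg2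
  rw [← hg1, mul_smul, mul_smul, inv_smul_smul, hg2]

/-- A swapping involution centralising the two-point stabiliser. -/
def CenSwap (a b : Ω) (z : G) : Prop :=
  orderOf z = 2 ∧ z • a = b ∧ ∀ h ∈ (pairStab a b : Subgroup G), z * h = h * z

theorem censwap_of_swap {g : G} (hga : g • a = b) (hgb : g • b = a) (hc : ∀ h ∈ H, g * h = h * g) :
    CenSwap a b g := by
  have hm : g * g ∈ H := mem_pairStab.2 ⟨by rw [mul_smul, hga, hgb], by rw [mul_smul, hgb, hga]⟩
  refine ⟨orderOf_two_of (S.center_trivial hm fun k hk => by rw [mul_assoc, hc k hk, ← mul_assoc, hc k hk,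
    mul_assoc]) (fun e => S.ne (by rw [← hga, e, one_smul])), hga, hc⟩

theorem censwap_unique {z z' : G} (hz : CenSwap a b z) (hz' : CenSwap a b z') : z = z' := by
  have hzb := swap_back hz.1 hz.2.1
  have hzb' := swap_back hz'.1 hz'.2.1
  have hm : z * z' ∈ H := mem_pairStab.2 ⟨by rw [mul_smul, hz'.2.1, hzb], by rw [mul_smul, hzb', hz.2.1]⟩
  have h := S.center_trivial hm fun k hk => by
    rw [mul_assoc, hz'.2.2 k hk, ← mul_assoc, hz.2.2 k hk, mul_assoc]
  rw [← inv_of_orderOf hz'.1]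
  exact eq_inv_of_mul_eq_one_left h

/-- With a central swap every swapping involution is the central one or its product with an involution. -/
theorem swap_cases {z : G} (hz : CenSwap a b z) {x : G} (hx : orderOf x = 2) (hxa : x • a = b) :
    x = z ∨ ∃ v ∈ H, orderOf v = 2 ∧ x = z * v := by
  have hxb := swap_back hx hxa
  have hzb := swap_back hz.1 hz.2.1
  have hm : z * x ∈ H := mem_pairStab.2 ⟨by rw [mul_smul, hxa, hzb], by rw [mul_smul, hxb, hz.2.1]⟩
  have hc := hz.2.2 _ hm
  have hz2 := mul_self_of_orderOf hz.1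
  have hcomm : z * x = x * z := by
    have h1 : z * (z * x) = z * x * z := hc
    rw [← mul_assoc, hz2, one_mul] at h1
    calc z * x = z * (z * x * z) := by rw [← h1]
      _ = z * z * x * z := by group
      _ = x * z := by rw [hz2, one_mul]
  by_cases h1 : z * x = 1
  · exact Or.inl ((eq_inv_of_mul_eq_one_right h1).trans (inv_of_orderOf hz.1))
  · refine Or.inr ⟨z * x, hm, orderOf_two_of ?_ h1, by rw [← mul_assoc, hz2, one_mul]⟩
    calc z * x * (z * x) = z * x * (x * z) := by rw [hcomm]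
      _ = z * (x * x) * z := by group
      _ = 1 := by rw [mul_self_of_orderOf hx, mul_one, hz2]

theorem censwap_mul {z v : G} (hz : CenSwap a b z) (hv : v ∈ H) (hv2 : orderOf v = 2) :
    orderOf (z * v) = 2 ∧ (z * v) • a = b := by
  refine ⟨orderOf_two_of ?_ ?_, by rw [mul_smul, (mem_pairStab.1 hv).1, hz.2.1]⟩
  · calc z * v * (z * v) = z * (v * z) * v := by group
      _ = z * (z * v) * v := by rw [hz.2.2 v hv]
      _ = 1 := by rw [← mul_assoc, mul_self_of_orderOf hz.1, one_mul, mul_self_of_orderOf hv2]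
  · intro h
    exact S.ne (by rw [← hz.2.1, show z = v⁻¹ from eq_inv_of_mul_eq_one_left h, eq_inv_smul_iff,
      (mem_pairStab.1 hv).1])

theorem censwap_mul_conj {z v w : G} (hz : CenSwap a b z) (hv : v ∈ H) (hv2 : orderOf v = 2) (hw : w ∈ H)
    (hw2 : orderOf w = 2) : IsConj (z * v) (z * w) := by
  obtain ⟨h, hh, he⟩ := S.inv_conj hv hv2 hw hw2
  refine isConj_iff.2 ⟨h, ?_⟩
  rw [← he, ← mul_assoc, ← hz.2.2 h hh]
  group

open scoped Classical in
/-- The three possible values of `beta` when a central swap exists. -/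
theorem beta_censwap [Finite G] {J : G} (D : InvData G Ω a b J) {z : G} (hz : CenSwap a b z) :
    InvData.beta a b J = (if IsConj J z then 1 else 0) + (if IsConj J (z * J) then 3 else 0) := by
  classical
  have := Fintype.ofFinite G
  have key : (Finset.univ.filter fun x : G => IsConj J x ∧ x • a = b) =
      (if IsConj J z then {z} else ∅) ∪
        (if IsConj J (z * J) then (Finset.univ.filter fun v : G => v ∈ H ∧ orderOf v = 2).image (z * ·) else ∅) := by
    ext x
    simp only [Finset.mem_filter, Finset.mem_univ, true_and, Finset.mem_union]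
    constructor
    · rintro ⟨h1, h2⟩
      rcases S.swap_cases hz (D.orderOf_of_conj h1) h2 with e | ⟨v, hv, hv2, e⟩ <;> subst e
      · exact Or.inl (by rw [if_pos h1]; simp)
      · refine Or.inr ?_
        rw [if_pos (h1.trans (S.censwap_mul_conj hz hv hv2 D.memJ D.ordJ))]
        exact Finset.mem_image.2 ⟨v, by simp [hv, hv2], rfl⟩
    · rintro (h | h)
      · split_ifs at h with hc
        · rw [Finset.mem_singleton] at h; exact h ▸ ⟨hc, hz.2.1⟩
        · simp at h
      · split_ifs at h with hc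
        · obtain ⟨v, hv, rfl⟩ := Finset.mem_image.1 h
          simp only [Finset.mem_filter, Finset.mem_univ, true_and] at hv
          exact ⟨hc.trans (S.censwap_mul_conj hz D.memJ D.ordJ hv.1 hv.2), (S.censwap_mul hz hv.1 hv.2).2⟩
        · simp at h
  have h3 : (Finset.univ.filter fun v : G => v ∈ H ∧ orderOf v = 2).card = 3 := by
    rw [← S.gamma_eq D, InvData.gamma, Nat.card_eq_fintype_card, Fintype.card_subtype]
    congr 1
    ext v
    simp only [Finset.mem_filter, Finset.mem_univ, true_and]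
    exact ⟨fun h => ⟨S.isConj_of_mem D h.1 h.2, mem_pairStab.1 h.1⟩,
      fun h => ⟨mem_pairStab.2 h.2, D.orderOf_of_conj h.1⟩⟩
  rw [InvData.beta, Nat.card_eq_fintype_card, Fintype.card_subtype, key, Finset.card_union_of_disjoint]
  · congr 1
    · split_ifs <;> simp
    · split_ifs
      · rw [Finset.card_image_of_injective _ (mul_right_injective z), h3]
      · simp
  · rw [Finset.disjoint_left]
    intro x hx hx'
    split_ifs at hx with hc <;> [skip; simp at hx]
    split_ifs at hx' with hc' <;> [skip; simp at hx']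
    obtain ⟨v, hv, rfl⟩ := Finset.mem_image.1 hx'
    simp at hv hx
    rw [hx] at hv
    simp at hv

end Setting

end CfsgLib.KimuraFour
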