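import Cfsg.Agent.Lib.Perm.KimuraFour.Setting

/-!
# No central swap: the pair stabiliser is a symmetric group of degree four
-/

set_option autoImplicit false

namespace CfsgLib.KimuraFour

open MulAction

variable {G : Type*} [Group G] {Ω : Type*} [MulAction G Ω]

/-- A swapping involution inverting `t` and centralising `v`. -/
structure SymData (a b : Ω) (s t v : G) : Prop where
  hs : orderOf s = 2
  hsa : s • a = b
  htH : t ∈ (pairStab a b : Subgroup G)
  ht : orderOf t = 3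
  inv : s * t * s⁻¹ = t⁻¹
  hvH : v ∈ (pairStab a b : Subgroup G)
  hv : orderOf v = 2
  fix : s * v * s⁻¹ = v
  swap : s * (t * v * t⁻¹) * s⁻¹ = t⁻¹ * v * t

namespace SymData

variable {a b : Ω} {s t v : G}

theorem conj_t (S : Setting G Ω a b) (D : SymData a b s t v) :
    SymData a b (t * s * t⁻¹) t (t * v * t⁻¹) where
  hs := (orderOf_conj_eq t s).trans D.hs
  hsa := by
    obtain ⟨h1, h2⟩ := mem_pairStab.1 D.htH
    rw [mul_smul, mul_smul, show t⁻¹ • a = a by rw [inv_smul_eq_iff, h1], D.hsa, h2]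
  htH := D.htH
  ht := D.ht
  inv := by
    calc t * s * t⁻¹ * t * (t * s * t⁻¹)⁻¹ = t * (s * t * s⁻¹) * t⁻¹ := by group
      _ = t⁻¹ := by rw [D.inv]; group
  hvH := mul_mem (mul_mem D.htH D.hvH) (inv_mem D.htH)
  hv := (orderOf_conj_eq t v).trans D.hv
  fix := by
    calc t * s * t⁻¹ * (t * v * t⁻¹) * (t * s * t⁻¹)⁻¹ = t * (s * v * s⁻¹) * t⁻¹ := by group
      _ = _ := by rw [D.fix]
  swap := by
    have hj : t * t * t = 1 := by
      have := pow_orderOf_eq_one t
      rwa [D.ht, pow_succ, pow_two] at this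
    calc t * s * t⁻¹ * (t * (t * v * t⁻¹) * t⁻¹) * (t * s * t⁻¹)⁻¹
        = t * (s * (t * v * t⁻¹) * s⁻¹) * t⁻¹ := by group
      _ = v := by rw [D.swap]; group
      _ = t⁻¹ * (t * v * t⁻¹) * t := by group

theorem exists_at (S : Setting G Ω a b) (D : SymData a b s t v) {w : G}
    (hw : w ∈ (pairStab a b : Subgroup G)) (hw2 : orderOf w = 2) :
    ∃ s', SymData a b s' t w ∧ IsConj s s' := by
  have hj : t * t * t = 1 := by
    have := pow_orderOf_eq_one t
    rwa [D.ht, pow_succ, pow_two] at this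
  rcases S.three_cycle D.htH D.ht D.hvH D.hv hw hw2 with e | e | e
  · exact ⟨s, e ▸ D, IsConj.refl s⟩
  · exact ⟨_, e ▸ D.conj_t S, isConj_iff.2 ⟨t, rfl⟩⟩
  · refine ⟨t * (t * s * t⁻¹) * t⁻¹, ?_, (isConj_iff.2 ⟨t, rfl⟩).trans (isConj_iff.2 ⟨t, rfl⟩)⟩
    have ht2 : t * t = t⁻¹ := eq_inv_of_mul_eq_one_left hj
    have h := (D.conj_t S).conj_t S
    rw [show t * (t * v * t⁻¹) * t⁻¹ = t⁻¹ * v * t by
      rw [show t * (t * v * t⁻¹) * t⁻¹ = (t * t) * v * (t * t)⁻¹ by group, ht2, inv_inv]] at h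
    rw [e]
    exact h

theorem swap_back (D : SymData a b s t v) : s • b = a := Setting.swap_back D.hs D.hsa

theorem swap' (D : SymData a b s t v) : s * (t⁻¹ * v * t) * s⁻¹ = t * v * t⁻¹ := by
  rw [← D.swap]
  calc s * (s * (t * v * t⁻¹) * s⁻¹) * s⁻¹ = (s * s) * (t * v * t⁻¹) * (s * s)⁻¹ := by group
    _ = t * v * t⁻¹ := by rw [mul_self_of_orderOf D.hs]; group

theorem conjugates_ne (S : Setting G Ω a b) (D : SymData a b s t v) :
    t * v * t⁻¹ ≠ v ∧ t⁻¹ * v * t ≠ v ∧ t * v * t⁻¹ ≠ t⁻¹ * v * t := by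
  have hm := S.three_moves D.htH D.ht D.hvH D.hv
  refine ⟨fun h => hm (mul_inv_eq_iff_eq_mul.1 h), fun h => hm ?_, fun h => hm ?_⟩
  · conv_lhs => rw [← h]
    group
  · have hj : t * t * t = 1 := by
      have := pow_orderOf_eq_one t
      rwa [D.ht, pow_succ, pow_two] at this
    have h2 : (t * t) * v * (t * t)⁻¹ = v := by
      calc (t * t) * v * (t * t)⁻¹ = t * (t * v * t⁻¹) * t⁻¹ := by group
        _ = v := by rw [h]; group
    rw [eq_inv_of_mul_eq_one_left hj, inv_inv] at h2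
    conv_lhs => rw [← h2]
    group

theorem swap_cases (S : Setting G Ω a b) (D : SymData a b s t v) {x : G} (hx : orderOf x = 2)
    (hxa : x • a = b) : ∃ h ∈ (pairStab a b : Subgroup G), h * s * h⁻¹ = x := by
  have ht3 : t * t * t = 1 := by
    have := pow_orderOf_eq_one t
    rwa [D.ht, pow_succ, pow_two] at this
  have hs2 := mul_self_of_orderOf D.hs
  have hsinv := inv_of_orderOf D.hs
  have hm : s * x ∈ (pairStab a b : Subgroup G) := mem_pairStab.2
    ⟨by rw [mul_smul, hxa, D.swap_back], by rw [mul_smul, Setting.swap_back hx hxa, D.hsa]⟩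
  obtain ⟨u, hu, hu2, hc⟩ := S.coset_three D.htH D.ht hm
  have hxe : x = s * (s * x) := by rw [← mul_assoc, hs2, one_mul]
  have hphi : s * (s * x) * s⁻¹ = (s * x)⁻¹ := by
    rw [mul_inv_rev, inv_of_orderOf hx, hsinv, ← mul_assoc, hs2, one_mul]
  have hv1 : t * v * t⁻¹ ∈ (pairStab a b : Subgroup G) := mul_mem (mul_mem D.htH D.hvH) (inv_mem D.htH)
  have htinv : s * t⁻¹ * s⁻¹ = t := by
    rw [show s * t⁻¹ * s⁻¹ = (s * t * s⁻¹)⁻¹ by group, D.inv, inv_inv]
  obtain ⟨n1, n2, n3⟩ := D.conjugates_ne S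
  have hui : u⁻¹ = u := inv_eq_of_mul_eq_one_right hu2
  -- the image of `u`
  rcases hc with hg | hg | hg
  · have hu' : s * u * s⁻¹ = u := by rw [← hg, hphi, hg, hui]
    rcases eq_or_ne u 1 with rfl | hu1
    · exact ⟨1, one_mem _, by rw [hxe, hg]; simp⟩
    rcases S.three_cycle D.htH D.ht D.hvH D.hv hu (orderOf_two_of hu2 hu1) with e | e | e <;> rw [e] at hu' hg
    · refine ⟨t * v * t⁻¹, hv1, ?_⟩
      have h1 := S.inv_third (mul_mem (mul_mem (inv_mem D.htH) D.hvH) D.htH)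
        ((by simpa using orderOf_conj_eq t⁻¹ v : orderOf (t⁻¹ * v * t) = orderOf v).trans D.hv)
        hv1 ((orderOf_conj_eq t v).trans D.hv) D.hvH D.hv n3.symm n2 n1
      rw [hxe, hg, inv_of_orderOf ((orderOf_conj_eq t v).trans D.hv)]
      conv_rhs => rw [← h1, ← D.swap]
      simp only [mul_assoc, inv_mul_cancel_left, hsinv]
      rw [← mul_assoc s s, hs2, one_mul]
    · exact absurd (hu'.symm.trans D.swap) n3
    · exact absurd (hu'.symm.trans D.swap') n3.symm
  · have hu' : s * u * s⁻¹ = t⁻¹ * u * t := by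
      have h1 : s * u * s⁻¹ * t⁻¹ = t⁻¹ * u := by
        rw [hg, mul_inv_rev, hui] at hphi
        calc s * u * s⁻¹ * t⁻¹ = s * (u * t) * s⁻¹ := by rw [← D.inv]; group
          _ = _ := hphi
      calc s * u * s⁻¹ = s * u * s⁻¹ * t⁻¹ * t := by group
        _ = _ := by rw [h1]
    rcases eq_or_ne u 1 with rfl | hu1
    · refine ⟨t, D.htH, ?_⟩
      rw [hxe, hg, one_mul]
      calc t * s * t⁻¹ = s * (s⁻¹ * t * s) * t⁻¹ := by group
        _ = s * (t⁻¹ * t⁻¹) := by
          rw [show s⁻¹ * t * s = t⁻¹ by rw [hsinv]; simpa [hsinv] using D.inv, mul_assoc]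
        _ = s * t := by rw [← mul_inv_rev, eq_inv_of_mul_eq_one_left ht3, inv_inv]
    rcases S.three_cycle D.htH D.ht D.hvH D.hv hu (orderOf_two_of hu2 hu1) with e | e | e <;> rw [e] at hu' hg
    · exact absurd (D.fix.symm.trans hu') n2.symm
    · exfalso
      rw [D.swap] at hu'
      exact n2 (by rw [hu']; group)
    · refine ⟨t * (t * v * t⁻¹), mul_mem D.htH hv1, ?_⟩
      have h1 : t * v * t⁻¹ * s * (t * v * t⁻¹)⁻¹ = s * v := by
        have h2 := S.inv_third (mul_mem (mul_mem (inv_mem D.htH) D.hvH) D.htH)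
          ((by simpa using orderOf_conj_eq t⁻¹ v : orderOf (t⁻¹ * v * t) = orderOf v).trans D.hv)
          hv1 ((orderOf_conj_eq t v).trans D.hv) D.hvH D.hv n3.symm n2 n1
        rw [inv_of_orderOf ((orderOf_conj_eq t v).trans D.hv)]
        conv_rhs => rw [← h2, ← D.swap]
        simp only [mul_assoc, inv_mul_cancel_left, hsinv]
        rw [← mul_assoc s s, hs2, one_mul]
      calc t * (t * v * t⁻¹) * s * (t * (t * v * t⁻¹))⁻¹
          = t * (t * v * t⁻¹ * s * (t * v * t⁻¹)⁻¹) * t⁻¹ := by group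
        _ = s * (s⁻¹ * t * s) * (v * t⁻¹) := by rw [h1]; group
        _ = s * t⁻¹ * (v * t⁻¹) := by
          rw [show s⁻¹ * t * s = t⁻¹ by rw [hsinv]; simpa [hsinv] using D.inv]
        _ = s * (t⁻¹ * v * t) * (t⁻¹ * t⁻¹) := by group
        _ = _ := by
          rw [← mul_inv_rev, eq_inv_of_mul_eq_one_left ht3, inv_inv, mul_assoc, ← hg, ← hxe]
  · have hu' : s * u * s⁻¹ = t * u * t⁻¹ := by
      have htt : t * t = t⁻¹ := eq_inv_of_mul_eq_one_left ht3
      rw [hg, htt, mul_inv_rev, inv_inv, hui] at hphi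
      calc s * u * s⁻¹ = s * (u * t⁻¹) * s⁻¹ * (s * t * s⁻¹) := by group
        _ = _ := by rw [hphi, D.inv]
    rcases eq_or_ne u 1 with rfl | hu1
    · refine ⟨t⁻¹, inv_mem D.htH, ?_⟩
      rw [hxe, hg, one_mul, inv_inv]
      calc t⁻¹ * s * t = s * (s⁻¹ * t⁻¹ * s) * t := by group
        _ = s * t * t := by
          rw [show s⁻¹ * t⁻¹ * s = t by rw [hsinv]; simpa [hsinv] using htinv]
        _ = _ := mul_assoc _ _ _
    rcases S.three_cycle D.htH D.ht D.hvH D.hv hu (orderOf_two_of hu2 hu1) with e | e | e <;> rw [e] at hu' hg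
    · exact absurd (D.fix.symm.trans hu') n1.symm
    · refine ⟨t⁻¹ * (t * v * t⁻¹), mul_mem (inv_mem D.htH) hv1, ?_⟩
      have h1 : t * v * t⁻¹ * s * (t * v * t⁻¹)⁻¹ = s * v := by
        have h2 := S.inv_third (mul_mem (mul_mem (inv_mem D.htH) D.hvH) D.htH)
          ((by simpa using orderOf_conj_eq t⁻¹ v : orderOf (t⁻¹ * v * t) = orderOf v).trans D.hv)
          hv1 ((orderOf_conj_eq t v).trans D.hv) D.hvH D.hv n3.symm n2 n1
        rw [inv_of_orderOf ((orderOf_conj_eq t v).trans D.hv)]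
        conv_rhs => rw [← h2, ← D.swap]
        simp only [mul_assoc, inv_mul_cancel_left, hsinv]
        rw [← mul_assoc s s, hs2, one_mul]
      calc t⁻¹ * (t * v * t⁻¹) * s * (t⁻¹ * (t * v * t⁻¹))⁻¹
          = t⁻¹ * (t * v * t⁻¹ * s * (t * v * t⁻¹)⁻¹) * t := by group
        _ = s * (s⁻¹ * t⁻¹ * s) * (v * t) := by rw [h1]; group
        _ = s * t * (v * t) := by
          rw [show s⁻¹ * t⁻¹ * s = t by rw [hsinv]; simpa [hsinv] using htinv]
        _ = s * (t * v * t⁻¹) * (t * t) := by group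
        _ = _ := by rw [mul_assoc, ← hg, ← hxe]
    · exfalso
      rw [D.swap'] at hu'
      exact n1 (by rw [hu']; group)

theorem cent_s (S : Setting G Ω a b) (D : SymData a b s t v) {h : G}
    (hh : h ∈ (pairStab a b : Subgroup G)) (hc : h * s = s * h) : h = 1 ∨ h = v := by
  have ht3 : t * t * t = 1 := by
    have := pow_orderOf_eq_one t
    rwa [D.ht, pow_succ, pow_two] at this
  obtain ⟨u, hu, hu2, hg⟩ := S.coset_three D.htH D.ht hh
  have hfix : s * h * s⁻¹ = h := by rw [← hc]; group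
  have hsu : s * u * s⁻¹ ∈ (pairStab a b : Subgroup G) := S.conj_mem_of_swap D.hsa D.swap_back hu
  have hnot : ∀ w ∈ (pairStab a b : Subgroup G), w * w = 1 → w ≠ t := by
    rintro w - hw2 rfl
    have h1 := D.ht
    rcases eq_or_ne w 1 with rfl | hne
    · simp at h1
    · rw [orderOf_two_of hw2 hne] at h1; norm_num at h1
  have hsu2 : s * u * s⁻¹ * (s * u * s⁻¹) = 1 := by
    rw [show s * u * s⁻¹ * (s * u * s⁻¹) = s * (u * u) * s⁻¹ by group, hu2]; group
  have hprod : ∀ w, w ∈ (pairStab a b : Subgroup G) → w * w = 1 → (u * w) * (u * w) = 1 ∧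
      u * w ∈ (pairStab a b : Subgroup G) := fun w hw hw2 =>
    ⟨(S.inv_mul hu hu2 hw hw2).2, mul_mem hu hw⟩
  obtain ⟨hP, hPm⟩ := hprod _ hsu hsu2
  have hui : u⁻¹ = u := inv_eq_of_mul_eq_one_right hu2
  have hsui : (s * u * s⁻¹)⁻¹ = s * u * s⁻¹ := inv_eq_of_mul_eq_one_right hsu2
  rcases hg with e | e | e
  · subst e
    rcases eq_or_ne h 1 with h1 | h1
    · exact Or.inl h1
    obtain ⟨n1, n2, n3⟩ := D.conjugates_ne S
    rcases S.three_cycle D.htH D.ht D.hvH D.hv hh (orderOf_two_of hu2 h1) with e | e | e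
    · exact Or.inr e
    · rw [e] at hfix; exact absurd (hfix.symm.trans D.swap) n3
    · rw [e] at hfix; exact absurd (hfix.symm.trans D.swap') n3.symm
  · exfalso
    have h1 : s * u * s⁻¹ * t⁻¹ = u * t := by
      rw [← e]; conv_rhs => rw [← hfix]
      rw [e, ← D.inv]; group
    refine hnot _ hPm hP ?_
    calc u * (s * u * s⁻¹) = u * (s * u * s⁻¹ * t⁻¹) * t := by group
      _ = t * t := by rw [h1, ← mul_assoc, hu2, one_mul]
      _ = t := by
        exfalso
        have h2 : u * (s * u * s⁻¹) = t * t := by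
          calc u * (s * u * s⁻¹) = u * (s * u * s⁻¹ * t⁻¹) * t := by group
            _ = t * t := by rw [h1, ← mul_assoc, hu2, one_mul]
        rw [h2] at hP
        rw [show t * t * (t * t) = t * t * t * t by group, ht3, one_mul] at hP
        simp [hP] at *
        exact absurd D.ht (by simp [hP])
  · exfalso
    have h1 : s * u * s⁻¹ * t = u * (t * t) := by
      rw [← e]; conv_rhs => rw [← hfix]
      rw [e, show s * (u * (t * t)) * s⁻¹ = s * u * s⁻¹ * ((s * t * s⁻¹) * (s * t * s⁻¹)) by group, D.inv,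
        ← mul_inv_rev, eq_inv_of_mul_eq_one_left ht3, inv_inv]
    refine hnot _ hPm hP ?_
    calc u * (s * u * s⁻¹) = u * (s * u * s⁻¹ * t) * t⁻¹ := by group
      _ = t := by rw [h1, ← mul_assoc, hu2, one_mul]; group

end SymData

namespace Setting

variable {a b : Ω} (S : Setting G Ω a b)

include S

theorem exists_symData [Finite G] [Finite Ω] (hno : ∀ z : G, ¬ CenSwap a b z) :
    ∃ s t v : G, SymData a b s t v := by
  obtain ⟨J, D⟩ := S.exists_invData
  obtain ⟨x, hxJ, hxa⟩ := S.exists_swap_conj D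
  have hx := D.orderOf_of_conj hxJ
  have hxb := swap_back hx hxa
  have hx2 := mul_self_of_orderOf hx
  have hxi := inv_of_orderOf hx
  have hmem : ∀ h ∈ (pairStab a b : Subgroup G), x * h * x⁻¹ ∈ (pairStab a b : Subgroup G) :=
    fun h hh => S.conj_mem_of_swap hxa hxb hh
  have hback : ∀ h : G, x * (x * h * x⁻¹) * x⁻¹ = h := fun h => by
    rw [show x * (x * h * x⁻¹) * x⁻¹ = (x * x) * h * (x * x)⁻¹ by group, hx2]; group
  obtain ⟨v, hv, hv2, hfix⟩ :
      ∃ v ∈ (pairStab a b : Subgroup G), orderOf v = 2 ∧ x * v * x⁻¹ = v := by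
    by_cases hJ : x * J * x⁻¹ = J
    · exact ⟨J, D.memJ, D.ordJ, hJ⟩
    have hm' := hmem J D.memJ
    have ho' : orderOf (x * J * x⁻¹) = 2 := (orderOf_conj_eq x J).trans D.ordJ
    obtain ⟨h1, h2⟩ := S.inv_mul D.memJ (mul_self_of_orderOf D.ordJ) hm' (mul_self_of_orderOf ho')
    refine ⟨J * (x * J * x⁻¹), mul_mem D.memJ hm', orderOf_two_of h2 fun e => hJ ?_, ?_⟩
    · exact (eq_inv_of_mul_eq_one_right e).trans (inv_of_orderOf D.ordJ)
    · rw [show x * (J * (x * J * x⁻¹)) * x⁻¹ = (x * J * x⁻¹) * (x * (x * J * x⁻¹) * x⁻¹) by group, hback, h1]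
  obtain ⟨t, ht, ht3⟩ := S.exists_three
  have htc : t * t * t = 1 := by
    have := pow_orderOf_eq_one t
    rwa [ht3, pow_succ, pow_two] at this
  have hv1 : t * v * t⁻¹ ∈ (pairStab a b : Subgroup G) := mul_mem (mul_mem ht hv) (inv_mem ht)
  have hv2' : t⁻¹ * v * t ∈ (pairStab a b : Subgroup G) := mul_mem (mul_mem (inv_mem ht) hv) ht
  have hswap : x * (t * v * t⁻¹) * x⁻¹ = t⁻¹ * v * t := by
    rcases S.three_cycle ht ht3 hv hv2 (hmem _ hv1) ((orderOf_conj_eq x _).trans ((orderOf_conj_eq t v).trans hv2))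
      with e | e | e
    · exfalso
      have h1 : t * v * t⁻¹ = v := (MulAut.conj x).injective (by simpa using e.trans hfix.symm)
      exact S.three_moves ht ht3 hv hv2 (mul_inv_eq_iff_eq_mul.1 h1)
    · exfalso
      -- `x` centralises all involutions of the stabiliser
      have hall : ∀ w ∈ (pairStab a b : Subgroup G), w * w = 1 → x * w * x⁻¹ = w := by
        intro w hw hw2
        rcases eq_or_ne w 1 with rfl | hne
        · group
        rcases S.three_cycle ht ht3 hv hv2 hw (orderOf_two_of hw2 hne) with f | f | f <;> rw [f]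
        · exact hfix
        · exact e
        · rcases S.three_cycle ht ht3 hv hv2 (hmem _ hv2') ((orderOf_conj_eq x _).trans
            ((by simpa using orderOf_conj_eq t⁻¹ v : orderOf (t⁻¹ * v * t) = orderOf v).trans hv2)) with g | g | g
          · have h1 : t⁻¹ * v * t = v := (MulAut.conj x).injective (by simpa using g.trans hfix.symm)
            exact absurd (by conv_lhs => rw [← h1]
                             group) (S.three_moves ht ht3 hv hv2)
          · have h1 : t⁻¹ * v * t = t * v * t⁻¹ := (MulAut.conj x).injective (by simpa using g.trans e.symm)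
            rw [g, ← h1]
          · exact g
      have hu : x * t * x⁻¹ * t⁻¹ ∈ (pairStab a b : Subgroup G) := mul_mem (hmem t ht) (inv_mem ht)
      have hu2 : x * t * x⁻¹ * t⁻¹ * (x * t * x⁻¹ * t⁻¹) = 1 := by
        refine S.sq_of_commute hu hv hv2 (mul_inv_eq_iff_eq_mul.1 ?_)
        have h1 : t⁻¹ * v * t * (t⁻¹ * v * t) = 1 := by
          rw [show t⁻¹ * v * t * (t⁻¹ * v * t) = t⁻¹ * (v * v) * t by group, mul_self_of_orderOf hv2]; group
        calc x * t * x⁻¹ * t⁻¹ * v * (x * t * x⁻¹ * t⁻¹)⁻¹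
            = x * t * (x⁻¹ * (t⁻¹ * v * t) * x) * t⁻¹ * x⁻¹ := by group
          _ = x * t * (t⁻¹ * v * t) * t⁻¹ * x⁻¹ := by
            rw [show x⁻¹ * (t⁻¹ * v * t) * x = t⁻¹ * v * t by
              conv_lhs => rw [← hall _ hv2' h1]
              group]
          _ = v := by rw [show x * t * (t⁻¹ * v * t) * t⁻¹ * x⁻¹ = x * v * x⁻¹ by group, hfix]
      obtain ⟨f, hf, hr⟩ := S.exists_embed
      obtain ⟨t', ht'⟩ := S.exists_preimage ht f hr
      obtain ⟨u', hu'⟩ := S.exists_preimage hu f hr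
      obtain ⟨w', hw1, hw2⟩ := Alt.three_commutator t' u' (hf (by rw [map_mul, map_mul, ht', htc, map_one]))
        (by rintro rfl; simp [← ht'] at ht3) (hf (by rw [map_mul, hu', hu2, map_one]))
      set w := f w' with hwdef
      have hwH : w ∈ (pairStab a b : Subgroup G) := hr ▸ ⟨w', rfl⟩
      have hww : w * w = 1 := by rw [hwdef, ← map_mul, hw1, map_one]
      have hwt : w * t * w⁻¹ = x * t * x⁻¹ := by
        have := congrArg f hw2
        rw [map_mul, map_mul, map_inv, map_mul, hu', ht'] at this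
        rw [this]; group
      refine hno (w⁻¹ * x) (S.censwap_of_swap ?_ ?_ fun h hh => ?_)
      · rw [mul_smul, hxa, inv_smul_eq_iff, (mem_pairStab.1 hwH).2]
      · rw [mul_smul, hxb, inv_smul_eq_iff, (mem_pairStab.1 hwH).1]
      obtain ⟨u, hu', hu2', hc⟩ := S.coset_three ht ht3 hh
      have cu : w⁻¹ * x * u = u * (w⁻¹ * x) := by
        refine mul_inv_eq_iff_eq_mul.1 ?_
        rw [show w⁻¹ * x * u * (w⁻¹ * x)⁻¹ = w⁻¹ * (x * u * x⁻¹) * w by group, hall u hu' hu2',
          mul_assoc, (S.inv_mul hu' hu2' hwH hww).1]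
        group
      have ct : w⁻¹ * x * t = t * (w⁻¹ * x) := by
        refine mul_inv_eq_iff_eq_mul.1 ?_
        rw [show w⁻¹ * x * t * (w⁻¹ * x)⁻¹ = w⁻¹ * (x * t * x⁻¹) * w by group, ← hwt]
        group
      rcases hc with rfl | rfl | rfl
      · exact cu
      · exact (Commute.mul_right (show Commute _ _ from cu) ct).eq
      · exact (Commute.mul_right (show Commute _ _ from cu) (Commute.mul_right ct ct)).eq
    · exact e
  have hg : x * t * x⁻¹ ∈ (pairStab a b : Subgroup G) := hmem t ht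
  have hgo : orderOf (x * t * x⁻¹) = 3 := (orderOf_conj_eq x t).trans ht3
  obtain ⟨u, hu, hu2, hc⟩ := S.coset_three ht ht3 hg
  obtain ⟨w, hwH, hww, hwt⟩ : ∃ w ∈ (pairStab a b : Subgroup G), w * w = 1 ∧ w * t⁻¹ * w⁻¹ = x * t * x⁻¹ := by
    rcases hc with e | e | e
    · exfalso
      rcases eq_or_ne u 1 with rfl | hne
      · rw [e] at hgo; simp at hgo
      · rw [e, orderOf_two_of hu2 hne] at hgo; norm_num at hgo
    · exfalso
      have h1 : x * t * x⁻¹ * v * (x * t * x⁻¹)⁻¹ = t⁻¹ * v * t := by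
        rw [← hswap]
        conv_lhs => rw [← hfix]
        group
      rw [e, show u * t * v * (u * t)⁻¹ = u * (t * v * t⁻¹) * u⁻¹ by group] at h1
      have hne : orderOf (t * v * t⁻¹) = 2 := (orderOf_conj_eq t v).trans hv2
      rw [(S.inv_mul hu hu2 hv1 (mul_self_of_orderOf hne)).1, mul_inv_cancel_right] at h1
      have h2 : (t * t) * v * (t * t)⁻¹ = v := by
        calc (t * t) * v * (t * t)⁻¹ = t * (t * v * t⁻¹) * t⁻¹ := by group
          _ = v := by rw [h1]; group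
      rw [eq_inv_of_mul_eq_one_left htc, inv_inv] at h2
      exact S.three_moves ht ht3 hv hv2 (by conv_lhs => rw [← h2]
                                            group)
    · obtain ⟨f, hf, hr⟩ := S.exists_embed
      obtain ⟨t', ht'⟩ := S.exists_preimage ht f hr
      obtain ⟨u', hu'⟩ := S.exists_preimage hu f hr
      have h3' : t' * t' * t' = 1 := hf (by rw [map_mul, map_mul, ht', htc, map_one])
      obtain ⟨w', hw1, hw2⟩ := Alt.three_commutator (t' * t') u'
        (by rw [show t' * t' * (t' * t') * (t' * t') = (t' * t' * t') * (t' * t' * t') by group, h3', one_mul])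
        (fun h => by
          have : t' = 1 := by rw [← h3', h, one_mul]
          simp [← ht', this] at ht3) (hf (by rw [map_mul, hu', hu2, map_one]))
      refine ⟨f w', hr ▸ ⟨w', rfl⟩, by rw [← map_mul, hw1, map_one], ?_⟩
      have := congrArg f hw2
      simp only [map_mul, map_inv, ht', hu'] at this
      rw [← eq_inv_of_mul_eq_one_left htc, this, e]
  have hwi : w⁻¹ = w := inv_eq_of_mul_eq_one_right hww
  have hinv : (w⁻¹ * x) * t * (w⁻¹ * x)⁻¹ = t⁻¹ := by
    rw [show w⁻¹ * x * t * (w⁻¹ * x)⁻¹ = w⁻¹ * (x * t * x⁻¹) * w by group, ← hwt]; group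
  have hcw : ∀ y ∈ (pairStab a b : Subgroup G), orderOf y = 2 → w⁻¹ * y * w = y := by
    intro y hy hy2
    rw [hwi, (S.inv_mul hwH hww hy (mul_self_of_orderOf hy2)).1, mul_assoc, hww, mul_one]
  have hfix' : (w⁻¹ * x) * v * (w⁻¹ * x)⁻¹ = v := by
    rw [show w⁻¹ * x * v * (w⁻¹ * x)⁻¹ = w⁻¹ * (x * v * x⁻¹) * w by group, hfix, hcw v hv hv2]
  have hsw' : (w⁻¹ * x) * (t * v * t⁻¹) * (w⁻¹ * x)⁻¹ = t⁻¹ * v * t := by
    rw [show w⁻¹ * x * (t * v * t⁻¹) * (w⁻¹ * x)⁻¹ = w⁻¹ * (x * (t * v * t⁻¹) * x⁻¹) * w by group, hswap]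
    exact hcw _ hv2' ((by simpa using orderOf_conj_eq t⁻¹ v : orderOf (t⁻¹ * v * t) = orderOf v).trans hv2)
  have hsa : (w⁻¹ * x) • a = b := by rw [mul_smul, hxa, inv_smul_eq_iff, (mem_pairStab.1 hwH).2]
  have hsb : (w⁻¹ * x) • b = a := by rw [mul_smul, hxb, inv_smul_eq_iff, (mem_pairStab.1 hwH).1]
  refine ⟨w⁻¹ * x, t, v, orderOf_two_of ?_ ?_, hsa, ht, ht3, hinv, hv, hv2, hfix', hsw'⟩
  · set s := w⁻¹ * x with hsdef
    have hm : s * s ∈ (pairStab a b : Subgroup G) :=
      mem_pairStab.2 ⟨by rw [mul_smul, hsa, hsb], by rw [mul_smul, hsb, hsa]⟩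
    have h1 : s * s * t = t * (s * s) := mul_inv_eq_iff_eq_mul.1 (by
      rw [show s * s * t * (s * s)⁻¹ = s * (s * t * s⁻¹) * s⁻¹ by group, hinv,
        show s * t⁻¹ * s⁻¹ = (s * t * s⁻¹)⁻¹ by group, hinv, inv_inv])
    have h2 : s * s * v = v * (s * s) := mul_inv_eq_iff_eq_mul.1 (by
      rw [show s * s * v * (s * s)⁻¹ = s * (s * v * s⁻¹) * s⁻¹ by group, hfix', hfix'])
    have h3 := orderOf_dvd_of_mem_zpowers (S.three_cent ht ht3 hm h1)
    have h4 : orderOf (s * s) ∣ 2 := orderOf_dvd_of_pow_eq_one (by rw [pow_two]; exact S.sq_of_commute hm hv hv2 h2)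
    rw [ht3] at h3
    have h5 := Nat.dvd_gcd h3 h4
    norm_num at h5
    exact h5
  · intro e
    exact S.ne (by rw [← hsa, e, one_smul])

/-- Without a central swap all involutions are conjugate to `J`. -/
theorem isConj_of_sym [Finite G] [Finite Ω] {J : G} (D : InvData G Ω a b J)
    (hno : ∀ z : G, ¬ CenSwap a b z) {y : G} (hy : orderOf y = 2) : IsConj J y := by
  haveI := S.faithful
  obtain ⟨s, t, v, hd⟩ := S.exists_symData hno
  obtain ⟨x, hxJ, hxa⟩ := S.exists_swap_conj D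
  obtain ⟨c, hc⟩ : ∃ c : Ω, y • c ≠ c := by
    by_contra hcon
    push Not at hcon
    have : y = 1 := eq_of_smul_eq_smul fun c : Ω => by rw [hcon, one_smul]
    simp [this] at hy
  obtain ⟨g, hg1, hg2⟩ := exists_smul_pair S.two (Ne.symm hc) S.ne
  change g • c = a at hg1
  change g • y • c = b at hg2
  have hga : (g * y * g⁻¹) • a = b := by rw [← hg1, mul_smul, mul_smul, inv_smul_smul, hg2]
  obtain ⟨h1, -, e1⟩ := hd.swap_cases S ((orderOf_conj_eq g y).trans hy) hga
  obtain ⟨h2, -, e2⟩ := hd.swap_cases S (D.orderOf_of_conj hxJ) hxa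
  have p1 : IsConj s y := (isConj_iff.2 ⟨h1, e1⟩).trans (isConj_iff.2 ⟨g, rfl⟩).symm
  exact (hxJ.trans (isConj_iff.2 ⟨h2, e2⟩).symm).trans p1

theorem beta_sym [Finite G] [Finite Ω] {J : G} (D : InvData G Ω a b J) (hno : ∀ z : G, ¬ CenSwap a b z) :
    InvData.beta a b J = 6 := by
  classical
  obtain ⟨s, t, v, hd⟩ := S.exists_symData hno
  have := Fintype.ofFinite G
  let f : ↥(pairStab a b : Subgroup G) → {x : G // IsConj J x ∧ x • a = b} := fun h =>
    ⟨h.1 * s * h.1⁻¹, S.isConj_of_sym D hno ((orderOf_conj_eq _ s).trans hd.hs), by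
      obtain ⟨h1, h2⟩ := mem_pairStab.1 h.2
      rw [mul_smul, mul_smul, show h.1⁻¹ • a = a by rw [inv_smul_eq_iff, h1], hd.hsa, h2]⟩
  have hfib : ∀ x, Nat.card {h // f h = x} = 2 := by
    rintro ⟨x, hx1, hx2⟩
    obtain ⟨h₀, hh₀, e₀⟩ := hd.swap_cases S (D.orderOf_of_conj hx1) hx2
    have hvne : v ≠ 1 := fun e => by simpa [e] using hd.hv
    refine Nat.card_eq_two_iff.2 ⟨⟨⟨h₀, hh₀⟩, Subtype.ext e₀⟩, ⟨⟨h₀ * v, mul_mem hh₀ hd.hvH⟩, Subtype.ext ?_⟩,
      fun e => hvne ?_, ?_⟩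
    · show h₀ * v * s * (h₀ * v)⁻¹ = x
      rw [← e₀]
      have : v * s * v⁻¹ = s := by
        calc v * s * v⁻¹ = (s * v * s⁻¹) * s * v⁻¹ := by rw [hd.fix]
          _ = s := by group
      rw [show h₀ * v * s * (h₀ * v)⁻¹ = h₀ * (v * s * v⁻¹) * h₀⁻¹ by group, this]
    · have := congrArg (fun p => (p.1.1 : G)) e
      simpa using this
    · refine Set.eq_univ_of_forall fun ⟨⟨h, hh⟩, hf⟩ => ?_
      have hf' : h * s * h⁻¹ = x := congrArg Subtype.val hf
      have hc : h₀⁻¹ * h * s = s * (h₀⁻¹ * h) := mul_inv_eq_iff_eq_mul.1 (by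
        rw [show h₀⁻¹ * h * s * (h₀⁻¹ * h)⁻¹ = h₀⁻¹ * (h * s * h⁻¹) * h₀ by group, hf', ← e₀]
        group)
      rcases hd.cent_s S (mul_mem (inv_mem hh₀) hh) hc with e | e
      · left
        exact Subtype.ext (Subtype.ext (inv_mul_eq_one.1 e).symm)
      · right
        refine Subtype.ext (Subtype.ext ?_)
        show h = h₀ * v
        rw [← e]; group
  have h := Nat.card_congr (Equiv.sigmaFiberEquiv f).symm
  rw [Nat.card_sigma, Finset.sum_congr rfl fun x _ => hfib x, Finset.sum_const, smul_eq_mul, Finset.card_univ,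
    ← Nat.card_eq_fintype_card, S.card_H] at h
  rw [InvData.beta]
  omega

end Setting

end CfsgLib.KimuraFour
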