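import Cfsg.Agent.Lib.Perm.KimuraFour.BData
import Cfsg.Agent.Lib.Perm.KimuraFour.EvenBasic

/-!
# Even degree, `n = i ^ 2`: a regular normal elementary abelian subgroup
-/

set_option autoImplicit false

namespace CfsgLib.KimuraFour

open MulAction

variable {G : Type*} [Group G] [Finite G] {Ω : Type*} [MulAction G Ω] [Finite Ω] {a b : Ω} {J : G}

local notation "Cent" J:max => Subgroup.centralizer (Singleton.singleton J : Set _)

/-- The standing data when the degree is `q ^ 2` with `q = 2 ^ k` the number of fixed points of `J`. -/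
structure ThreeData (G : Type*) [Group G] (Ω : Type*) [MulAction G Ω] (a b : Ω) (J : G) (N : Subgroup G)
    (k : ℕ) : Prop where
  setting : Setting G Ω a b
  invData : InvData G Ω a b J
  kernel : RegularKernel Ω 2 N
  k_pos : 0 < k
  fix : fixCard Ω J = 2 ^ k
  deg : Nat.card Ω = 2 ^ k * 2 ^ k

namespace Setting

variable (S : Setting G Ω a b) (D : InvData G Ω a b J) {z : G} (hz : CenSwap a b z) (h1 : ¬ IsConj J z)
  (h2 : IsConj J (z * J)) (hn : Nat.card Ω = fixCard Ω J * fixCard Ω J) (heven : Even (Nat.card Ω))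

include S D hz h1 h2 hn heven

/-- A swap not conjugate to `J` is the central swap. -/
theorem eq_censwap_three {x : G} (hx : orderOf x = 2) (hxn : ¬ IsConj J x) (hxa : x • a = b) : x = z := by
  rcases S.swap_cases hz hx hxa with e | ⟨w, hw, hw2, rfl⟩
  · exact e
  · exact absurd (h2.trans (S.censwap_mul_conj hz D.memJ D.ordJ hw hw2)) hxn

/-- In case B the number of fixed points is a square of a power of two. -/
theorem three_caseB (hB : ¬ CaseA a b J) :
    ∃ v : ↥(Cent J), BData D v ∧ ∃ m : ℕ, 0 < m ∧ fixCard ↥(fixPts Ω J) (induce Ω J v) = 2 ^ m ∧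
      fixCard Ω J = 2 ^ m * 2 ^ m := by
  classical
  obtain ⟨v, B⟩ := S.exists_bData D hB
  have hzC : z ∈ Cent J := Subgroup.mem_centralizer_singleton_iff.2 (hz.2.2 J D.memJ)
  obtain ⟨hy2, hya, hyu, -, -, hswap⟩ := B.swap_facts S hz hzC
  set y := induce Ω J ⟨z, hzC⟩ with hy
  set u := induce Ω J v with hu
  have hyn : ¬ IsConj u y := fun h => h1 (B.isConj_of_conj S _ h)
  have hone : ∀ x y', IsConj u x → x • D.fa = D.fb → IsConj u y' → y' • D.fa = D.fb → x = y' := by
    intro x y' hx hxa hx' hxa'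
    rcases hswap x (B.inv.orderOf_of_conj hx) hxa with e | e
    · exact absurd (e ▸ hx) hyn
    rcases hswap y' (B.inv.orderOf_of_conj hx') hxa' with e' | e'
    · exact absurd (e' ▸ hx') hyn
    rw [e, e']
  obtain ⟨x₀, hx₀, hx₀a⟩ := B.inv.exists_conj_swap
  have hyu' : IsConj u (y * u) := by
    rcases hswap x₀ (B.inv.orderOf_of_conj hx₀) hx₀a with e | e
    · exact absurd (e ▸ hx₀) hyn
    · exact e ▸ hx₀
  have hother : ∀ x y', orderOf x = 2 → ¬ IsConj u x → x • D.fa = D.fb → orderOf y' = 2 → ¬ IsConj u y' →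
      y' • D.fa = D.fb → x = y' := by
    intro x y' hx hxn hxa hx' hxn' hxa'
    rcases hswap x hx hxa with e | e
    · rcases hswap y' hx' hxa' with e' | e'
      · rw [e, e']
      · exact absurd (e' ▸ hyu') hxn'
    · exact absurd (e ▸ hyu') hxn
  obtain ⟨m, -, -, hm, hj, hi, -⟩ := B.inv.translations_of_two B.stab
    (by rw [card_fixPts]; exact D.even_fixCard heven) hone hother hy2 hyn hya
  rw [card_fixPts] at hi
  exact ⟨v, B, m, hm, hj, hi⟩

/-- The translations. -/
theorem exists_threeData : ∃ (N : Subgroup G) (k : ℕ), ThreeData G Ω a b J N k := by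
  classical
  haveI := S.faithful
  have hi := D.two_le_fixCard
  obtain ⟨k, hk0, hk⟩ : ∃ k : ℕ, 0 < k ∧ fixCard Ω J = 2 ^ k := by
    by_cases hA : CaseA a b J
    · obtain ⟨k, -, -, hk0, hk, -⟩ := D.even_induced (D.even_fixCard heven) (S.sharp_of_caseA D hA)
      exact ⟨k, hk0, hk⟩
    · obtain ⟨-, -, m, hm, -, hm2⟩ := S.three_caseB D hz h1 h2 hn heven hA
      exact ⟨m + m, by omega, by rw [hm2, pow_add]⟩
  have hdeg : Nat.card Ω = 2 ^ k * 2 ^ k := by rw [hn, hk]
  haveI : Nontrivial Ω := ⟨⟨a, b, S.ne⟩⟩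
  obtain ⟨N, R, -⟩ := exists_translations (m := k + k) S.two
    (P := fun x => orderOf x = 2 ∧ ¬ IsConj J x)
    (fun g x hx => ⟨(orderOf_conj_eq g x).trans hx.1,
      fun h => hx.2 (h.trans (isConj_iff.2 ⟨g⁻¹, by group⟩))⟩)
    (fun x hx => hx.1) (fun x hx c hc => hx.2 (D.isConj_of_fix heven hx.1 hc))
    (fun c d hcd => by
      obtain ⟨g, hg1, hg2⟩ := exists_smul_pair S.two S.ne hcd
      refine ⟨g * z * g⁻¹, ⟨(orderOf_conj_eq g z).trans hz.1,
        fun h => h1 (h.trans (isConj_iff.2 ⟨g⁻¹, by group⟩))⟩, ?_⟩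
      rw [← hg1, ← hg2, (smul_eq_iff_conj g z a b).2 hz.2.1])
    (fun x y hx hy c hxy => by
      have hne : c ≠ x • c := fun e => hx.2 (D.isConj_of_fix heven hx.1 e.symm)
      obtain ⟨g, hg1, hg2⟩ := exists_smul_pair S.two S.ne hne
      have key : ∀ w : G, orderOf w = 2 ∧ ¬ IsConj J w → w • c = x • c → g⁻¹ * w * g = z := fun w hw h =>
        S.eq_censwap_three D hz h1 h2 hn heven (by simpa using (orderOf_conj_eq g⁻¹ w).trans hw.1)
          (fun e => hw.2 (e.trans (isConj_iff.2 ⟨g, by group⟩)))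
          (by rw [mul_smul, mul_smul, hg1, h, ← hg2, inv_smul_smul])
      exact mul_left_cancel (mul_right_cancel ((key x hx rfl).trans (key y hy hxy.symm).symm)))
    (by rw [hdeg, pow_add]) inferInstance
  exact ⟨N, k, S, D, R, hk0, hk, hdeg⟩

end Setting

end CfsgLib.KimuraFour
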