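import Mathlib.Algebra.Ring.Subring.Basic
import Mathlib.Algebra.Group.Hom.Instances
import Mathlib.Algebra.Group.Hom.End
import Mathlib.Algebra.Ring.Hom.Defs
import Mathlib.GroupTheory.OrderOfElement
import Mathlib.Algebra.Group.Subgroup.Basic
import Mathlib.GroupTheory.Subgroup.Centralizer
import Mathlib.Tactic.Group
import Mathlib.Tactic.Abel
import Mathlib.Tactic.Ring

/-!
# A centrality criterion from an irreducible action

If `ρ` acts irreducibly on the fixed points `A` of the involution `J` in an elementary abelian normal `2`-group `N`,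
an element `x` of odd order commuting with `ρ` and `J` commutes with whatever commutes with `ρ`: on `N` the square of
`x` is the square of a polynomial in `ρ`.
-/

set_option autoImplicit false

namespace CfsgLib.KimuraFour

/-- The criterion. -/
theorem commute_of_irreducible {G : Type*} [Group G] (N Y : Subgroup G) [hN : N.Normal]
    (hexp : ∀ n ∈ N, n * n = 1) (hcomm : ∀ m ∈ N, ∀ n ∈ N, m * n = n * m)
    (hfaith : ∀ g ∈ Y, (∀ n ∈ N, g * n = n * g) → g = 1)
    {J ρ x c : G} (hJ : J * J = 1) (hJρ : ρ * J = J * ρ) (hJx : x * J = J * x) (hρx : x * ρ = ρ * x)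
    (hρc : c * ρ = ρ * c) (hxY : x ∈ Y) (hcY : c ∈ Y)
    (hirr : ∀ B : Subgroup G, B ≤ N ⊓ Subgroup.centralizer ({J} : Set G) → B ≠ ⊥ →
      (∀ n ∈ B, ρ * n * ρ⁻¹ ∈ B) → B = N ⊓ Subgroup.centralizer ({J} : Set G))
    (hA : N ⊓ Subgroup.centralizer ({J} : Set G) ≠ ⊥) (hodd : Odd (orderOf x)) : c * x = x * c := by
  classical
  letI : CommGroup ↥N :=
    { (inferInstance : Group ↥N) with mul_comm := fun m n => Subtype.ext (hcomm m.1 m.2 n.1 n.2) }
  let φ : G → AddMonoid.End (Additive ↥N) := fun g =>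
    { toFun := fun m => Additive.ofMul ⟨g * (Additive.toMul m : ↥N) * g⁻¹, hN.conj_mem _ (Additive.toMul m).2 g⟩
      map_zero' := by apply Additive.toMul.injective; apply Subtype.ext; simp
      map_add' := fun m n => by
        apply Additive.toMul.injective
        apply Subtype.ext
        show g * ((Additive.toMul m : ↥N) * (Additive.toMul n : ↥N) : G) * g⁻¹ = _
        simp [mul_assoc] }
  have hφ : ∀ (g : G) (m : Additive ↥N), ((Additive.toMul (φ g m) : ↥N) : G) = g * (Additive.toMul m : ↥N) * g⁻¹ :=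
    fun _ _ => rfl
  have hmul : ∀ g h : G, φ (g * h) = φ g * φ h := fun g h => AddMonoidHom.ext fun m => by
    apply Additive.toMul.injective
    apply Subtype.ext
    show (g * h) * _ * (g * h)⁻¹ = g * (h * _ * h⁻¹) * g⁻¹
    group
  have hone : φ 1 = 1 := AddMonoidHom.ext fun m => by
    apply Additive.toMul.injective
    apply Subtype.ext
    show 1 * ((Additive.toMul m : ↥N) : G) * 1⁻¹ = ((Additive.toMul m : ↥N) : G)
    group
  have hcommφ : ∀ {g h : G}, g * h = h * g → Commute (φ g) (φ h) := fun {g h} e => by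
    show φ g * φ h = φ h * φ g
    rw [← hmul, e, hmul]
  have hadd : ∀ m : Additive ↥N, m + m = 0 := fun m => by
    apply Additive.toMul.injective
    exact Subtype.ext (hexp _ (Additive.toMul m).2)
  set R : Subring (AddMonoid.End (Additive ↥N)) := Subring.closure {φ ρ} with hR
  have hRc : ∀ f : AddMonoid.End (Additive ↥N), Commute f (φ ρ) → ∀ P ∈ R, Commute f P := by
    intro f hf P hP
    have h1 : R ≤ Subring.centralizer {f} := Subring.closure_le.2 fun g hg => by
      rw [Set.mem_singleton_iff] at hg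
      subst hg
      exact Subring.mem_centralizer_iff.2 fun g hg => by rw [Set.mem_singleton_iff] at hg; subst hg; exact hf
    exact Subring.mem_centralizer_iff.1 (h1 hP) f rfl
  have hmemA : ∀ m : Additive ↥N, φ J m = m ↔
      ((Additive.toMul m : ↥N) : G) ∈ N ⊓ Subgroup.centralizer ({J} : Set G) := by
    intro m
    rw [← Additive.toMul.injective.eq_iff, ← Subtype.coe_inj, hφ]
    refine ⟨fun h => ⟨(Additive.toMul m).2, Subgroup.mem_centralizer_singleton_iff.2
      (mul_inv_eq_iff_eq_mul.1 h).symm⟩, fun h => mul_inv_eq_iff_eq_mul.2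
        (Subgroup.mem_centralizer_singleton_iff.1 h.2).symm⟩
  obtain ⟨a₀, ha₀, ha₀1⟩ : ∃ g ∈ N ⊓ Subgroup.centralizer ({J} : Set G), g ≠ 1 := by
    by_contra hcon
    push Not at hcon
    exact hA ((Subgroup.eq_bot_iff_forall _).2 hcon)
  set m₀ : Additive ↥N := Additive.ofMul ⟨a₀, ha₀.1⟩ with hm₀
  have hJm₀ : φ J m₀ = m₀ := (hmemA m₀).2 ha₀
  -- the orbit of `a₀` under the ring generated by `ρ`
  set B : Subgroup G :=
    { carrier := {g | ∃ P ∈ R, g = ((Additive.toMul (P m₀) : ↥N) : G)}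
      one_mem' := ⟨0, zero_mem R, rfl⟩
      mul_mem' := by
        rintro g h ⟨P, hP, rfl⟩ ⟨Q, hQ, rfl⟩
        exact ⟨P + Q, add_mem hP hQ, rfl⟩
      inv_mem' := by
        rintro g ⟨P, hP, rfl⟩
        exact ⟨-P, neg_mem hP, rfl⟩ } with hB
  have hBA : B = N ⊓ Subgroup.centralizer ({J} : Set G) := by
    refine hirr B ?_ ?_ ?_
    · rintro g ⟨P, hP, rfl⟩
      refine (hmemA _).1 ?_
      show (φ J * P) m₀ = P m₀
      rw [(hRc _ (hcommφ hJρ.symm) P hP).eq]
      show P (φ J m₀) = P m₀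
      rw [hJm₀]
    · intro h
      have h1 : a₀ ∈ B := ⟨1, one_mem R, rfl⟩
      rw [h] at h1
      exact ha₀1 (Subgroup.mem_bot.1 h1)
    · rintro n ⟨P, hP, rfl⟩
      exact ⟨φ ρ * P, mul_mem (Subring.subset_closure rfl) hP, rfl⟩
  have hgen : ∀ m : Additive ↥N, φ J m = m → ∃ P ∈ R, P m₀ = m := by
    intro m hm
    obtain ⟨P, hP, e⟩ : ((Additive.toMul m : ↥N) : G) ∈ B := hBA ▸ (hmemA m).1 hm
    exact ⟨P, hP, Additive.toMul.injective (Subtype.ext e.symm)⟩
  have hxR := hRc (φ x) (hcommφ hρx)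
  have hJR := hRc (φ J) (hcommφ hJρ.symm)
  obtain ⟨P, hP, hPx⟩ := hgen (φ x m₀) (by
    show (φ J * φ x) m₀ = φ x m₀
    rw [← (hcommφ hJx).eq]
    show φ x (φ J m₀) = φ x m₀
    rw [hJm₀])
  have hRR : ∀ Q ∈ R, Commute P Q := fun Q hQ => hRc P (hRc (φ ρ) (Commute.refl _) P hP).symm Q hQ
  have hag : ∀ m : Additive ↥N, φ J m = m → φ x m = P m := by
    intro m hm
    obtain ⟨Q, hQ, rfl⟩ := hgen m hm
    show (φ x * Q) m₀ = (P * Q) m₀
    rw [(hxR Q hQ).eq, (hRR Q hQ).eq]
    show Q (φ x m₀) = Q (P m₀)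
    rw [hPx]
  set δ := φ x - P with hδ
  have hδJ : Commute (φ J) δ := (hcommφ hJx.symm).sub_right (hJR P hP)
  have hδ2 : δ * δ = 0 := by
    refine AddMonoidHom.ext fun m => ?_
    show δ (δ m) = 0
    have hfixm : φ J (φ J m + m) = φ J m + m := by
      rw [map_add, show φ J (φ J m) = (φ J * φ J) m from rfl, ← hmul, hJ, hone]
      exact add_comm _ _
    have h1 : δ (φ J m) + δ m = 0 := by
      rw [← map_add]
      show φ x (φ J m + m) - P (φ J m + m) = 0
      rw [hag _ hfixm, sub_self]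
    have h2 : φ J (δ m) = δ m := by
      rw [show φ J (δ m) = (φ J * δ) m from rfl, hδJ.eq]
      show δ (φ J m) = δ m
      calc δ (φ J m) = δ (φ J m) + (δ m + δ m) := by rw [hadd, add_zero]
        _ = δ m := by rw [← add_assoc, h1, zero_add]
    show φ x (δ m) - P (δ m) = 0
    rw [hag _ h2, sub_self]
  have hsq : φ x * φ x = P * P := by
    have hδP : δ * P = P * δ := ((hxR P hP).sub_left (Commute.refl P)).eq
    have e : φ x = P + δ := by rw [hδ]; abel
    rw [e, add_mul, mul_add, mul_add, hδ2, hδP, add_zero]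
    refine AddMonoidHom.ext fun m => ?_
    show P (P m) + P (δ m) + P (δ m) = P (P m)
    rw [add_assoc, hadd, add_zero]
  have hc2 : φ c * (φ x * φ x) = (φ x * φ x) * φ c := by
    rw [hsq]
    exact ((hRc _ (hcommφ hρc) P hP).mul_right (hRc _ (hcommφ hρc) P hP)).eq
  rw [← hmul, ← hmul, ← hmul] at hc2
  have hcx : c * (x * x) = x * x * c := by
    have h1 : (x * x * c)⁻¹ * (c * (x * x)) = 1 := by
      refine hfaith _ (mul_mem (inv_mem (mul_mem (mul_mem hxY hxY) hcY)) (mul_mem hcY (mul_mem hxY hxY)))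
        fun n hn => ?_
      have h2 : c * (x * x) * n * (c * (x * x))⁻¹ = x * x * c * n * (x * x * c)⁻¹ :=
        congrArg (fun f : AddMonoid.End (Additive ↥N) =>
          ((Additive.toMul (f (Additive.ofMul ⟨n, hn⟩)) : ↥N) : G)) hc2
      calc (x * x * c)⁻¹ * (c * (x * x)) * n
          = (x * x * c)⁻¹ * (c * (x * x) * n * (c * (x * x))⁻¹) * (c * (x * x)) := by group
        _ = _ := by rw [h2]; group
    exact (inv_mul_eq_one.1 h1).symm
  obtain ⟨e, he⟩ := hodd
  have hxx : x = (x * x) ^ (e + 1) := by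
    rw [← pow_two, ← pow_mul, show 2 * (e + 1) = orderOf x + 1 by omega, pow_succ, pow_orderOf_eq_one, one_mul]
  calc c * x = c * (x * x) ^ (e + 1) := by rw [← hxx]
    _ = (x * x) ^ (e + 1) * c := (Commute.pow_right hcx (e + 1)).eq
    _ = x * c := by rw [← hxx]

end CfsgLib.KimuraFour
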