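import Cfsg.Agent.Lib.Perm.KimuraFour.ThreeInverted

/-!
# Degree `q ^ 2`, generic case B
-/

set_option autoImplicit false

namespace CfsgLib.KimuraFour

open MulAction

variable {G : Type*} [Group G] [Finite G] {Ω : Type*} [MulAction G Ω] [Finite Ω] {a b : Ω} {J : G}
  {N : Subgroup G} {k : ℕ}

local notation "Cent" J:max => Subgroup.centralizer (Singleton.singleton J : Set _)

namespace ThreeData

variable (T : ThreeData G Ω a b J N k) {v : ↥(Cent J)} (B : BData T.invData v)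

include T B

theorem card_fixN_v :
    Nat.card ↥(N ⊓ Cent J ⊓ Cent (v : G) : Subgroup G) = fixCard ↥(fixPts Ω J) (induce Ω J v) := by
  rw [fixCard]
  have hva : (v : G) • a = a := B.memH.1
  refine Nat.card_congr (Equiv.ofBijective
    (fun x => ⟨⟨x.1 • a, (T.mem_fix_iff x.2.1.1).1 x.2.1.2⟩, Subtype.ext ?_⟩) ⟨?_, ?_⟩)
  · rw [induce_smul]
    show (v : G) • x.1 • a = x.1 • a
    rw [← mul_smul, ← Subgroup.mem_centralizer_singleton_iff.1 x.2.2, mul_smul, hva]
  · rintro ⟨x, hx⟩ ⟨y, hy⟩ h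
    have hxy : x • a = y • a := congrArg (fun p => (p.1 : Ω)) h
    refine Subtype.ext (inv_mul_eq_one.1 (T.kernel.free _ (mul_mem (inv_mem hx.1.1) hy.1.1) a ?_))
    rw [mul_smul, ← hxy, inv_smul_smul]
  · rintro ⟨⟨c, hc⟩, hvc⟩
    obtain ⟨x, hx, hxc⟩ := T.kernel.trans a c
    have hvc' : (v : G) • c = c := congrArg Subtype.val hvc
    refine ⟨⟨x, ⟨hx, (T.mem_fix_iff hx).2 (by rw [hxc]; exact hc)⟩, Subgroup.mem_centralizer_singleton_iff.2 ?_⟩,
      Subtype.ext (Subtype.ext hxc)⟩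
    have hm : x⁻¹ * ((v : G) * x * (v : G)⁻¹) ∈ N := mul_mem (inv_mem hx) (T.kernel.normal.conj_mem x hx v)
    have h1 := T.kernel.free _ hm a (by
      rw [mul_smul, mul_smul, mul_smul, show (v : G)⁻¹ • a = a by rw [inv_smul_eq_iff, hva], hxc, hvc', ← hxc,
        inv_smul_smul])
    rw [inv_mul_eq_one] at h1
    exact eq_mul_inv_iff_mul_eq.1 h1

variable {m : ℕ} (hj : fixCard ↥(fixPts Ω J) (induce Ω J v) = 2 ^ m) {L : Subgroup G} (hL : LData a J k L)

include hj hL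

theorem card_cent_v_dvd : Nat.card ↥(L ⊓ Cent (v : G) : Subgroup G) ∣ 2 ^ m - 1 := by
  rw [← hj, ← T.card_fixN_v B]
  refine CfsgLib.Core.FPF.card_dvd_pred ?_ (CfsgLib.Core.FPF.fpf_mono (T.fpf hL) inf_le_left inf_le_left)
  intro x hx
  refine Subgroup.mem_normalizer_fintype fun n hn => ⟨?_, ?_⟩
  · exact (Subgroup.mem_normalizer_iff.1 (T.le_normalizer_fixN hL hx.1) n).1 hn.1
  · exact Subgroup.mul_mem _ (Subgroup.mul_mem _ hx.2 hn.2) (Subgroup.inv_mem _ hx.2)

variable (hk : k = m + m) {r : ℕ} {ρ : G} (hr : r.Prime) (hr5 : 5 ≤ r) (hρ : ρ ∈ L) (hρr : orderOf ρ = r)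
  (hprim : ∀ e, 0 < e → e < k → ¬ r ∣ 2 ^ e - 1)

include hk hr hr5 hρ hρr hprim

omit hr5 hρ hρr in
theorem not_dvd_cent : ¬ r ∣ Nat.card ↥(L ⊓ Cent (v : G) : Subgroup G) := fun h =>
  hprim m (by have := T.k_pos; omega) (by have := T.k_pos; omega) (h.trans (T.card_cent_v_dvd B hj hL))

theorem rho_cent_card : Nat.card ↥(L ⊓ Cent (v : G) : Subgroup G) * Nat.card ↥(L ⊓ Cent ρ : Subgroup G) =
    Nat.card ↥L * Nat.card ↥((L ⊓ Cent (v : G)) ⊓ (L ⊓ Cent ρ) : Subgroup G) := by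
  classical
  have hnot := T.not_dvd_cent B hj hL hk hr hprim
  set K : Subgroup G := L ⊓ Cent ρ with hK
  set F : Subgroup G := L ⊓ Cent (v : G) with hF
  have hn : F ≤ Subgroup.normalizer (K : Set G) := by
    intro x hx
    refine Subgroup.mem_normalizer_fintype fun y hy => ⟨hL.norm x (hL.le hx.1) y hy.1,
      Subgroup.mem_centralizer_singleton_iff.2 ?_⟩
    obtain ⟨s, hs⟩ := T.conj_rho hL hr hρ hρr (inv_mem (hL.le hx.1) : x⁻¹ ∈ centPt a J)
    rw [inv_inv] at hs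
    have hy' : Commute y ρ := Subgroup.mem_centralizer_singleton_iff.1 hy.2
    calc x * y * x⁻¹ * ρ = x * (y * (x⁻¹ * ρ * x)) * x⁻¹ := by group
      _ = x * ((x⁻¹ * ρ * x) * y) * x⁻¹ := by rw [hs, (hy'.zpow_right s).eq]
      _ = _ := by group
  have h := CfsgLib.Core.card_sup_mul_card_inf F K hn
  have heq : F ⊔ K = L := by
    refine le_antisymm (sup_le inf_le_left inf_le_left) fun x hx => ?_
    have hxv := T.conj_v_mem B hL hx
    have hvv := mul_self_of_orderOf B.ord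
    set s := x⁻¹ * ((v : G) * x * v) with hs
    have hsL : s ∈ L := mul_mem (inv_mem hx) hxv
    have hsv : (v : G) * s * v = s⁻¹ := by
      rw [hs, mul_inv_rev, mul_inv_rev, mul_inv_rev, inv_inv, inv_of_orderOf B.ord]
      calc (v : G) * (x⁻¹ * (v * x * v)) * v = v * x⁻¹ * v * x * (v * v) := by group
        _ = _ := by rw [hvv]; group
    obtain ⟨t, htm, htt, htinv⟩ := exists_half (x := s) (Nat.odd_iff.2 (Nat.two_dvd_ne_zero.1 (T.odd_mem hL hsL)))
    have htL : t ∈ L := Subgroup.zpowers_le.2 hsL htm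
    have htv := htinv v hvv hsv
    have hxt : x * t ∈ F := ⟨mul_mem hx htL, Subgroup.mem_centralizer_singleton_iff.2 (by
      calc x * t * v = (v * v) * (x * t) * v := by rw [hvv, one_mul]
        _ = v * (((v : G) * x * v) * ((v : G) * t * v)) := by
          calc (v : G) * v * (x * t) * v = v * (v * x * 1 * t * v) := by group
            _ = v * (v * x * ((v : G) * v) * t * v) := by rw [hvv]
            _ = _ := by group
        _ = v * (x * t) := by
          rw [htv, show (v : G) * x * v = x * s by rw [hs, mul_inv_cancel_left], ← htt]; group)⟩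
    have htK : t⁻¹ ∈ K := inv_mem ⟨htL, Subgroup.mem_centralizer_singleton_iff.2
      (T.comm_of_inverted B hL hr hρ hρr hnot htL htv)⟩
    have := Subgroup.mul_mem_sup hxt htK
    rwa [mul_inv_cancel_right] at this
  rw [heq] at h
  exact h.symm

/-- The centraliser of `ρ` fixing `a` in case B. -/
theorem cent_rho_facts : ∃ M : Subgroup G, M ≤ centPt a ρ ∧ ¬ 2 ∣ Nat.card ↥M ∧
    (∀ g ∈ centPt a ρ, ∀ y ∈ M, g * y * g⁻¹ ∈ M) ∧ L ⊓ Cent ρ ≤ M ∧
    (∀ x ∈ centPt a ρ, ¬ 2 ∣ orderOf x → x ∈ M) ∧ Nat.card ↥(centPt a ρ) = 2 * Nat.card ↥M ∧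
    ∀ x ∈ centPt a ρ, ∃ y ∈ M, x = y ∨ x = J * y := by
  classical
  haveI : Fact (Nat.Prime 2) := ⟨Nat.prime_two⟩
  have hnot := T.not_dvd_cent B hj hL hk hr hprim
  set C := centPt a ρ with hC
  set Q := Subgroup.zpowers J with hQ
  have hJ2 := mul_self_of_orderOf T.invData.ordJ
  have hQmem : ∀ {y : G}, y ∈ Q → y = 1 ∨ y = J := by
    intro y hy
    rw [hQ, Subgroup.mem_zpowers_iff] at hy
    obtain ⟨i, rfl⟩ := hy
    have h2 : J ^ (2 : ℤ) = 1 := by rw [zpow_two]; exact hJ2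
    rcases Int.even_or_odd i with ⟨j, rfl⟩ | ⟨j, rfl⟩
    · left; rw [← two_mul, zpow_mul, h2, one_zpow]
    · right; rw [zpow_add, zpow_mul, h2, one_zpow, one_mul, zpow_one]
  have hQC : Q ≤ C := Subgroup.zpowers_le.2 ⟨T.invData.smul_a,
    Subgroup.mem_centralizer_singleton_iff.2 (Subgroup.mem_centralizer_singleton_iff.1 (hL.le hρ).2).symm⟩
  have hnJ : ∀ x : G, x ∈ Subgroup.normalizer (Q : Set G) → x * J = J * x := by
    intro x hx
    rcases hQmem ((Subgroup.mem_normalizer_iff.1 hx J).1 (Subgroup.mem_zpowers J)) with e | e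
    · have := T.invData.ordJ
      rw [conj_eq_one_iff.1 e, orderOf_one] at this
      norm_num at this
    · exact mul_inv_eq_iff_eq_mul.1 e
  have hsyl : ∀ x ∈ C, (∃ e, x ^ 2 ^ e = 1) → x * J = J * x → x ∈ Q := by
    intro x hx ⟨e, he⟩ hxJ
    obtain ⟨l, hl, hcase⟩ := T.cent_rho_cases B hL hr hr5 hρ hρr hnot
      ⟨hx.1, Subgroup.mem_centralizer_singleton_iff.2 hxJ⟩ (Subgroup.mem_centralizer_singleton_iff.1 hx.2)
    have hlJ : Commute J l := (Subgroup.mem_centralizer_singleton_iff.1 (hL.le hl.1).2).symm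
    have hl1 : l ^ 2 ^ (e + 1) = 1 := by
      have h1 : x ^ 2 ^ (e + 1) = 1 := by rw [pow_succ, pow_mul, he, one_pow]
      rcases hcase with rfl | rfl
      · exact h1
      · rwa [hlJ.mul_pow, pow_succ' 2 e, pow_mul J, pow_two, hJ2, one_pow, one_mul, ← pow_succ'] at h1
    have hd := orderOf_dvd_of_pow_eq_one hl1
    have ho : orderOf l = 1 := Nat.eq_one_of_dvd_coprimes
      ((Nat.prime_two.coprime_iff_not_dvd.2 (T.odd_mem hL hl.1)).pow_left (e + 1)) hd dvd_rfl
    rw [orderOf_eq_one_iff] at ho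
    subst ho
    rcases hcase with e' | e'
    · rw [e']; exact one_mem _
    · rw [e', mul_one]; exact Subgroup.mem_zpowers J
  obtain ⟨M, hMC, hMn, -, hmem, hodd⟩ := exists_complement_in (q := 2) (C := C) (Q := Q) hQC
    (IsPGroup.of_card (n := 1) (by rw [hQ, Nat.card_zpowers, T.invData.ordJ, pow_one]))
    (fun x hx he hxn => hsyl x hx he (hnJ x hxn))
    (fun x _ hxn y hy => by
      rcases hQmem hy with rfl | rfl
      · rw [mul_one, one_mul]
      · exact hnJ x hxn)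
  have hM2 : ¬ 2 ∣ Nat.card ↥M := fun h => by
    obtain ⟨x, hx⟩ := exists_prime_orderOf_dvd_card' (G := ↥M) 2 h
    exact hodd x x.2 (by rw [Subgroup.orderOf_coe, hx])
  have hQn : Q ≤ Subgroup.normalizer (M : Set G) := fun w hw =>
    Subgroup.mem_normalizer_fintype fun y hy => hMn w (hQC hw) y hy
  have hinf : Q ⊓ M = ⊥ := (Subgroup.eq_bot_iff_forall _).2 fun x hx => by
    rcases hQmem hx.1 with rfl | rfl
    · rfl
    · exact absurd (T.invData.ordJ ▸ dvd_rfl) (hodd _ hx.2)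
  have h4 : ¬ 4 ∣ Nat.card ↥C := by
    intro h
    set Qc := Q.subgroupOf C with hQc
    have hQcard : Nat.card ↥Qc = 2 ^ 1 := by
      rw [Nat.card_congr (Subgroup.subgroupOfEquivOfLe hQC).toEquiv, hQ, Nat.card_zpowers, T.invData.ordJ, pow_one]
    have h2 := Sylow.prime_pow_dvd_card_normalizer (n := 1) (show 2 ^ (1 + 1) ∣ Nat.card ↥C from h) hQcard
    obtain ⟨R, hR⟩ := Sylow.exists_subgroup_card_pow_prime 2 h2
    have hsub : R.map (Subgroup.normalizer (Qc : Set ↥C)).subtype ≤ Qc := by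
      rintro _ ⟨x, hx, rfl⟩
      refine hsyl _ (x : ↥C).2 ⟨2, ?_⟩ ?_
      · have h5 : (⟨x, hx⟩ : ↥R) ^ Nat.card ↥R = 1 := pow_card_eq_one'
        rw [hR] at h5
        exact congrArg (fun y : ↥R => (((y : ↥(Subgroup.normalizer (Qc : Set ↥C))) : ↥C) : G)) h5
      · have h6 := (Subgroup.mem_normalizer_iff.1 x.2 ⟨J, hQC (Subgroup.mem_zpowers J)⟩).1
          (Subgroup.mem_zpowers J)
        rcases hQmem h6 with e' | e'
        · have h7 := T.invData.ordJ
          rw [show J = 1 from conj_eq_one_iff.1 e', orderOf_one] at h7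
          norm_num at h7
        · exact mul_inv_eq_iff_eq_mul.1 e'
    have h7 := Subgroup.card_dvd_of_le hsub
    rw [← Nat.card_congr (R.equivMapOfInjective _ (Subgroup.subtype_injective _)).toEquiv, hR, hQcard] at h7
    exact absurd (Nat.le_of_dvd (by norm_num) h7) (by norm_num)
  have hCeq : Q ⊔ M = C := by
    refine Subgroup.eq_of_le_of_card_ge (sup_le hQC hMC) ?_
    have hc := CfsgLib.Core.card_sup_mul_card_inf Q M hQn
    rw [hinf, Subgroup.card_bot, mul_one, hQ, Nat.card_zpowers, T.invData.ordJ] at hc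
    rw [hc]
    obtain ⟨e, o, ho, he⟩ := Nat.exists_eq_pow_mul_and_not_dvd (Nat.card_pos (α := ↥C)).ne' 2 (by norm_num)
    have h1 : o ∣ Nat.card ↥M := dvd_card_of_odd_mem hmem (he ▸ dvd_mul_left o (2 ^ e)) ho
    have h2 : 2 ^ e ∣ 2 := by
      by_cases he1 : e ≤ 1
      · exact pow_dvd_pow 2 he1
      · exact absurd (((pow_dvd_pow 2 (show 2 ≤ e by omega)).trans (dvd_mul_right _ o)) |> fun h => he ▸ h) h4
    rw [he]
    exact Nat.le_of_dvd (Nat.mul_pos (by norm_num) Nat.card_pos) (mul_dvd_mul h2 h1)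
  refine ⟨M, hMC, hM2, hMn, fun x hx => hmem x ⟨(hL.le hx.1).1, hx.2⟩ (T.odd_mem hL hx.1), hmem, ?_, fun x hx => ?_⟩
  · have hc := CfsgLib.Core.card_sup_mul_card_inf Q M hQn
    rwa [hinf, Subgroup.card_bot, mul_one, hQ, Nat.card_zpowers, T.invData.ordJ, ← hQ, hCeq] at hc
  · rw [← hCeq, ← SetLike.mem_coe, Subgroup.coe_mul_of_left_le_normalizer_right Q M hQn, Set.mem_mul] at hx
    obtain ⟨w, hw, y, hy, rfl⟩ := hx
    refine ⟨y, hy, ?_⟩
    rcases hQmem hw with rfl | rfl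
    · exact Or.inl (one_mul y)
    · exact Or.inr rfl

end ThreeData

end CfsgLib.KimuraFour
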