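import Cfsg.Agent.Lib.Perm.KimuraFour.ThreeRho
import Cfsg.Agent.Lib.Core.Basic

/-!
# The odd part of the centraliser of `J` in case B
-/

set_option autoImplicit false

namespace CfsgLib.KimuraFour

open MulAction

variable {G : Type*} [Group G] [Finite G] {Ω : Type*} [MulAction G Ω] [Finite Ω] {a b : Ω} {J : G}
  {N : Subgroup G} {k : ℕ}

local notation "Cent" J:max => Subgroup.centralizer (Singleton.singleton J : Set _)

namespace ThreeData

variable (T : ThreeData G Ω a b J N k) {v : ↥(Cent J)} (B : BData T.invData v)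

include T B

theorem v_mem : (v : G) ∈ (pairStab a b ⊓ Cent J : Subgroup G) := ⟨B.memH, v.2⟩

theorem vJ_mem' : (v : G) * J ∈ (pairStab a b ⊓ Cent J : Subgroup G) :=
  ⟨B.vJ_mem, mul_mem v.2 (Subgroup.mem_centralizer_singleton_iff.2 rfl)⟩

/-- The elements of the four-group. -/
theorem four_cases {w : G} (hw : w ∈ (pairStab a b ⊓ Cent J : Subgroup G)) :
    w = 1 ∨ w = J ∨ w = v ∨ w = v * J := by
  by_cases e1 : w = 1
  · exact Or.inl e1
  by_cases e2 : w = J
  · exact Or.inr (Or.inl e2)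
  by_cases e3 : w = v
  · exact Or.inr (Or.inr (Or.inl e3))
  refine Or.inr (Or.inr (Or.inr ?_))
  exact (T.setting.inv_third B.memH B.ord T.invData.memJ T.invData.ordJ hw.1
    (orderOf_two_of ((T.setting.mem_cent_iff T.invData hw.1).1 hw.2) e1) B.ne (Ne.symm e3) (Ne.symm e2)).symm

variable {L : Subgroup G} (hL : LData a J k L)

include hL

theorem conj_v_mem {y : G} (hy : y ∈ L) : (v : G) * y * v ∈ L := by
  have h := hL.norm _ (T.four_le (T.v_mem B)) y hy
  rwa [inv_of_orderOf B.ord] at h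

omit B in
/-- Every element of the centraliser of `J` fixing `a` is a product. -/
theorem decomp' {x : G} (hx : x ∈ centPt a J) :
    ∃ w ∈ (pairStab a b ⊓ Cent J : Subgroup G), ∃ l ∈ L, x = w * l := by
  classical
  set V : Subgroup G := pairStab a b ⊓ Cent J with hV
  have hn : V ≤ Subgroup.normalizer (L : Set G) := fun w hw =>
    Subgroup.mem_normalizer_fintype fun l hl => hL.norm w (T.four_le hw) l hl
  have hinf : V ⊓ L = ⊥ := (Subgroup.eq_bot_iff_forall _).2 fun y hy => by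
    by_contra h1
    exact T.odd_mem hL hy.2 (by rw [orderOf_two_of ((T.setting.mem_cent_iff T.invData hy.1.1).1 hy.1.2) h1])
  have heq : V ⊔ L = centPt a J := by
    refine Subgroup.eq_of_le_of_card_ge (sup_le T.four_le hL.le) ?_
    have hc := CfsgLib.Core.card_sup_mul_card_inf V L hn
    rw [hinf, Subgroup.card_bot, mul_one, T.setting.card_inf_cent T.invData, hL.card] at hc
    rw [hc, T.card_centPt]
  rw [← heq, ← SetLike.mem_coe, Subgroup.coe_mul_of_left_le_normalizer_right V L hn, Set.mem_mul] at hx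
  obtain ⟨w, hw, l, hl, e⟩ := hx
  exact ⟨w, hw, l, hl, e.symm⟩

/-- An element inverted by `v` has order coprime to the order of what `v` centralises. -/
theorem inverted_coprime {y : G} (hy : y ∈ L) (hyv : (v : G) * y * v = y⁻¹) :
    (orderOf y).Coprime (Nat.card ↥(L ⊓ Cent (v : G) : Subgroup G)) := by
  classical
  refine Nat.coprime_of_dvd fun l hl hly hlc => ?_
  haveI := Fact.mk hl
  obtain ⟨c', hc⟩ := exists_prime_orderOf_dvd_card' (G := ↥(L ⊓ Cent (v : G) : Subgroup G)) l hlc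
  rw [← Subgroup.orderOf_coe] at hc
  obtain ⟨hcL, hcv⟩ := c'.2
  set c : G := (c' : G)
  set y' := y ^ (orderOf y / l) with hy'
  have hy'o : orderOf y' = l := by
    rw [hy', orderOf_pow_of_dvd (Nat.div_pos (Nat.le_of_dvd (orderOf_pos y) hly) hl.pos).ne' (Nat.div_dvd_of_dvd hly),
      Nat.div_div_self hly (orderOf_pos y).ne']
  have hvv := mul_self_of_orderOf B.ord
  have hvy : (v : G) * y' * v = y'⁻¹ := by
    have hvi := inv_of_orderOf B.ord
    calc (v : G) * y' * v = v * y ^ (orderOf y / l) * (v : G)⁻¹ := by rw [hvi]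
      _ = ((v : G) * y * v) ^ (orderOf y / l) := by rw [← conj_pow, hvi]
      _ = _ := by rw [hyv, inv_pow]
  have hz := T.zpowers_eq hL hcL (pow_mem hy _) hl hc hy'o
  obtain ⟨i, hi⟩ := Subgroup.mem_zpowers_iff.1 (hz.symm ▸ Subgroup.mem_zpowers c)
  have hvc : (v : G) * c * v = c := by
    rw [← Subgroup.mem_centralizer_singleton_iff.1 hcv, mul_assoc, hvv, mul_one]
  have hvc' : (v : G) * c * v = c⁻¹ := by
    have hvi := inv_of_orderOf B.ord
    calc (v : G) * c * v = v * y' ^ i * (v : G)⁻¹ := by rw [hi, hvi]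
      _ = ((v : G) * y' * v) ^ i := by rw [← conj_zpow, hvi]
      _ = _ := by rw [hvy, inv_zpow, hi]
  have h2 : c * c = 1 := by
    nth_rw 2 [hvc.symm.trans hvc']
    group
  have h3 := orderOf_dvd_of_pow_eq_one (show c ^ 2 = 1 by rw [pow_two]; exact h2)
  rw [hc] at h3
  exact T.odd_mem hL hcL ((Nat.prime_dvd_prime_iff_eq hl Nat.prime_two).1 h3 ▸ hc.symm ▸ dvd_rfl)

variable {r : ℕ} {ρ : G} (hr : r.Prime) (hr5 : 5 ≤ r) (hρ : ρ ∈ L) (hρr : orderOf ρ = r)

include hr hρ hρr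

omit B in
theorem conj_rho {g : G} (hg : g ∈ centPt a J) : ∃ s : ℤ, g * ρ * g⁻¹ = ρ ^ s := by
  have h := T.zpowers_eq hL hρ (hL.norm g hg ρ hρ) hr hρr ((orderOf_conj_eq g ρ).trans hρr)
  obtain ⟨s, hs⟩ := Subgroup.mem_zpowers_iff.1 (h.symm ▸ Subgroup.mem_zpowers (g * ρ * g⁻¹))
  exact ⟨s, hs.symm⟩

omit B in
theorem zpow_sq_eq {s : ℤ} (hs : ρ ^ (s * s) = ρ) : ρ ^ s = ρ ∨ ρ ^ s = ρ⁻¹ := by
  have h : ((r : ℤ)) ∣ (s - 1) * (s + 1) := by
    rw [← hρr]
    refine orderOf_dvd_iff_zpow_eq_one.2 ?_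
    rw [show (s - 1) * (s + 1) = s * s + -1 by ring, zpow_add, hs, zpow_neg_one, mul_inv_cancel]
  rcases (Nat.prime_iff_prime_int.1 hr).dvd_or_dvd h with h | h
  · left
    have h1 : ρ ^ (s - 1) = 1 := orderOf_dvd_iff_zpow_eq_one.1 (by rw [hρr]; exact h)
    rwa [zpow_sub_one, mul_inv_eq_one] at h1
  · right
    have h1 : ρ ^ (s + 1) = 1 := orderOf_dvd_iff_zpow_eq_one.1 (by rw [hρr]; exact h)
    rw [zpow_add_one] at h1
    exact eq_inv_of_mul_eq_one_left h1

variable (hnot : ¬ r ∣ Nat.card ↥(L ⊓ Cent (v : G) : Subgroup G))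

include hnot hr5

omit hr5 in
theorem invert_rho : (v : G) * ρ * v = ρ⁻¹ := by
  obtain ⟨s, hs⟩ := T.conj_rho hL hr hρ hρr (T.four_le (T.v_mem B))
  have hvi := inv_of_orderOf B.ord
  rw [hvi] at hs
  have h2 : ρ ^ (s * s) = ρ := by
    calc ρ ^ (s * s) = (ρ ^ s) ^ s := zpow_mul ρ s s
      _ = ((v : G) * ρ * (v : G)⁻¹) ^ s := by rw [hvi, hs]
      _ = (v : G) * ((v : G) * ρ * v) * (v : G)⁻¹ := by rw [conj_zpow, hs]
      _ = ρ := by
        rw [hvi, show (v : G) * (v * ρ * v) * v = (v * v) * ρ * (v * v) by group, mul_self_of_orderOf B.ord, one_mul,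
          mul_one]
  rcases T.zpow_sq_eq hL hr hρ hρr h2 with e | e
  · exfalso
    refine hnot (hρr ▸ Subgroup.orderOf_dvd_natCard _ ⟨hρ, Subgroup.mem_centralizer_singleton_iff.2 ?_⟩)
    rw [e] at hs
    calc ρ * (v : G) = (v : G) * ρ * v * v := by rw [hs]
      _ = (v : G) * ρ := by rw [mul_assoc, mul_self_of_orderOf B.ord, mul_one]
  · rw [hs, e]

omit hr5 in
/-- An element inverted by `v` centralises `ρ`. -/
theorem comm_of_inverted {y : G} (hy : y ∈ L) (hyv : (v : G) * y * v = y⁻¹) : y * ρ = ρ * y := by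
  obtain ⟨s, hs⟩ := T.conj_rho hL hr hρ hρr (hL.le hy)
  have hv := T.invert_rho B hL hr hρ hρr hnot
  have hvv := mul_self_of_orderOf B.ord
  have hvi := inv_of_orderOf B.ord
  have hs' : y⁻¹ * ρ * y = ρ ^ s := by
    have h1 : (v : G) * ρ ^ s * (v : G)⁻¹ = (ρ ^ s)⁻¹ := by
      rw [← conj_zpow, hvi, hv, inv_zpow]
    have h2 : (v : G) * (y * ρ * y⁻¹) * v = y⁻¹ * ρ⁻¹ * y := by
      calc (v : G) * (y * ρ * y⁻¹) * v = (v * y * v) * (v * ρ * v) * ((v : G) * y * v)⁻¹ := by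
            rw [mul_inv_rev, mul_inv_rev, hvi]
            calc (v : G) * (y * ρ * y⁻¹) * v = v * y * 1 * ρ * 1 * y⁻¹ * v := by group
              _ = v * y * ((v : G) * v) * ρ * ((v : G) * v) * y⁻¹ * v := by rw [hvv]
              _ = _ := by group
        _ = y⁻¹ * ρ⁻¹ * y := by rw [hyv, hv, inv_inv]
    rw [hs] at h2
    rw [hvi] at h1
    have h3 : y⁻¹ * ρ⁻¹ * y = (ρ ^ s)⁻¹ := h2.symm.trans h1
    have h4 := congrArg (·⁻¹) h3
    simpa [mul_assoc] using h4
  have h4 : ρ ^ (s * s) = ρ := by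
    have h5 : (y * ρ * y⁻¹) ^ s = y * ρ ^ s * y⁻¹ := conj_zpow
    rw [hs, ← zpow_mul, ← hs'] at h5
    rw [h5]; group
  have hcomm : ∀ z : G, z * ρ * z⁻¹ = ρ → z * ρ = ρ * z := fun z h => mul_inv_eq_iff_eq_mul.1 h
  rcases T.zpow_sq_eq hL hr hρ hρr h4 with e | e
  · exact hcomm y (hs.trans e)
  · have h1 : y * ρ * y⁻¹ = ρ⁻¹ := hs.trans e
    have h2 : (y * y) * ρ * (y * y)⁻¹ = ρ := by
      calc y * y * ρ * (y * y)⁻¹ = y * (y * ρ * y⁻¹) * y⁻¹ := by group
        _ = y * ρ⁻¹ * y⁻¹ := by rw [h1]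
        _ = (y * ρ * y⁻¹)⁻¹ := by group
        _ = ρ := by rw [h1, inv_inv]
    obtain ⟨t, ht⟩ := Nat.odd_iff.2 (Nat.two_dvd_ne_zero.1 (T.odd_mem hL hy))
    have hy1 : y = (y * y) ^ (t + 1) := by
      rw [← pow_two, ← pow_mul, show 2 * (t + 1) = orderOf y + 1 by omega, pow_succ, pow_orderOf_eq_one, one_mul]
    rw [hy1]
    exact ((show Commute (y * y) ρ from hcomm _ h2).pow_left (t + 1)).eq

/-- The elements of the centraliser of `J` fixing `a` which commute with `ρ`. -/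
theorem cent_rho_cases {x : G} (hx : x ∈ centPt a J) (hxρ : x * ρ = ρ * x) :
    ∃ l ∈ (L ⊓ Cent ρ : Subgroup G), x = l ∨ x = J * l := by
  obtain ⟨w, hw, l, hl, rfl⟩ := T.decomp' hL hx
  have hv := T.invert_rho B hL hr hρ hρr hnot
  have hJρ : J * ρ = ρ * J := (Subgroup.mem_centralizer_singleton_iff.1 (hL.le hρ).2).symm
  have hbad : (v : G) * l * ρ = ρ * ((v : G) * l) → False := by
    intro h
    have h1 : l * ρ * l⁻¹ = ρ⁻¹ := by
      calc l * ρ * l⁻¹ = (v : G)⁻¹ * ((v : G) * l * ρ) * l⁻¹ := by group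
        _ = (v : G)⁻¹ * ρ * v := by rw [h]; group
        _ = ρ⁻¹ := by rw [inv_of_orderOf B.ord, hv]
    have h2 : (l * l) * ρ * (l * l)⁻¹ = ρ := by
      calc l * l * ρ * (l * l)⁻¹ = l * (l * ρ * l⁻¹) * l⁻¹ := by group
        _ = l * ρ⁻¹ * l⁻¹ := by rw [h1]
        _ = (l * ρ * l⁻¹)⁻¹ := by group
        _ = ρ := by rw [h1, inv_inv]
    obtain ⟨t, ht⟩ := Nat.odd_iff.2 (Nat.two_dvd_ne_zero.1 (T.odd_mem hL hl))
    have hy1 : l = (l * l) ^ (t + 1) := by
      rw [← pow_two, ← pow_mul, show 2 * (t + 1) = orderOf l + 1 by omega, pow_succ, pow_orderOf_eq_one, one_mul]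
    have h3 : Commute l ρ := by
      rw [hy1]; exact (show Commute (l * l) ρ from mul_inv_eq_iff_eq_mul.1 h2).pow_left (t + 1)
    rw [h3.eq, mul_inv_cancel_right] at h1
    have h4 : ρ * ρ = 1 := by conv_lhs => arg 2; rw [h1]
                              exact mul_inv_cancel ρ
    have h5 := orderOf_dvd_of_pow_eq_one (show ρ ^ 2 = 1 by rw [pow_two]; exact h4)
    rw [hρr] at h5
    have := Nat.le_of_dvd (by norm_num) h5
    omega
  rcases T.four_cases B hw with e | e | e | e <;> subst w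
  · rw [one_mul] at hxρ ⊢
    exact ⟨l, ⟨hl, Subgroup.mem_centralizer_singleton_iff.2 hxρ⟩, Or.inl rfl⟩
  · refine ⟨l, ⟨hl, Subgroup.mem_centralizer_singleton_iff.2 (mul_left_cancel (a := J) ?_)⟩, Or.inr rfl⟩
    rw [← mul_assoc, hxρ, ← mul_assoc, ← mul_assoc, hJρ]
  · exact (hbad hxρ).elim
  · refine (hbad (mul_left_cancel (a := J) ?_)).elim
    calc J * ((v : G) * l * ρ) = (v : G) * J * l * ρ := by rw [B.comm_J]; group
      _ = ρ * ((v : G) * J * l) := hxρ
      _ = (ρ * J) * ((v : G) * l) := by rw [B.comm_J]; group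
      _ = J * (ρ * ((v : G) * l)) := by rw [← hJρ]; group

omit hr5 hr hρ hρr hnot in
/-- Elements inverted by `J` and commuting with another involution have orders of elements inverted by `v`. -/
theorem exists_inverted {w s : G} (hw : w ∈ centPt a J) (hw2 : orderOf w = 2) (hwJ : w ≠ J)
    (hs : s ∈ stabilizer G a) (hsw : s * w = w * s) (hso : ¬ 2 ∣ orderOf s) (hsJ : J * s * J = s⁻¹) :
    ∃ y ∈ L, (v : G) * y * v = y⁻¹ ∧ orderOf y = orderOf s := by
  obtain ⟨g, hga, hg⟩ := T.exists_conj hw.1 hw2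
  have hso' : orderOf (g⁻¹ * s * g) = orderOf s := by simpa using orderOf_conj_eq g⁻¹ s
  have hwJ2 : w * J = J * w := Subgroup.mem_centralizer_singleton_iff.1 hw.2
  have hs' : g⁻¹ * s * g ∈ L := by
    refine hL.mem _ ⟨Subgroup.mul_mem _ (Subgroup.mul_mem _ (Subgroup.inv_mem _ hga) hs) hga,
      Subgroup.mem_centralizer_singleton_iff.2 ?_⟩
      (by rwa [hso'])
    calc g⁻¹ * s * g * J = g⁻¹ * (s * (g * J * g⁻¹)) * g := by group
      _ = g⁻¹ * (w * s) * g := by rw [hg, hsw]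
      _ = _ := by rw [← hg]; group
  have hJ'C : g⁻¹ * J * g ∈ centPt a J := ⟨Subgroup.mul_mem _ (Subgroup.mul_mem _ (Subgroup.inv_mem _ hga)
      (MulAction.mem_stabilizer_iff.2 T.invData.smul_a)) hga,
    Subgroup.mem_centralizer_singleton_iff.2 (by
      calc g⁻¹ * J * g * J = g⁻¹ * (J * (g * J * g⁻¹)) * g := by group
        _ = g⁻¹ * (w * J) * g := by rw [hg, hwJ2]
        _ = _ := by rw [← hg]; group)⟩
  obtain ⟨u, hu, l, hl, hul⟩ := T.decomp' hL hJ'C
  have hJ2 := mul_self_of_orderOf T.invData.ordJ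
  have hJ'2 : u * l * (u * l) = 1 := by
    rw [← hul, show g⁻¹ * J * g * (g⁻¹ * J * g) = g⁻¹ * (J * J) * g by group, hJ2]; group
  have hlJ := Subgroup.mem_centralizer_singleton_iff.1 (hL.le hl).2
  have hJ'ne : g⁻¹ * J * g ≠ J := fun e => hwJ (by
    rw [← hg]; conv_rhs => rw [show J = g * (g⁻¹ * J * g) * g⁻¹ by group, e])
  have hodd_l := T.odd_mem hL hl
  have hl_one : l * l = 1 → l = 1 := fun h => by
    by_contra hne
    exact hodd_l (by rw [orderOf_two_of h hne])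
  have hu1 : u ≠ 1 := by
    rintro rfl
    rw [one_mul] at hJ'2 hul
    have h1 := orderOf_conj_eq g⁻¹ J
    rw [inv_inv, hul, hl_one hJ'2, orderOf_one, T.invData.ordJ] at h1
    norm_num at h1
  have huJ : u ≠ J := by
    rintro rfl
    refine hJ'ne ?_
    rw [hul, hl_one ?_, mul_one]
    rwa [show u * l * (u * l) = u * (l * u) * l by group, hlJ, show u * (u * l) * l = (u * u) * (l * l) by group,
      hJ2, one_mul] at hJ'2
  have hu2 : u * u = 1 := (T.setting.mem_cent_iff T.invData hu.1).1 hu.2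
  have hul' : u * l * u = l⁻¹ := eq_inv_of_mul_eq_one_left (by rw [← hJ'2]; group)
  obtain ⟨h, hhmem, hhl, hhinv⟩ := exists_half (x := l) (Nat.odd_iff.2 (Nat.two_dvd_ne_zero.1 hodd_l))
  have hhu := hhinv u hu2 hul'
  have hhL : h ∈ L := Subgroup.zpowers_le.2 hl hhmem
  refine ⟨h * (g⁻¹ * s * g) * h⁻¹, hL.norm h (hL.le hhL) _ hs', ?_, (orderOf_conj_eq h _).trans hso'⟩
  have huh : h * (g⁻¹ * J * g) * h⁻¹ = u := by
    rw [hul, ← hhl]
    calc h * (u * (h * h)) * h⁻¹ = h * (u * h) := by group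
      _ = h * ((u * h * u) * u) := by rw [mul_assoc (u * h) u u, hu2, mul_one]
      _ = u := by rw [hhu]; group
  have hinv' : u * (h * (g⁻¹ * s * g) * h⁻¹) * u = (h * (g⁻¹ * s * g) * h⁻¹)⁻¹ := by
    rw [← huh]
    calc h * (g⁻¹ * J * g) * h⁻¹ * (h * (g⁻¹ * s * g) * h⁻¹) * (h * (g⁻¹ * J * g) * h⁻¹)
        = h * g⁻¹ * (J * s * J) * g * h⁻¹ := by group
      _ = _ := by rw [hsJ]; group
  rcases T.four_cases B hu with e | e | e | e
  · exact absurd e hu1
  · exact absurd e huJ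
  · rwa [e] at hinv'
  · have hyL : h * (g⁻¹ * s * g) * h⁻¹ ∈ L := hL.norm h (hL.le hhL) _ hs'
    generalize h * (g⁻¹ * s * g) * h⁻¹ = y at hinv' hyL ⊢
    rw [← hinv', e]
    conv_rhs => rw [B.comm_J, show J * (v : G) * y * (J * v) = J * ((v : G) * y * J) * v by group]
    rw [mul_assoc (v : G) y J, Subgroup.mem_centralizer_singleton_iff.1 (hL.le hyL).2]
    symm
    calc J * ((v : G) * (J * y)) * v = J * ((v : G) * J) * y * v := by group
      _ = J * J * ((v : G) * y * v) := by rw [B.comm_J]; group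
      _ = _ := by rw [hJ2, one_mul]

end ThreeData

end CfsgLib.KimuraFour
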