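import Cfsg.Agent.Lib.Perm.KimuraFour.ThreeBasic
import Cfsg.Agent.Lib.Perm.KimuraFour.Complement

/-!
# The point stabiliser in degree `q ^ 2`
-/

set_option autoImplicit false

namespace CfsgLib.KimuraFour

open MulAction

variable {G : Type*} [Group G] [Finite G] {Ω : Type*} [MulAction G Ω] [Finite Ω] {a b : Ω} {J : G}
  {N : Subgroup G} {k : ℕ}

local notation "Cent" J:max => Subgroup.centralizer (Singleton.singleton J : Set _)

/-- The centraliser of `J` in the stabiliser of `a`. -/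
abbrev centPt (a : Ω) (J : G) : Subgroup G := stabilizer G a ⊓ Subgroup.centralizer ({J} : Set G)

namespace ThreeData

variable (T : ThreeData G Ω a b J N k)

include T

theorem two_le_q : 2 ≤ 2 ^ k := by
  have := Nat.pow_le_pow_right (show 0 < 2 by norm_num) T.k_pos
  simpa using this

theorem even_deg : Even (Nat.card Ω) := by
  rw [T.deg, ← pow_add]
  exact (even_two.pow_of_ne_zero (by have := T.k_pos; omega))

/-- Every involution fixing `a` is conjugate to `J` by an element fixing `a`. -/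
theorem exists_conj {x : G} (hx : x ∈ stabilizer G a) (hx2 : orderOf x = 2) :
    ∃ g ∈ stabilizer G a, g * J * g⁻¹ = x := by
  classical
  have hxa : x • a = a := hx
  obtain ⟨d, hd, hda⟩ : ∃ d : Ω, x • d = d ∧ d ≠ a := by
    by_contra hcon
    push Not at hcon
    have h := parity_fixCard (Ω := Ω) (mul_self_of_orderOf hx2)
    rw [Nat.even_iff.1 T.even_deg] at h
    have h1 : fixCard Ω x = 1 := by
      rw [fixCard, Nat.card_eq_one_iff_unique]
      exact ⟨⟨fun c c' => Subtype.ext ((hcon c.1 c.2).trans (hcon c'.1 c'.2).symm)⟩, ⟨⟨a, hxa⟩⟩⟩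
    omega
  obtain ⟨g, hga, hgb⟩ := exists_smul_pair T.setting.two T.setting.ne (Ne.symm hda)
  have hm : g⁻¹ * x * g ∈ (pairStab a b : Subgroup G) := by
    rw [mem_pairStab, mul_smul, mul_smul, mul_smul, mul_smul, hga, hgb, hxa, hd, inv_smul_eq_iff, inv_smul_eq_iff,
      hga, hgb]
    exact ⟨rfl, rfl⟩
  obtain ⟨h, hh, e⟩ := T.setting.inv_conj T.invData.memJ T.invData.ordJ hm
    (by simpa using (orderOf_conj_eq g⁻¹ x).trans hx2)
  refine ⟨g * h, mul_mem (show g ∈ stabilizer G a from hga) hh.1, ?_⟩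
  calc g * h * J * (g * h)⁻¹ = g * (h * J * h⁻¹) * g⁻¹ := by group
    _ = x := by rw [e]; group

/-- An element of the centraliser of `J` fixing two fixed points of `J` has square one. -/
theorem sq_of_fix_pair {x : G} (hx : x ∈ Cent J) {c d : Ω} (hcd : c ≠ d) (hc : J • c = c) (hd : J • d = d)
    (hxc : x • c = c) (hxd : x • d = d) : x * x = 1 := by
  obtain ⟨g, hg, hga, hgb⟩ :=
    T.invData.exists_centralizing T.invData.smul_a T.invData.smul_b hc hd T.setting.ne hcd
  have hm : g⁻¹ * x * g ∈ (pairStab a b : Subgroup G) := by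
    rw [mem_pairStab, mul_smul, mul_smul, mul_smul, mul_smul, hga, hgb, hxc, hxd, inv_smul_eq_iff, inv_smul_eq_iff,
      hga, hgb]
    exact ⟨rfl, rfl⟩
  have h := (T.setting.mem_cent_iff T.invData hm).1 (mul_mem (mul_mem (inv_mem hg) hx) hg)
  calc x * x = g * (g⁻¹ * x * g * (g⁻¹ * x * g)) * g⁻¹ := by group
    _ = 1 := by rw [h]; group

theorem eq_one_of_fix_pair {x : G} (hx : x ∈ Cent J) (ho : Odd (orderOf x)) {c d : Ω} (hcd : c ≠ d)
    (hc : J • c = c) (hd : J • d = d) (hxc : x • c = c) (hxd : x • d = d) : x = 1 := by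
  rw [← orderOf_eq_one_iff]
  have h := orderOf_dvd_of_pow_eq_one (by rw [pow_two]; exact T.sq_of_fix_pair hx hcd hc hd hxc hxd : x ^ 2 = 1)
  rcases (Nat.dvd_prime Nat.prime_two).1 h with e | e
  · exact e
  · rw [e] at ho; exact absurd ho (by decide)

/-- An element fixing `a` and centralising the translations is trivial. -/
theorem eq_one_of_cent_kernel {g : G} (hga : g • a = a) (h : ∀ x ∈ N, g * x = x * g) : g = 1 := by
  haveI := T.setting.faithful
  refine eq_of_smul_eq_smul (α := Ω) fun c => ?_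
  obtain ⟨x, hx, rfl⟩ := T.kernel.trans a c
  rw [← mul_smul, h x hx, mul_smul, hga, one_smul]

theorem card_stab : Nat.card ↥(stabilizer G a) = 12 * (2 ^ k * 2 ^ k - 1) := by
  haveI : IsPretransitive G Ω := MulAction.isPretransitive_of_is_two_pretransitive (h2 := T.setting.two)
  have h := card_eq_pairStab T.setting.two T.setting.ne
  rw [T.setting.card_H, T.deg, ← (stabilizer G a).card_mul_index, index_stabilizer_of_transitive G a, T.deg] at h
  have h' : Nat.card ↥(stabilizer G a) * (2 ^ k * 2 ^ k) = 12 * (2 ^ k * 2 ^ k - 1) * (2 ^ k * 2 ^ k) := by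
    rw [h]; ring
  exact Nat.eq_of_mul_eq_mul_right (by positivity) h'

theorem card_G : Nat.card G = 2 ^ k * 2 ^ k * (12 * (2 ^ k * 2 ^ k - 1)) := by
  haveI : IsPretransitive G Ω := MulAction.isPretransitive_of_is_two_pretransitive (h2 := T.setting.two)
  rw [← (stabilizer G a).card_mul_index, index_stabilizer_of_transitive G a, T.deg, T.card_stab, mul_comm]

theorem card_centPt : Nat.card ↥(centPt a J) = 4 * (2 ^ k - 1) := by
  haveI := T.invData.two_cent
  haveI : IsPretransitive ↥(Cent J) ↥(fixPts Ω J) :=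
    MulAction.isPretransitive_of_is_two_pretransitive (h2 := T.invData.two_cent)
  have h := (stabilizer ↥(Cent J) T.invData.fa).card_mul_index
  rw [index_stabilizer_of_transitive, card_fixPts, T.setting.card_cent_four T.invData, T.fix] at h
  have e : Nat.card ↥(centPt a J) = Nat.card ↥(stabilizer ↥(Cent J) T.invData.fa) :=
    Nat.card_congr
      { toFun := fun x => ⟨⟨x.1, x.2.2⟩, Subtype.ext x.2.1⟩
        invFun := fun x => ⟨x.1.1, congrArg Subtype.val x.2, x.1.2⟩
        left_inv := fun _ => rfl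
        right_inv := fun _ => rfl }
  rw [e]
  exact Nat.eq_of_mul_eq_mul_right (show 0 < 2 ^ k by positivity) (by rw [h]; ring)

/-- The number of involutions fixing `a`. -/
theorem card_involutions : Nat.card {x : G // x ∈ stabilizer G a ∧ orderOf x = 2} = 3 * (2 ^ k + 1) := by
  have h := card_orbit_mul (stabilizer G a) (fun x => x ∈ stabilizer G a ∧ orderOf x = 2) (J := J)
    ⟨T.invData.smul_a, T.invData.ordJ⟩
    (fun n hn x hx => ⟨mul_mem (mul_mem hn hx.1) (inv_mem hn), (orderOf_conj_eq n x).trans hx.2⟩)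
    fun x hx => T.exists_conj hx.1 hx.2
  rw [T.card_stab, show stabilizer G a ⊓ Cent J = centPt a J from rfl, T.card_centPt] at h
  have h2 := T.two_le_q
  obtain ⟨p, hp⟩ : ∃ p, 2 ^ k = p + 1 := ⟨2 ^ k - 1, by omega⟩
  rw [hp, show (p + 1) * (p + 1) - 1 = p * (p + 1 + 1) by
    have : (p + 1) * (p + 1) = p * (p + 1 + 1) + 1 := by ring
    omega, Nat.add_sub_cancel] at h
  rw [hp]
  exact Nat.eq_of_mul_eq_mul_right (show 0 < 4 * p by omega) (by rw [← h]; ring)

theorem four_le : (pairStab a b ⊓ Cent J : Subgroup G) ≤ centPt a J := inf_le_inf_right _ inf_le_left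

/-- The translations commuting with `J`. -/
theorem mem_fix_iff {x : G} (hx : x ∈ N) : x ∈ Cent J ↔ J • x • a = x • a := by
  refine ⟨fun h => smul_mem_fix h T.invData.smul_a, fun h => ?_⟩
  have hm : x⁻¹ * (J * x * J⁻¹) ∈ N := mul_mem (inv_mem hx) (T.kernel.normal.conj_mem x hx J)
  have h1 := T.kernel.free _ hm a (by
    rw [mul_smul, mul_smul, mul_smul, show J⁻¹ • a = a by rw [inv_smul_eq_iff, T.invData.smul_a], h, inv_smul_smul])
  rw [inv_mul_eq_one] at h1
  exact Subgroup.mem_centralizer_singleton_iff.2 (eq_mul_inv_iff_mul_eq.1 h1)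

theorem card_fixN : Nat.card ↥(N ⊓ Cent J : Subgroup G) = 2 ^ k := by
  rw [← T.fix, fixCard]
  refine Nat.card_congr (Equiv.ofBijective (fun x => ⟨x.1 • a, (T.mem_fix_iff x.2.1).1 x.2.2⟩) ⟨?_, ?_⟩)
  · rintro ⟨x, hx⟩ ⟨y, hy⟩ h
    have hxy : x • a = y • a := congrArg Subtype.val h
    refine Subtype.ext (inv_mul_eq_one.1 (T.kernel.free _ (mul_mem (inv_mem hx.1) hy.1) a ?_))
    rw [mul_smul, ← hxy, inv_smul_smul]
  · rintro ⟨c, hc⟩
    obtain ⟨x, hx, hxc⟩ := T.kernel.trans a c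
    exact ⟨⟨x, hx, (T.mem_fix_iff hx).2 (by rw [hxc]; exact hc)⟩, Subtype.ext hxc⟩

/-- An element of odd order in the centraliser of `J` fixing `a` moves the translations commuting with `J`. -/
theorem semiregular {x : G} (hx : x ∈ centPt a J) (ho : Odd (orderOf x)) {n : G}
    (hn : n ∈ (N ⊓ Cent J : Subgroup G)) (hn1 : n ≠ 1) (hc : x * n = n * x) : x = 1 := by
  refine T.eq_one_of_fix_pair hx.2 ho (c := a) (d := n • a) (fun e => hn1 (T.kernel.free n hn.1 a e.symm))
    T.invData.smul_a (smul_mem_fix hn.2 T.invData.smul_a) hx.1 ?_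
  rw [← mul_smul, hc, mul_smul, show x • a = a from hx.1]

theorem four_le_of_pow {x : G} (hxC : x ∈ centPt a J) (hx : ∃ e, x ^ 2 ^ e = 1)
    (hxn : x ∈ Subgroup.normalizer ((pairStab a b ⊓ Cent J : Subgroup G) : Set G)) :
    x ∈ (pairStab a b ⊓ Cent J : Subgroup G) := by
  classical
  haveI : Fact (Nat.Prime 2) := ⟨Nat.prime_two⟩
  obtain ⟨e, he⟩ := hx
  set V : Subgroup G := pairStab a b ⊓ Cent J with hV
  have hVp : IsPGroup 2 ↥V := IsPGroup.of_card (n := 2) (T.setting.card_inf_cent T.invData)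
  have hxp : IsPGroup 2 ↥(Subgroup.zpowers x) := by
    rintro ⟨y, hy⟩
    obtain ⟨i, rfl⟩ := Subgroup.mem_zpowers_iff.1 hy
    exact ⟨e, Subtype.ext (by
      show (x ^ i) ^ 2 ^ e = 1
      rw [← zpow_natCast, ← zpow_mul, mul_comm, zpow_mul, zpow_natCast, he, one_zpow])⟩
  have hp := hxp.to_sup_of_normal_right' hVp (Subgroup.zpowers_le.2 hxn)
  obtain ⟨t, ht⟩ := IsPGroup.iff_card.1 hp
  have hd : Nat.card ↥(Subgroup.zpowers x ⊔ V) ∣ 4 * (2 ^ k - 1) := by
    rw [← T.card_centPt]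
    exact Subgroup.card_dvd_of_le (sup_le (Subgroup.zpowers_le.2 hxC) T.four_le)
  rw [ht] at hd
  have hodd : Odd (2 ^ k - 1) := by
    have := T.two_le_q
    have h2 : 2 ∣ 2 ^ k := dvd_pow_self 2 (by have := T.k_pos; omega)
    exact Nat.odd_iff.2 (by omega)
  have h4 : 2 ^ t ∣ 4 :=
    ((Nat.prime_two.coprime_iff_not_dvd.2 hodd.not_two_dvd_nat).pow_left t).dvd_of_dvd_mul_right hd
  have heq : V = Subgroup.zpowers x ⊔ V := Subgroup.eq_of_le_of_card_ge le_sup_right (by
    rw [ht, T.setting.card_inf_cent T.invData]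
    exact Nat.le_of_dvd (by norm_num) h4)
  rw [heq]
  exact (le_sup_left : Subgroup.zpowers x ≤ Subgroup.zpowers x ⊔ V) (Subgroup.mem_zpowers x)

theorem four_central {x : G} (hxC : x ∈ centPt a J)
    (hxn : x ∈ Subgroup.normalizer ((pairStab a b ⊓ Cent J : Subgroup G) : Set G)) :
    ∀ v ∈ (pairStab a b ⊓ Cent J : Subgroup G), x * v = v * x := by
  classical
  intro v hv
  set V : Subgroup G := pairStab a b ⊓ Cent J with hV
  have hcomm : ∀ u ∈ V, ∀ w ∈ V, u * w = w * u := fun u hu w hw =>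
    (T.setting.inv_mul hu.1 ((T.setting.mem_cent_iff T.invData hu.1).1 hu.2) hw.1
      ((T.setting.mem_cent_iff T.invData hw.1).1 hw.2)).1
  have hsq : ∀ y : G, y ∈ centPt a J → y ∈ Subgroup.normalizer (V : Set G) → y ^ 2 * v * (y ^ 2)⁻¹ = v := by
    intro y hy hyn
    have hkey : ∀ w ∈ V, y * w * y⁻¹ ∈ V := fun w hw => (Subgroup.mem_normalizer_iff.1 hyn w).1 hw
    by_cases hv1 : v = 1
    · rw [hv1]; group
    by_cases hvJ : v = J
    · rw [hvJ, Subgroup.mem_centralizer_singleton_iff.1 (pow_mem hy.2 2 : y ^ 2 ∈ Cent J), mul_inv_cancel_right]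
    have hJV : J ∈ V := ⟨T.invData.memJ, Subgroup.mem_centralizer_singleton_iff.2 rfl⟩
    have hord : ∀ {w : G}, w ∈ V → w ≠ 1 → orderOf w = 2 := fun hw hw1 =>
      orderOf_two_of ((T.setting.mem_cent_iff T.invData hw.1).1 hw.2) hw1
    have hJ1 : y * J * y⁻¹ = J := by
      rw [Subgroup.mem_centralizer_singleton_iff.1 hy.2, mul_inv_cancel_right]
    have hw1 : y * v * y⁻¹ ≠ 1 := fun e => hv1 (conj_eq_one_iff.1 e)
    have hwJ : y * v * y⁻¹ ≠ J := fun e => hvJ ((MulAut.conj y).injective (e.trans hJ1.symm))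
    by_cases hw : y * v * y⁻¹ = v
    · rw [pow_two]
      calc y * y * v * (y * y)⁻¹ = y * (y * v * y⁻¹) * y⁻¹ := by group
        _ = v := by rw [hw, hw]
    have h3 := T.setting.inv_third hv.1 (hord hv hv1) hJV.1 T.invData.ordJ (hkey v hv).1 (hord (hkey v hv) hw1)
      hvJ (Ne.symm hw) (Ne.symm hwJ)
    rw [pow_two]
    calc y * y * v * (y * y)⁻¹ = y * (y * v * y⁻¹) * y⁻¹ := by group
      _ = y * (v * J) * y⁻¹ := by rw [h3]
      _ = (y * v * y⁻¹) * (y * J * y⁻¹) := by group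
      _ = v * J * J := by rw [h3, hJ1]
      _ = v := by rw [mul_assoc, mul_self_of_orderOf T.invData.ordJ, mul_one]
  obtain ⟨e, o, ho2, hxo⟩ := Nat.exists_eq_pow_mul_and_not_dvd (orderOf_pos x).ne' 2 (by norm_num)
  have hxe : x ^ o ∈ V := T.four_le_of_pow (pow_mem hxC o)
    ⟨e, by rw [← pow_mul, mul_comm, ← hxo, pow_orderOf_eq_one]⟩ (pow_mem hxn o)
  obtain ⟨t, rfl⟩ := Nat.odd_iff.2 (Nat.two_dvd_ne_zero.1 ho2)
  have h1 : Commute (x ^ (2 * t + 1)) v := hcomm _ hxe v hv
  have h2 : Commute (x ^ (2 * t)) v := by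
    rw [pow_mul]
    exact Commute.pow_left (mul_inv_eq_iff_eq_mul.1 (hsq x hxC hxn)) t
  have h3 : x = x ^ (2 * t + 1) * (x ^ (2 * t))⁻¹ := by rw [pow_succ', mul_inv_cancel_right]
  rw [h3]
  exact (h1.mul_left h2.inv_left).eq

/-- The odd part of the centraliser of `J` in the stabiliser of `a`. -/
theorem exists_odd_part : ∃ L : Subgroup G, L ≤ centPt a J ∧ Nat.card ↥L = 2 ^ k - 1 ∧
    (∀ g ∈ centPt a J, ∀ x ∈ L, g * x * g⁻¹ ∈ L) ∧ ∀ x ∈ centPt a J, ¬ 2 ∣ orderOf x → x ∈ L := by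
  classical
  haveI : Fact (Nat.Prime 2) := ⟨Nat.prime_two⟩
  set V : Subgroup G := pairStab a b ⊓ Cent J with hV
  obtain ⟨L, hLC, hnorm, -, hmem, hodd⟩ := exists_complement_in (q := 2) (C := centPt a J) (Q := V) T.four_le
    (IsPGroup.of_card (n := 2) (T.setting.card_inf_cent T.invData))
    (fun x hx he hxn => T.four_le_of_pow hx he hxn) fun x hx hxn => T.four_central hx hxn
  refine ⟨L, hLC, ?_, hnorm, hmem⟩
  have hL2 : ¬ 2 ∣ Nat.card ↥L := fun h => by
    obtain ⟨x, hx⟩ := exists_prime_orderOf_dvd_card' (G := ↥L) 2 h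
    exact hodd x x.2 (by rw [Subgroup.orderOf_coe, hx])
  have hd : Nat.card ↥L ∣ 4 * (2 ^ k - 1) := T.card_centPt ▸ Subgroup.card_dvd_of_le hLC
  refine Nat.dvd_antisymm
    ((Nat.Coprime.pow_right 2 ((Nat.prime_two.coprime_iff_not_dvd.2 hL2).symm)).dvd_of_dvd_mul_left
      (by norm_num; exact hd)) ?_
  refine (Nat.dvd_iff_prime_pow_dvd_dvd _ _).2 fun p e hp hpe => ?_
  rcases Nat.eq_zero_or_pos e with rfl | he
  · simp
  haveI := Fact.mk hp
  have hp2 : p ≠ 2 := by
    rintro rfl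
    have h2 : 2 ∣ 2 ^ k - 1 := (dvd_pow_self 2 (by omega)).trans hpe
    have h3 : 2 ∣ 2 ^ k := dvd_pow_self 2 (by have := T.k_pos; omega)
    have := T.two_le_q
    omega
  obtain ⟨P, hP⟩ := Sylow.exists_subgroup_card_pow_prime p (G := ↥(centPt a J))
    (show p ^ e ∣ Nat.card ↥(centPt a J) by rw [T.card_centPt]; exact hpe.mul_left 4)
  have hPL : P.map (centPt a J).subtype ≤ L := by
    rintro _ ⟨x, hx, rfl⟩
    refine hmem _ x.2 fun h2 => ?_
    rw [show ((centPt a J).subtype x) = (x : G) from rfl, Subgroup.orderOf_coe] at h2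
    have h3 := Subgroup.orderOf_dvd_natCard _ hx
    rw [hP] at h3
    exact hp2 ((Nat.prime_dvd_prime_iff_eq Nat.prime_two hp).1
      (Nat.prime_two.dvd_of_dvd_pow (h2.trans h3))).symm
  have := Subgroup.card_dvd_of_le hPL
  rwa [← Nat.card_congr (P.equivMapOfInjective _ (centPt a J).subtype_injective).toEquiv, hP] at this

end ThreeData

end CfsgLib.KimuraFour
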