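import Cfsg.Agent.Lib.Perm.KimuraFour.ThreePoint
import Cfsg.Agent.Lib.Perm.KimuraFour.ThreeEndo
import Cfsg.Agent.Lib.Perm.KimuraFour.OddFPF
import Cfsg.Agent.Lib.LocalEven.Zsigmondy

/-!
# An element of primitive prime order
-/

set_option autoImplicit false

namespace CfsgLib.KimuraFour

open MulAction

/-- The square root of an element of odd order in its cyclic group, inverted by whatever inverts it. -/
theorem exists_half {G : Type*} [Group G] {x : G} (hx : Odd (orderOf x)) :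
    ∃ t ∈ Subgroup.zpowers x, t * t = x ∧ ∀ w : G, w * w = 1 → w * x * w = x⁻¹ → w * t * w = t⁻¹ := by
  obtain ⟨e, he⟩ := hx
  refine ⟨x ^ (e + 1), Subgroup.pow_mem _ (Subgroup.mem_zpowers x) _, ?_, fun w hw h => ?_⟩
  · rw [← pow_add, show e + 1 + (e + 1) = orderOf x + 1 by omega, pow_succ, pow_orderOf_eq_one, one_mul]
  · have hwi : w⁻¹ = w := inv_eq_of_mul_eq_one_right hw
    calc w * x ^ (e + 1) * w = w * x ^ (e + 1) * w⁻¹ := by rw [hwi]
      _ = (w * x * w) ^ (e + 1) := by rw [← conj_pow, hwi]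
      _ = _ := by rw [h, inv_pow]

/-- A subgroup containing every element of odd order of `C` absorbs the odd divisors of `|C|`. -/
theorem dvd_card_of_odd_mem {G : Type*} [Group G] [Finite G] {C M : Subgroup G}
    (hmem : ∀ x ∈ C, ¬ 2 ∣ orderOf x → x ∈ M) {d : ℕ} (hd : d ∣ Nat.card ↥C) (hodd : ¬ 2 ∣ d) :
    d ∣ Nat.card ↥M := by
  refine (Nat.dvd_iff_prime_pow_dvd_dvd _ _).2 fun p e hp hpe => ?_
  rcases Nat.eq_zero_or_pos e with rfl | he
  · simp
  haveI := Fact.mk hp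
  have hp2 : p ≠ 2 := by
    rintro rfl
    exact hodd ((dvd_pow_self 2 (by omega)).trans hpe)
  obtain ⟨P, hP⟩ := Sylow.exists_subgroup_card_pow_prime p (G := ↥C) (hpe.trans hd)
  have hPM : P.map C.subtype ≤ M := by
    rintro _ ⟨x, hx, rfl⟩
    refine hmem _ x.2 fun h2 => ?_
    rw [show C.subtype x = (x : G) from rfl, Subgroup.orderOf_coe] at h2
    have h3 := Subgroup.orderOf_dvd_natCard _ hx
    rw [hP] at h3
    exact hp2 ((Nat.prime_dvd_prime_iff_eq Nat.prime_two hp).1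
      (Nat.prime_two.dvd_of_dvd_pow (h2.trans h3))).symm
  have := Subgroup.card_dvd_of_le hPM
  rwa [← Nat.card_congr (P.equivMapOfInjective _ C.subtype_injective).toEquiv, hP] at this

variable {G : Type*} [Group G] [Finite G] {Ω : Type*} [MulAction G Ω] [Finite Ω] {a b : Ω} {J : G}
  {N : Subgroup G} {k : ℕ}

local notation "Cent" J:max => Subgroup.centralizer (Singleton.singleton J : Set _)

/-- An odd complement of the four-group in the centraliser of `J` fixing `a`. -/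
structure LData (a : Ω) (J : G) (k : ℕ) (L : Subgroup G) : Prop where
  le : L ≤ centPt a J
  card : Nat.card ↥L = 2 ^ k - 1
  norm : ∀ g ∈ centPt a J, ∀ x ∈ L, g * x * g⁻¹ ∈ L
  mem : ∀ x ∈ centPt a J, ¬ 2 ∣ orderOf x → x ∈ L

namespace ThreeData

variable (T : ThreeData G Ω a b J N k)

include T

theorem exists_lData : ∃ L : Subgroup G, LData a J k L := by
  obtain ⟨L, h1, h2, h3, h4⟩ := T.exists_odd_part
  exact ⟨L, h1, h2, h3, h4⟩

theorem odd_q_sub_one : ¬ 2 ∣ 2 ^ k - 1 := by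
  intro h
  have h2 : 2 ∣ 2 ^ k := dvd_pow_self 2 (by have := T.k_pos; omega)
  have := T.two_le_q
  omega

theorem fixN_ne_bot : N ⊓ Cent J ≠ ⊥ := fun h => by
  have h1 := T.card_fixN
  rw [h, Subgroup.card_bot] at h1
  have := T.two_le_q
  omega

variable {L : Subgroup G} (hL : LData a J k L)

include hL

theorem odd_mem {x : G} (hx : x ∈ L) : ¬ 2 ∣ orderOf x := fun h =>
  T.odd_q_sub_one (h.trans (hL.card ▸ Subgroup.orderOf_dvd_natCard _ hx))

theorem le_normalizer_fixN : L ≤ Subgroup.normalizer ((N ⊓ Cent J : Subgroup G) : Set G) := by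
  intro x hx
  refine Subgroup.mem_normalizer_fintype fun n hn => ?_
  have hxJ : x ∈ Cent J := (hL.le hx).2
  exact ⟨T.kernel.normal.conj_mem n hn.1 x, Subgroup.mul_mem _ (Subgroup.mul_mem _ hxJ hn.2) (Subgroup.inv_mem _ hxJ)⟩

theorem fpf : ∀ x ∈ L, x ≠ 1 → (N ⊓ Cent J : Subgroup G) ⊓ Subgroup.centralizer {x} = ⊥ := by
  intro x hx hx1
  refine (Subgroup.eq_bot_iff_forall _).2 fun n hn => ?_
  by_contra hn1
  exact hx1 (T.semiregular (hL.le hx) (Nat.odd_iff.2 (Nat.two_dvd_ne_zero.1 (T.odd_mem hL hx))) hn.1 hn1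
    (Subgroup.mem_centralizer_singleton_iff.1 hn.2).symm)

theorem zpowers_eq {x y : G} (hx : x ∈ L) (hy : y ∈ L) {r : ℕ} (hr : r.Prime) (hxr : orderOf x = r)
    (hyr : orderOf y = r) : Subgroup.zpowers x = Subgroup.zpowers y :=
  zpowers_eq_of_prime_order (T.le_normalizer_fixN hL) (T.fpf hL) T.fixN_ne_bot (by rw [hL.card]; exact T.odd_q_sub_one)
    hx hy hr hxr hyr

/-- An element of the centraliser normalising the four-group is a product. -/
theorem decomp {x : G} (hxC : x ∈ centPt a J)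
    (hxn : x ∈ Subgroup.normalizer ((pairStab a b ⊓ Cent J : Subgroup G) : Set G)) :
    ∃ w ∈ (pairStab a b ⊓ Cent J : Subgroup G), ∃ l ∈ L, x = w * l ∧ l ∈ Subgroup.zpowers x := by
  obtain ⟨e, o, ho2, hxo⟩ := Nat.exists_eq_pow_mul_and_not_dvd (orderOf_pos x).ne' 2 (by norm_num)
  have hxe : x ^ o ∈ (pairStab a b ⊓ Cent J : Subgroup G) := T.four_le_of_pow (pow_mem hxC o)
    ⟨e, by rw [← pow_mul, mul_comm, ← hxo, pow_orderOf_eq_one]⟩ (pow_mem hxn o)
  have hsq : x ^ 2 ∈ L := by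
    refine hL.mem _ (pow_mem hxC 2) fun h2 => ho2 (h2.trans (orderOf_dvd_of_pow_eq_one ?_))
    rw [← pow_mul, mul_comm, pow_mul, pow_two]
    exact (T.setting.mem_cent_iff T.invData hxe.1).1 hxe.2
  obtain ⟨t, rfl⟩ := Nat.odd_iff.2 (Nat.two_dvd_ne_zero.1 ho2)
  refine ⟨x ^ (2 * t + 1), hxe, ((x ^ 2) ^ t)⁻¹, inv_mem (pow_mem hsq t), ?_,
    inv_mem (Subgroup.pow_mem _ (Subgroup.pow_mem _ (Subgroup.mem_zpowers x) 2) t)⟩
  rw [← pow_mul, pow_succ', mul_inv_cancel_right]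

variable {r : ℕ} {ρ : G}

/-- The centraliser of `ρ` in `L` is central in its centraliser fixing `a`. -/
theorem central_of_primitive (hr : r.Prime) (hprim : ∀ e, 0 < e → e < k → ¬ r ∣ 2 ^ e - 1) (hρ : ρ ∈ L)
    (hρr : orderOf ρ = r) {x : G} (hx : x ∈ L) (hxρ : x * ρ = ρ * x) {c : G} (hc : c ∈ stabilizer G a)
    (hcρ : c * ρ = ρ * c) : c * x = x * c := by
  classical
  haveI := T.kernel.normal
  haveI : Fact (Nat.Prime 2) := ⟨Nat.prime_two⟩
  have hJ := mul_self_of_orderOf T.invData.ordJ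
  refine commute_of_irreducible N (stabilizer G a) (fun n hn => by rw [← pow_two]; exact T.kernel.pow n hn)
    T.kernel.comm (fun g hg h => T.eq_one_of_cent_kernel hg h) hJ
    (Subgroup.mem_centralizer_singleton_iff.1 (hL.le hρ).2) (Subgroup.mem_centralizer_singleton_iff.1 (hL.le hx).2)
    hxρ hcρ (hL.le hx).1 hc ?_ T.fixN_ne_bot (Nat.odd_iff.2 (Nat.two_dvd_ne_zero.1 (T.odd_mem hL hx)))
  intro B hB hB1 hinv
  have hBn : Subgroup.zpowers ρ ≤ Subgroup.normalizer (B : Set G) :=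
    Subgroup.zpowers_le.2 (Subgroup.mem_normalizer_fintype fun n hn => hinv n hn)
  have hd := CfsgLib.Core.FPF.card_dvd_pred hBn
    (CfsgLib.Core.FPF.fpf_mono (T.fpf hL) (Subgroup.zpowers_le.2 hρ) hB)
  rw [Nat.card_zpowers, hρr] at hd
  obtain ⟨e, hek, he⟩ := (Nat.dvd_prime_pow Nat.prime_two).1 (T.card_fixN ▸ Subgroup.card_dvd_of_le hB)
  refine Subgroup.eq_of_le_of_card_ge hB ?_
  rw [T.card_fixN, he]
  rcases eq_or_lt_of_le hek with h | h
  · rw [h]
  · exfalso
    rcases Nat.eq_zero_or_pos e with rfl | he0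
    · exact hB1 (Subgroup.card_eq_one.1 (by rw [he, pow_zero]))
    · rw [he] at hd
      exact hprim e he0 h hd

omit hL in
/-- The involutions fixing `a` and commuting with an element of prime order. -/
theorem card_fixed_involutions (hr : r.Prime) (hρa : ρ ∈ stabilizer G a) (hρr : orderOf ρ = r) :
    Nat.card {x : G // x ∈ stabilizer G a ∧ orderOf x = 2 ∧ x * ρ = ρ * x} ≡ 3 * (2 ^ k + 1) [MOD r] := by
  classical
  haveI := Fact.mk hr
  have := Fintype.ofFinite G
  set I := {x : G // x ∈ stabilizer G a ∧ orderOf x = 2}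
  let f : G → (Equiv.Perm G) := fun g => (MulAut.conj g).toEquiv
  have hmem : ∀ x : G, (x ∈ stabilizer G a ∧ orderOf x = 2) ↔
      (ρ * x * ρ⁻¹ ∈ stabilizer G a ∧ orderOf (ρ * x * ρ⁻¹) = 2) := by
    intro x
    rw [orderOf_conj_eq]
    refine and_congr_left fun _ => ⟨fun h => mul_mem (mul_mem hρa h) (inv_mem hρa), fun h => ?_⟩
    have := mul_mem (mul_mem (inv_mem hρa) h) hρa
    rwa [show ρ⁻¹ * (ρ * x * ρ⁻¹) * ρ = x by group] at this
  let σ : Equiv.Perm I := (f ρ).subtypeEquiv hmem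
  have hσ : ∀ (n : ℕ) (x : I), ((σ ^ n) x).1 = ρ ^ n * x.1 * (ρ ^ n)⁻¹ := by
    intro n
    induction n with
    | zero => intro x; simp
    | succ n ih =>
      intro x
      rw [pow_succ', Equiv.Perm.mul_apply]
      show ρ * ((σ ^ n) x).1 * ρ⁻¹ = _
      rw [ih, pow_succ']; group
  have h := Equiv.Perm.card_compl_support_modEq (p := r) (n := 1) (σ := σ) (by
    ext x
    rw [pow_one, hσ, ← hρr, pow_orderOf_eq_one]
    simp)
  have hI : Fintype.card I = 3 * (2 ^ k + 1) := by rw [← Nat.card_eq_fintype_card]; exact T.card_involutions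
  rw [hI] at h
  have he : Nat.card {x : G // x ∈ stabilizer G a ∧ orderOf x = 2 ∧ x * ρ = ρ * x} = σ.supportᶜ.card := by
    rw [← Fintype.card_coe, ← Nat.card_eq_fintype_card]
    exact Nat.card_congr
      { toFun := fun x => ⟨⟨x.1, x.2.1, x.2.2.1⟩, Finset.mem_compl.2 (Equiv.Perm.notMem_support.2
          (Subtype.ext (show ρ * x.1 * ρ⁻¹ = x.1 by rw [← x.2.2.2, mul_inv_cancel_right])))⟩
        invFun := fun x => ⟨x.1.1, x.1.2.1, x.1.2.2, (mul_inv_eq_iff_eq_mul.1
          (congrArg Subtype.val (Equiv.Perm.notMem_support.1 (Finset.mem_compl.1 x.2)) :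
            ρ * x.1.1 * ρ⁻¹ = x.1.1)).symm⟩
        left_inv := fun _ => rfl
        right_inv := fun _ => rfl }
  rw [he]
  exact h

omit hL in
/-- A primitive prime divisor of `2 ^ k - 1`. -/
theorem exists_primitive (h3 : 3 ≤ k) (h6 : k ≠ 6) :
    ∃ r : ℕ, r.Prime ∧ 5 ≤ r ∧ r ∣ 2 ^ k - 1 ∧ ∀ e, 0 < e → e < k → ¬ r ∣ 2 ^ e - 1 := by
  obtain ⟨r, hr, hrd, hp⟩ := CfsgLib.Zsigmondy.exists_primitive_prime_divisor (a := 2) (n := k) one_lt_two
    (by omega) (fun h => h6 h.2) (fun h => by omega)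
  refine ⟨r, hr, ?_, hrd, hp⟩
  by_contra hcon
  have hr3 : r = 3 := by
    have h2 := hr.two_le
    have h4 : ¬ r = 4 := fun h => by subst h; norm_num at hr
    have h2' : ¬ r = 2 := fun h => T.odd_q_sub_one (h ▸ hrd)
    omega
  exact hp 2 (by norm_num) (by omega) (by rw [hr3]; norm_num)

end ThreeData

end CfsgLib.KimuraFour
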